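import Cfsg.Statements.S1492
import Mathlib
import Cfsg.Agent.Lib.CharClifford

set_option autoImplicit false
open Cfsg

namespace Cfsg.Agent.S1492

/-- Let ψ be an irreducible character of the finite group G and B ≤ D ≤ C subgroups with B normal in C, every commutator of an element of D with an element of C lying in B (so D/B is central in C/B), and ψ constant equal to ψ 1 on B. Then ψ(1) ^ 2 * |C| * |D| ≤ |G| ^ 2. -/
theorem result {G : Type*} [Group G] [Finite G] (ψ : G → ℂ) (hψ : Cfsg.IsIrrCharacter G ψ) (B C D : Subgroup G) (hBD : B ≤ D) (hDC : D ≤ C) (hBn : ∀ c ∈ C, ∀ b ∈ B, c * b * c⁻¹ ∈ B) (hcent : ∀ d ∈ D, ∀ c ∈ C, d * c * d⁻¹ * c⁻¹ ∈ B) (hker : ∀ b ∈ B, ψ b = ψ 1) : ‖ψ 1‖ ^ 2 * (Nat.card C : ℝ) * (Nat.card D : ℝ) ≤ (Nat.card G : ℝ) ^ 2 := by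
  classical
  haveI : Fintype G := Fintype.ofFinite G
  haveI : Fintype C := Fintype.ofFinite C
  have hψc := CfsgLib.CharBasic.IsIrrCharacter.isCharacter hψ
  have hψcl := CfsgLib.CharBasic.IsCharacter.isClassFunction hψc
  have hres := CfsgLib.CharBasic.IsCharacter.restrict hψc C
  have hne : (fun c : C => ψ c) ≠ 0 := by
    intro h
    exact CfsgLib.CharBasic.IsIrrCharacter.one_ne_zero hψ (congrFun h 1)
  obtain ⟨φ, hφ⟩ := CfsgLib.CharClifford.exists_constituent hres hne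
  -- B is in the kernel of φ
  have hφB : ∀ b : C, (b : G) ∈ B → (φ : C → ℂ) b = (φ : C → ℂ) 1 := by
    intro b hb
    obtain ⟨m, hm⟩ := CfsgLib.CharBasic.IsCharacter.exists_nat_coeff hres
    have hmφ : (m φ : ℝ) ≠ 0 := by
      intro h
      apply hφ
      rw [hm, CfsgLib.CharBasic.classInner_sum_smul_left]
      exact_mod_cast h
    have hv : ∀ c : C, ψ c = ∑ χ : Cfsg.IrrCharacter C, (m χ : ℂ) * (χ : C → ℂ) c := by
      intro c
      have := congrFun hm c
      simpa [Finset.sum_apply] using this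
    have h1 : (∑ χ : Cfsg.IrrCharacter C, (m χ : ℝ) * ((χ : C → ℂ) b).re) = ∑ χ : Cfsg.IrrCharacter C, (m χ : ℝ) * ((χ : C → ℂ) 1).re := by
      have e1 := congrArg Complex.re (hv b)
      have e2 := congrArg Complex.re (hv 1)
      rw [hker _ hb] at e1
      simp only [Subgroup.coe_one] at e2
      rw [e1, Complex.re_sum, Complex.re_sum] at e2
      simpa using e2
    have hle : ∀ χ : Cfsg.IrrCharacter C, ((χ : C → ℂ) b).re ≤ ((χ : C → ℂ) 1).re := by
      intro χ
      obtain ⟨d, -, hd⟩ := CfsgLib.CharBasic.IsIrrCharacter.exists_pos χ.2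
      calc _ ≤ ‖(χ : C → ℂ) b‖ := Complex.re_le_norm _
        _ ≤ ‖(χ : C → ℂ) 1‖ := CfsgLib.CharBasic.IsCharacter.norm_le (CfsgLib.CharBasic.irr_isCharacter χ) b
        _ = ((χ : C → ℂ) 1).re := by rw [hd]; simp
    have h2 := (Finset.sum_eq_sum_iff_of_le (fun χ _ => mul_le_mul_of_nonneg_left (hle χ) (Nat.cast_nonneg (m χ)))).mp h1 φ (Finset.mem_univ _)
    have h3 : ((φ : C → ℂ) b).re = ((φ : C → ℂ) 1).re := mul_left_cancel₀ hmφ h2
    obtain ⟨d, -, hd⟩ := CfsgLib.CharBasic.IsIrrCharacter.exists_pos φ.2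
    have h6 : ‖(φ : C → ℂ) b‖ ≤ ‖(φ : C → ℂ) 1‖ := CfsgLib.CharBasic.IsCharacter.norm_le (CfsgLib.CharBasic.irr_isCharacter φ) _
    have h7 : ‖(φ : C → ℂ) 1‖ = ((φ : C → ℂ) 1).re := by rw [hd]; simp
    have h8 : ((φ : C → ℂ) b).im = 0 := by
      have e1 : ‖(φ : C → ℂ) b‖ ^ 2 = ((φ : C → ℂ) b).re ^ 2 + ((φ : C → ℂ) b).im ^ 2 := by
        rw [← Complex.normSq_eq_norm_sq, Complex.normSq_apply]; ring
      have e2 : ‖(φ : C → ℂ) b‖ ^ 2 ≤ ((φ : C → ℂ) 1).re ^ 2 := by
        rw [← h7]; exact pow_le_pow_left₀ (norm_nonneg _) h6 2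
      rw [e1, h3] at e2
      nlinarith [sq_nonneg ((φ : C → ℂ) b).im]
    apply Complex.ext
    · exact h3
    · rw [h8, hd]; simp
  -- elements of D are in the centre of φ
  have hφD : ∀ d : C, (d : G) ∈ D → ‖(φ : C → ℂ) d‖ = ‖(φ : C → ℂ) 1‖ := by
    intro d hd
    haveI hN : (CfsgLib.CharBasic.charKer (CfsgLib.CharBasic.irr_isCharacter φ)).Normal := CfsgLib.CharBasic.charKer_normal _
    obtain ⟨φ', hφ', hφφ'⟩ := CfsgLib.CharBasic.IsIrrCharacter.exists_quotient φ.2 (CfsgLib.CharBasic.charKer (CfsgLib.CharBasic.irr_isCharacter φ)) (fun n hn => hn)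
    have hdz : (QuotientGroup.mk' (CfsgLib.CharBasic.charKer (CfsgLib.CharBasic.irr_isCharacter φ))) d ∈ Subgroup.center _ := by
      rw [Subgroup.mem_center_iff]
      intro g
      obtain ⟨c, rfl⟩ := QuotientGroup.mk'_surjective _ g
      rw [← map_mul, ← map_mul]
      have hcd : ((d * c * d⁻¹ * c⁻¹ : C) : G) ∈ B := by
        have := hcent d hd c c.2
        simpa using this
      have h1 := hφB _ hcd
      have h2 : (d * c * d⁻¹ * c⁻¹ : C) ∈ CfsgLib.CharBasic.charKer (CfsgLib.CharBasic.irr_isCharacter φ) := h1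
      have h3 : d * c = (d * c * d⁻¹ * c⁻¹) * (c * d) := by group
      rw [h3]
      have h4 : (QuotientGroup.mk' (CfsgLib.CharBasic.charKer (CfsgLib.CharBasic.irr_isCharacter φ))) (d * c * d⁻¹ * c⁻¹) = 1 := by
        rw [QuotientGroup.mk'_apply, QuotientGroup.eq_one_iff]
        exact h2
      rw [map_mul _ (d * c * d⁻¹ * c⁻¹) (c * d), h4, one_mul]
    have h5 := CfsgLib.CharBasic.IsIrrCharacter.norm_of_mem_center hφ' hdz
    rw [hφφ']
    simpa using h5
  obtain ⟨n, -, hn⟩ := CfsgLib.CharBasic.IsIrrCharacter.exists_pos φ.2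
  have h10 := CfsgLib.CharBasic.IsIrrCharacter.sq_degree_le_index φ.2 hn (D.subgroupOf C) (by
    intro a ha
    exact hφD a (Subgroup.mem_subgroupOf.mp ha))
  -- ψ(1) ≤ [G:C] φ(1)
  have h11 : Cfsg.classInner (Cfsg.indFun C (φ : C → ℂ)) ψ ≠ 0 := by
    rw [CfsgLib.CharInd.frobenius C _ hψcl]
    intro h
    apply hφ
    rw [← CfsgLib.CharBasic.classInner_conj_symm, h, map_zero]
  have h12 := (CfsgLib.CharClifford.constituent_degree_le (CfsgLib.CharInd.isCharacter_indFun C (CfsgLib.CharBasic.irr_isCharacter φ)) hψ h11).1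
  rw [CfsgLib.CharInd.indFun_one, hn] at h12
  obtain ⟨m, -, hm⟩ := CfsgLib.CharBasic.IsIrrCharacter.exists_pos hψ
  rw [hm] at h12 ⊢
  have h13 : (m : ℝ) ≤ C.index * n := by
    have : ((m : ℂ)).re ≤ ((C.index : ℂ) * n).re := h12
    simpa using this
  have h14 : Nat.card D * (D.subgroupOf C).index = Nat.card C := by
    have := Subgroup.card_mul_index (D.subgroupOf C)
    rw [← this]
    congr 1
    exact (Nat.card_congr (Subgroup.subgroupOfEquivOfLe hDC).toEquiv).symm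
  have h15 : Nat.card C * C.index = Nat.card G := Subgroup.card_mul_index C
  have h16 : ((n : ℝ)) ^ 2 ≤ (D.subgroupOf C).index := by exact_mod_cast h10
  have h17 : (Nat.card D : ℝ) * (D.subgroupOf C).index = Nat.card C := by exact_mod_cast h14
  have h18 : (Nat.card C : ℝ) * C.index = Nat.card G := by exact_mod_cast h15
  have hm0 : ‖((m : ℂ))‖ = (m : ℝ) := by simp
  rw [hm0]
  have hmn : (m : ℝ) ^ 2 ≤ (C.index : ℝ) ^ 2 * (D.subgroupOf C).index := by
    calc (m : ℝ) ^ 2 ≤ (C.index * n : ℝ) ^ 2 := by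
          apply pow_le_pow_left₀ (Nat.cast_nonneg m) h13
      _ = (C.index : ℝ) ^ 2 * (n : ℝ) ^ 2 := by ring
      _ ≤ _ := by
          apply mul_le_mul_of_nonneg_left h16
          positivity
  calc (m : ℝ) ^ 2 * Nat.card C * Nat.card D ≤ ((C.index : ℝ) ^ 2 * (D.subgroupOf C).index) * Nat.card C * Nat.card D := by
        gcongr
    _ = (C.index : ℝ) ^ 2 * Nat.card C * ((Nat.card D : ℝ) * (D.subgroupOf C).index) := by ring
    _ = (C.index : ℝ) ^ 2 * Nat.card C * Nat.card C := by rw [h17]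
    _ = ((Nat.card C : ℝ) * C.index) ^ 2 := by ring
    _ = _ := by rw [h18]

end Cfsg.Agent.S1492
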