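import Cfsg.Statements.S1487
import Mathlib
import Cfsg.Agent.Lib.CharClifford

set_option autoImplicit false
open Cfsg

namespace Cfsg.Agent.S1487

/-- Let A ≤ H be normal subgroups of the finite group G and θ an irreducible character of H. Then θ takes the value θ 1 on all of A if and only if the function induced from θ to G takes its value at 1 on all of A. -/
theorem result {G : Type*} [Group G] [Fintype G] (A H : Subgroup G) [A.Normal] [H.Normal] (hAH : A ≤ H) (θ : H → ℂ) (hθ : Cfsg.IsIrrCharacter H θ) : (∀ a : H, (a : G) ∈ A → θ a = θ 1) ↔ (∀ a : G, a ∈ A → Cfsg.indFun H θ a = Cfsg.indFun H θ 1) := by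
  classical
  haveI hHn : H.Normal := inferInstance
  haveI hAn : A.Normal := inferInstance
  have hθc := CfsgLib.CharBasic.IsIrrCharacter.isCharacter hθ
  have hcard := CfsgLib.CharInd.card_sub_ne_zero H
  obtain ⟨d, hd, hd1⟩ := CfsgLib.CharBasic.IsIrrCharacter.exists_pos hθ
  have hval : ∀ a : G, ∀ ha : a ∈ A, Cfsg.indFun H θ a = (Nat.card H : ℂ)⁻¹ * ∑ x : G, CfsgLib.CharClifford.conjFn x θ ⟨a, hAH ha⟩ :=
    fun a ha => CfsgLib.CharClifford.indFun_res_apply θ ⟨a, hAH ha⟩
  have hval1 : Cfsg.indFun H θ 1 = (Nat.card H : ℂ)⁻¹ * ∑ x : G, θ 1 := by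
    rw [hval 1 A.one_mem]
    congr 1
    exact Finset.sum_congr rfl fun x _ => CfsgLib.CharClifford.conjFn_apply_one x θ
  constructor
  · intro h a ha
    rw [hval a ha, hval1]
    congr 1
    apply Finset.sum_congr rfl
    intro x _
    exact h _ (hAn.conj_mem a ha x)
  · intro h a ha
    have h1 := h a ha
    rw [hval a ha, hval1] at h1
    have h2 := mul_left_cancel₀ (inv_ne_zero hcard) h1
    -- real parts
    have h3 : ∑ x : G, (CfsgLib.CharClifford.conjFn x θ ⟨(a : G), hAH ha⟩).re = ∑ x : G, (θ 1).re := by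
      have := congrArg Complex.re h2
      simpa using this
    have h4 : ∀ x : G, (CfsgLib.CharClifford.conjFn x θ ⟨(a : G), hAH ha⟩).re ≤ (θ 1).re := by
      intro x
      calc _ ≤ ‖CfsgLib.CharClifford.conjFn x θ ⟨(a : G), hAH ha⟩‖ := Complex.re_le_norm _
        _ ≤ ‖θ 1‖ := CfsgLib.CharBasic.IsCharacter.norm_le hθc _
        _ = (θ 1).re := by rw [hd1]; simp
    have h5 := (Finset.sum_eq_sum_iff_of_le (fun x _ => h4 x)).mp h3 1 (Finset.mem_univ _)
    rw [CfsgLib.CharClifford.conjFn_one] at h5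
    have h6 : ‖θ a‖ ≤ ‖θ 1‖ := CfsgLib.CharBasic.IsCharacter.norm_le hθc _
    have h5' : (θ a).re = (θ 1).re := h5
    have h7 : ‖θ 1‖ = (θ 1).re := by rw [hd1]; simp
    have h8 : (θ a).im = 0 := by
      have e1 : ‖θ a‖ ^ 2 = (θ a).re ^ 2 + (θ a).im ^ 2 := by
        rw [← Complex.normSq_eq_norm_sq, Complex.normSq_apply]; ring
      have e2 : ‖θ a‖ ^ 2 ≤ (θ 1).re ^ 2 := by
        rw [← h7]; exact pow_le_pow_left₀ (norm_nonneg _) h6 2
      rw [e1, h5'] at e2
      nlinarith [sq_nonneg (θ a).im]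
    apply Complex.ext
    · exact h5'
    · rw [h8, hd1]; simp

end Cfsg.Agent.S1487
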