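import Cfsg.Statements.S5394
import Cfsg.Agent.Lib.GolayCnt

set_option autoImplicit false
open Cfsg

namespace Cfsg.Agent.S5394

section
open Cfsg CfsgLib.Golay
open scoped Pointwise
theorem tab_cases : ∀ e ∈ ctab2, e.2.2 = r2A ∨ e.2.2 = r2B := by
  have h : ctab2.all (fun e => or (Nat.beq e.2.2 r2A) (Nat.beq e.2.2 r2B)) = true := by decide +kernel
  intro e he
  have := List.all_eq_true.mp h e he
  simpa only [Bool.or_eq_true, Nat.beq_eq] using this
theorem cls {g : Equiv.Perm GolayPt} (hg : g ∈ M24) (h2 : orderOf g = 2) :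
    (∃ k ∈ M24, Packs r2A (k * g * k⁻¹) ∧ ∀ p, g p ≠ p) ∨
    (∃ k ∈ M24, Packs r2B (k * g * k⁻¹) ∧ (Finset.univ.filter fun p => g p = p) ∈ octads) := by
  have h1 : g ≠ 1 := by rintro rfl; simp at h2
  obtain ⟨-, -, e, he, -, k, hk, h⟩ := class2 hg (by rw [← h2]; exact pow_orderOf_eq_one g) h1
  rcases tab_cases e he with h3 | h3
  · rw [h3] at h
    left
    refine ⟨k, hk, h, ?_⟩
    have h4 := fix_eq (m := 0) (by decide +kernel) h
    intro p hp
    have h5 : k p ∈ (Finset.univ.filter fun p => (k * g * k⁻¹) p = p) := by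
      rw [fix_conj]; exact mem_smul_iff.mpr (Finset.mem_filter.mpr ⟨Finset.mem_univ _, hp⟩)
    rw [h4, toFS_zero] at h5
    simp at h5
  · rw [h3] at h
    right
    refine ⟨k, hk, h, ?_⟩
    have h4 := fix_eq (m := 0x99590) (by decide +kernel) h
    rw [fix_conj] at h4
    rw [← smul_mem_octads hk, h4, mem_octads_iff, mask_toFS (by norm_num)]
    decide +kernel
theorem oct_ne {s : Finset GolayPt} (hs : s ∈ octads) : s.Nonempty := by
  rw [← Finset.card_pos, card_octad hs]; norm_num
end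


/-- The automorphism group of the length-24 code built from the squares modulo 23 has exactly two conjugacy classes of involutions: an involution either fixes exactly the eight points of an octad or has no fixed points, both kinds occur, and any two involutions of the same kind are conjugate in the group. -/
theorem result : (∀ g ∈ Cfsg.M24, orderOf g = 2 → (Finset.univ.filter fun p => g p = p) ∈ Cfsg.octads ∨ ∀ p, g p ≠ p) ∧ (∃ g ∈ Cfsg.M24, orderOf g = 2 ∧ (Finset.univ.filter fun p => g p = p) ∈ Cfsg.octads) ∧ (∃ g ∈ Cfsg.M24, orderOf g = 2 ∧ ∀ p, g p ≠ p) ∧ ∀ g ∈ Cfsg.M24, ∀ h ∈ Cfsg.M24, orderOf g = 2 → orderOf h = 2 → ((∀ p, g p ≠ p) ↔ (∀ p, h p ≠ p)) → ∃ k ∈ Cfsg.M24, k * g * k⁻¹ = h := by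
  classical
  have goodA : CfsgLib.Golay.good CfsgLib.Golay.r2A = true := by decide +kernel
  have goodB : CfsgLib.Golay.good CfsgLib.Golay.r2B = true := by decide +kernel
  refine ⟨?_, ?_, ?_, ?_⟩
  · intro g hg h2
    rcases cls hg h2 with ⟨_, _, _, h⟩ | ⟨_, _, _, h⟩
    · right; exact h
    · left; exact h
  · obtain ⟨g, hg, hgp⟩ := CfsgLib.Golay.exists_of_good goodB
    have h2 : orderOf g = 2 := by
      apply orderOf_eq_prime
      · ext1 p
        apply CfsgLib.Golay.idx_injective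
        have h := CfsgLib.Golay.iter_spec hgp 2 p
        rw [← h, Equiv.Perm.one_apply]
        have key : CfsgLib.Golay.ordB 2 CfsgLib.Golay.r2B = true := by decide +kernel
        exact Nat.eq_of_beq_eq_true (List.all_eq_true.mp key _ (CfsgLib.Golay.mem_ixs.mpr (CfsgLib.Golay.idx_lt p)))
      · rintro rfl
        have := hgp (CfsgLib.Golay.pt 0)
        revert this; decide +kernel
    refine ⟨g, hg, h2, ?_⟩
    rcases cls hg h2 with ⟨_, _, _, h⟩ | ⟨_, _, _, h⟩
    · exfalso
      have h4 := CfsgLib.Golay.fix_eq (m := 0x99590) (by decide +kernel) hgp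
      have : (Finset.univ.filter fun p => g p = p) = ∅ := by
        rw [Finset.filter_eq_empty_iff]; intro p _; exact h p
      rw [this] at h4
      have h5 := congrArg CfsgLib.Golay.mask h4
      rw [CfsgLib.Golay.mask_toFS (by norm_num), CfsgLib.Golay.mask_empty] at h5
      norm_num at h5
    · exact h
  · obtain ⟨g, hg, hgp⟩ := CfsgLib.Golay.exists_of_good goodA
    have h2 : orderOf g = 2 := by
      apply orderOf_eq_prime
      · ext1 p
        apply CfsgLib.Golay.idx_injective
        have h := CfsgLib.Golay.iter_spec hgp 2 p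
        rw [← h, Equiv.Perm.one_apply]
        have key : CfsgLib.Golay.ordB 2 CfsgLib.Golay.r2A = true := by decide +kernel
        exact Nat.eq_of_beq_eq_true (List.all_eq_true.mp key _ (CfsgLib.Golay.mem_ixs.mpr (CfsgLib.Golay.idx_lt p)))
      · rintro rfl
        have := hgp (CfsgLib.Golay.pt 0)
        revert this; decide +kernel
    refine ⟨g, hg, h2, ?_⟩
    rcases cls hg h2 with ⟨_, _, _, h⟩ | ⟨_, _, _, h⟩
    · exact h
    · exfalso
      have h4 := CfsgLib.Golay.fix_eq (m := 0) (by decide +kernel) hgp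
      rw [h4, CfsgLib.Golay.toFS_zero] at h
      have := oct_ne h
      simp at this
  · intro g hg h hh h2 h2' hiff
    have key : ∀ {T : ℕ} {k k' : Equiv.Perm Cfsg.GolayPt}, k ∈ Cfsg.M24 → k' ∈ Cfsg.M24 →
        CfsgLib.Golay.Packs T (k * g * k⁻¹) → CfsgLib.Golay.Packs T (k' * h * k'⁻¹) →
        ∃ k ∈ Cfsg.M24, k * g * k⁻¹ = h := by
      intro T k k' hk hk' h3 h4
      have h5 := h3.eq h4
      refine ⟨k'⁻¹ * k, mul_mem (inv_mem hk') hk, ?_⟩
      have : k'⁻¹ * k * g * (k'⁻¹ * k)⁻¹ = k'⁻¹ * (k * g * k⁻¹) * k' := by group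
      rw [this, h5]; group
    rcases cls hg h2 with ⟨k, hk, hp, h1⟩ | ⟨k, hk, hp, h1⟩ <;>
      rcases cls hh h2' with ⟨k', hk', hp', h1'⟩ | ⟨k', hk', hp', h1'⟩
    · exact key hk hk' hp hp'
    · exfalso
      obtain ⟨p, hp2⟩ := oct_ne h1'
      exact (hiff.mp h1) p (Finset.mem_filter.mp hp2).2
    · exfalso
      obtain ⟨p, hp2⟩ := oct_ne h1
      exact (hiff.mpr h1') p (Finset.mem_filter.mp hp2).2
    · exact key hk hk' hp hp'

end Cfsg.Agent.S5394
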