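import Cfsg.Statements.S5602
import Cfsg.Agent.Lib.GolayCnt

set_option autoImplicit false
open scoped Pointwise
open Cfsg

namespace Cfsg.Agent.S5602

section
open Cfsg CfsgLib.Golay
open scoped Pointwise
theorem tab_cases : ∀ e ∈ ctab3, e.2.2 = r3A ∨ e.2.2 = r3B := by
  have h : ctab3.all (fun e => or (Nat.beq e.2.2 r3A) (Nat.beq e.2.2 r3B)) = true := by decide +kernel
  intro e he
  have := List.all_eq_true.mp h e he
  simpa only [Bool.or_eq_true, Nat.beq_eq] using this
theorem cls {g : Equiv.Perm GolayPt} (hg : g ∈ M24) (h2 : orderOf g = 3) :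
    (∃ k ∈ M24, Packs r3A (k * g * k⁻¹) ∧ (Finset.univ.filter fun p => g p = p).card = 6) ∨
    (∃ k ∈ M24, Packs r3B (k * g * k⁻¹) ∧ (Finset.univ.filter fun p => g p = p).card = 0) := by
  have h1 : g ≠ 1 := by rintro rfl; simp at h2
  obtain ⟨-, -, e, he, -, k, hk, h⟩ := class3 hg (by rw [← h2]; exact pow_orderOf_eq_one g) h1
  rcases tab_cases e he with h3 | h3
  · rw [h3] at h
    left
    refine ⟨k, hk, h, ?_⟩
    have h4 := fix_eq (m := 0x3f) (by decide +kernel) h
    rw [← card_fix_conj k, h4, card_eq_pop, mask_toFS (by norm_num)]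
    decide +kernel
  · rw [h3] at h
    right
    refine ⟨k, hk, h, ?_⟩
    have h4 := fix_eq (m := 0) (by decide +kernel) h
    rw [← card_fix_conj k, h4, card_eq_pop, mask_toFS (by norm_num)]
    decide +kernel
end


/-- An element of order 3 of the group of the length-24 code having exactly 6 fixed points maps to themselves exactly 21 octads, exactly 15 trios, exactly 16 sextets and exactly 20 dodecads. -/
theorem result (g : Equiv.Perm Cfsg.GolayPt) (hg : g ∈ Cfsg.M24) (h₃ : orderOf g = 3) (h₆ : (Finset.univ.filter fun p => g p = p).card = 6) : {o : Finset Cfsg.GolayPt | o ∈ Cfsg.octads ∧ g • o = o}.ncard = 21 ∧ {T : Finset (Finset Cfsg.GolayPt) | T ∈ Cfsg.trios ∧ g • T = T}.ncard = 15 ∧ {S : Finset (Finset Cfsg.GolayPt) | S ∈ Cfsg.sextets ∧ g • S = S}.ncard = 16 ∧ {d : Finset Cfsg.GolayPt | d ∈ Cfsg.dodecads ∧ g • d = d}.ncard = 20 := by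
  rcases cls hg h₃ with ⟨k, hk, hp, h1⟩ | ⟨_, _, _, h1⟩
  · have hM : k * g * k⁻¹ ∈ Cfsg.M24 := mul_mem (mul_mem hk hg) (inv_mem hk)
    refine ⟨?_, ?_, ?_, ?_⟩
    · rw [Cfsg.octads, CfsgLib.Golay.fixed_code_conj hk]
      exact CfsgLib.Golay.fixed_code hp (by decide +kernel)
    · rw [CfsgLib.Golay.fixed_fam_conj (CfsgLib.Golay.trios_smul_iff hk)]
      exact CfsgLib.Golay.fixed_trio hM hp (by decide +kernel)
    · rw [CfsgLib.Golay.fixed_fam_conj (CfsgLib.Golay.sextets_smul_iff hk)]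
      exact CfsgLib.Golay.fixed_sextet hM hp (by decide +kernel)
    · rw [Cfsg.dodecads, CfsgLib.Golay.fixed_code_conj hk]
      exact CfsgLib.Golay.fixed_code hp (by decide +kernel)
  · rw [h₆] at h1; norm_num at h1

end Cfsg.Agent.S5602
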