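import Cfsg.Statements.S5522
import Cfsg.Agent.Lib.GolayCnt
import Cfsg.Agent.Lib.GolayDod
import Cfsg.Agent.S5602
import Cfsg.Agent.S5394

set_option autoImplicit false
open Cfsg

open scoped Pointwise
set_option linter.style.haveILetI false
namespace Cfsg.Agent.S5522

section
open Cfsg CfsgLib.Golay
open scoped Pointwise
theorem sqD : Spor.squareDodecad ∈ dodecads := by
  have h : Spor.squareDodecad = toFS 0x5335f := by
    rw [Spor.squareDodecad, support₂_qrWord]
    rfl
  rw [h, mem_dodecads_iff, mask_toFS (by norm_num)]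
  decide +kernel
/-- fixed points of an element of prime order on an invariant set -/
theorem fix_mod {g : Equiv.Perm GolayPt} {p : ℕ} (hp : p.Prime) (hgp : g ^ p = 1) {D : Finset GolayPt} (hD : g • D = D) :
    D.card ≡ (D.filter fun x => g x = x).card [MOD p] := by
  classical
  haveI : Fact p.Prime := ⟨hp⟩
  have hm : ∀ x, x ∈ D → g x ∈ D := fun x hx => by rw [← hD]; exact mem_smul_iff.mpr hx
  let f : Function.End {x // x ∈ D} := fun z => ⟨g z, hm z z.2⟩
  have hf : f ^ p ^ 1 = 1 := by
    rw [pow_one]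
    have key : ∀ n : ℕ, ∀ z : {x // x ∈ D}, (((f ^ n) z : {x // x ∈ D}) : GolayPt) = (g ^ n) z := by
      intro n
      induction n with
      | zero => intro z; rfl
      | succ n ih => intro z; rw [pow_succ, pow_succ]; exact ih (f z)
    funext z
    apply Subtype.ext
    rw [key p z, hgp]; rfl
  have h3 := Equiv.Perm.card_fixedPoints_modEq hf
  rw [Fintype.card_coe] at h3
  have h4 : Fintype.card (Function.fixedPoints f) = (D.filter fun x => g x = x).card := by
    rw [← Fintype.card_coe]
    apply Fintype.card_congr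
    refine ⟨fun z => ⟨z.1.1, Finset.mem_filter.mpr ⟨z.1.2, congrArg Subtype.val z.2⟩⟩,
      fun z => ⟨⟨z.1, (Finset.mem_filter.mp z.2).1⟩, Subtype.ext (Finset.mem_filter.mp z.2).2⟩, fun z => rfl, fun z => rfl⟩
  rw [h4] at h3
  exact h3
end


/-- The Mathieu group M₁₁, realised as the stabiliser of one point of the dodecad of squares inside the stabiliser M₁₂ of that dodecad in M₂₄, acts on the twelve coordinate positions outside the dodecad of squares (its 3-transitive action of degree 12); in this action every element of prime order fixes a point, i.e. the action is elusive. -/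
theorem result (g : Equiv.Perm Cfsg.GolayPt) (hg : g ∈ Cfsg.Spor.M11) (hord : (orderOf g).Prime) :
    ∃ x : Cfsg.GolayPt, x ∉ Cfsg.Spor.squareDodecad ∧ g x = x := by
  classical
  obtain ⟨⟨hM, hD⟩, h0⟩ := hg
  have hD' : g • Cfsg.Spor.squareDodecad = Cfsg.Spor.squareDodecad := hD
  have h0' : g (some 0) = some 0 := h0
  have hd := sqD
  have h12 : Cfsg.Spor.squareDodecad.card = 12 := hd.2
  have hDc : g • (Cfsg.Spor.squareDodecad)ᶜ = (Cfsg.Spor.squareDodecad)ᶜ := by rw [CfsgLib.Golay.smul_compl, hD']
  have h12c : (Cfsg.Spor.squareDodecad)ᶜ.card = 12 := (CfsgLib.Golay.compl_mem_dodecads hd).2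
  have h0D : (some 0 : Cfsg.GolayPt) ∈ Cfsg.Spor.squareDodecad := by
    have h : Cfsg.Spor.squareDodecad = CfsgLib.Golay.toFS 0x5335f := by
      rw [Cfsg.Spor.squareDodecad, CfsgLib.Golay.support₂_qrWord]
      rfl
    rw [h, CfsgLib.Golay.mem_toFS]
    decide +kernel
  have hpow : g ^ orderOf g = 1 := pow_orderOf_eq_one g
  have h1 := fix_mod hord hpow hDc
  by_contra hcon
  push Not at hcon
  have hempty : ((Cfsg.Spor.squareDodecad)ᶜ.filter fun x => g x = x).card = 0 := by
    rw [Finset.card_eq_zero, Finset.filter_eq_empty_iff]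
    intro x hx
    exact hcon x (Finset.mem_compl.mp hx)
  rw [hempty, h12c] at h1
  have h2 : orderOf g ∣ 12 := (Nat.modEq_zero_iff_dvd.mp h1)
  have h3 : orderOf g = 2 ∨ orderOf g = 3 := by
    have h4 : orderOf g ∣ 2 ^ 2 * 3 := h2
    rcases (Nat.Prime.dvd_mul hord).mp h4 with h5 | h5
    · left; exact (Nat.prime_dvd_prime_iff_eq hord Nat.prime_two).mp (hord.dvd_of_dvd_pow h5)
    · right; exact (Nat.prime_dvd_prime_iff_eq hord Nat.prime_three).mp h5
  rcases h3 with h3 | h3
  · rcases Cfsg.Agent.S5394.cls hM h3 with ⟨_, _, _, h⟩ | ⟨_, _, _, h⟩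
    · exact h _ h0'
    · have h5 : (Finset.univ.filter fun p => g p = p) ⊆ Cfsg.Spor.squareDodecad := by
        intro x hx
        by_contra hxD
        exact hcon x hxD (Finset.mem_filter.mp hx).2
      have h6 := CfsgLib.Golay.octad_inter_dodecad h hd
      rw [Finset.inter_eq_left.mpr h5, CfsgLib.Golay.card_octad h] at h6
      omega
  · rcases Cfsg.Agent.S5602.cls hM h3 with ⟨_, _, _, h⟩ | ⟨_, _, _, h⟩
    · have h5 : (Finset.univ.filter fun p => g p = p) ⊆ Cfsg.Spor.squareDodecad := by
        intro x hx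
        by_contra hxD
        exact hcon x hxD (Finset.mem_filter.mp hx).2
      obtain ⟨l, hl, hl5, hlm⟩ := CfsgLib.Golay.exists_list_of_le_card (s := (Finset.univ.filter fun p => g p = p)) (n := 5) (by omega)
      have h6 := CfsgLib.Golay.dod_unique hd hM hD' hl (fun p hp => h5 (hlm p hp)) hl5
        (fun p hp => (Finset.mem_filter.mp (hlm p hp)).2)
      rw [h6] at h3; simp at h3
    · rw [Finset.card_eq_zero, Finset.filter_eq_empty_iff] at h
      exact h (Finset.mem_univ _) h0'

end Cfsg.Agent.S5522
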