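import Cfsg.Statements.S0077
import Cfsg.Agent.Lib.Transfer

set_option autoImplicit false
open Cfsg

open scoped Pointwise
namespace Cfsg.Agent.S0077

/-- If a subgroup Z of the centre of a Sylow p-subgroup P is weakly closed in P, then P meets the derived subgroup of G exactly where it meets the derived subgroup of the normalizer of Z. -/
theorem result {G : Type*} [Group G] [Finite G] {p : ℕ} [Fact p.Prime] (P : Sylow p G) (Z : Subgroup G) (hZ : Z ≤ Subgroup.centralizer (P : Set G)) (hW : Cfsg.IsWeaklyClosed Z P) : commutator G ⊓ (P : Subgroup G) = ⁅Subgroup.normalizer (Z : Set G), Subgroup.normalizer (Z : Set G)⁆ ⊓ (P : Subgroup G) := by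
  have hPZ : (P : Subgroup G) ≤ Subgroup.centralizer (Z : Set G) := Subgroup.le_centralizer_iff.mp hZ
  refine CfsgLib.Transfer.commutator_inf_eq_of_control P _ (hPZ.trans (Subgroup.centralizer_le_normalizer _)) ?_
  intro x hx g hg
  -- Z and g⁻¹ Z g lie in C(x)
  have h1 : Z ≤ Subgroup.centralizer {x} := by
    intro z hz
    rw [Subgroup.mem_centralizer_iff]
    intro y hy
    rw [Set.mem_singleton_iff.mp hy]
    exact Subgroup.mem_centralizer_iff.mp (hZ hz) _ hx
  have h2 : MulAut.conj g⁻¹ • Z ≤ Subgroup.centralizer {x} := by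
    intro z hz
    rw [CfsgLib.SZ.mem_conj_iff, inv_inv] at hz
    rw [Subgroup.mem_centralizer_iff]
    intro y hy
    rw [Set.mem_singleton_iff.mp hy]
    have h3 := Subgroup.mem_centralizer_iff.mp (hZ hz) _ hg
    have h4 : g * (x * z) * g⁻¹ = g * (z * x) * g⁻¹ := by
      calc g * (x * z) * g⁻¹ = g * x * g⁻¹ * (g * z * g⁻¹) := by group
        _ = _ := h3
        _ = _ := by group
    exact mul_left_cancel (mul_right_cancel h4)
  have hZp : IsPGroup p Z := P.isPGroup'.to_le hW.1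
  have hZp' : IsPGroup p (MulAut.conj g⁻¹ • Z : Subgroup G) := hZp.map _
  obtain ⟨R1, hR1, hZR1⟩ := CfsgLib.Coprime.exists_isSyl_ge h1 hZp
  obtain ⟨R2, hR2, hZR2⟩ := CfsgLib.Coprime.exists_isSyl_ge h2 hZp'
  obtain ⟨c, hc, hcR⟩ := hR2.exists_conj hR1
  obtain ⟨S, hS⟩ := hR1.isPGroup.exists_le_sylow
  obtain ⟨h, hh⟩ := MulAction.exists_smul_eq G S P
  have hhS : MulAut.conj h • (S : Subgroup G) = P := congrArg Sylow.toSubgroup hh
  have e1 : MulAut.conj h • Z = Z := by
    apply hW.2 h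
    show MulAut.conj h • Z ≤ P
    rw [← hhS]
    exact Subgroup.pointwise_smul_le_pointwise_smul_iff.mpr (hZR1.trans hS)
  have e2 : MulAut.conj (h * c * g⁻¹) • Z = Z := by
    apply hW.2 (h * c * g⁻¹)
    show MulAut.conj (h * c * g⁻¹) • Z ≤ P
    rw [map_mul, map_mul, mul_smul, mul_smul, ← hhS]
    refine Subgroup.pointwise_smul_le_pointwise_smul_iff.mpr (le_trans ?_ hS)
    rw [← hcR]
    exact Subgroup.pointwise_smul_le_pointwise_smul_iff.mpr hZR2
  have m1 := CfsgLib.Transfer.mem_normalizer_of_conj_eq e1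
  have m2 := CfsgLib.Transfer.mem_normalizer_of_conj_eq e2
  have m3 : g * c⁻¹ ∈ Subgroup.normalizer (Z : Set G) := by
    have := Subgroup.mul_mem _ (Subgroup.inv_mem _ m2) m1
    have e : (h * c * g⁻¹)⁻¹ * h = g * c⁻¹ := by group
    rwa [e] at this
  refine ⟨g * c⁻¹, m3, ?_⟩
  have hcx : c⁻¹ * x * c = x := by
    have := Subgroup.mem_centralizer_iff.mp hc x rfl
    rw [mul_assoc, this, inv_mul_cancel_left]
  calc g * c⁻¹ * x * (g * c⁻¹)⁻¹ = g * (c⁻¹ * x * c) * g⁻¹ := by group
    _ = _ := by rw [hcx]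

end Cfsg.Agent.S0077
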