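import Cfsg.Statements.S0078
import Cfsg.Agent.Lib.Tate
import Cfsg.Agent.S0077

set_option autoImplicit false
open Cfsg

open scoped Pointwise
namespace Cfsg.Agent.S0078

/-- In a p-normal group, a Sylow p-subgroup P meets O^p(G) exactly where it meets O^p(V), for any subgroup V containing the normalizer of the centre of P. -/
theorem result {G : Type*} [Group G] [Finite G] {p : ℕ} [Fact p.Prime] (P : Sylow p G) (hn : ∀ Q : Sylow p G, (P : Subgroup G) ⊓ Subgroup.centralizer (P : Set G) ≤ (Q : Subgroup G) → (Q : Subgroup G) ⊓ Subgroup.centralizer (Q : Set G) = (P : Subgroup G) ⊓ Subgroup.centralizer (P : Set G)) (V : Subgroup G) (hV : Subgroup.normalizer (((P : Subgroup G) ⊓ Subgroup.centralizer (P : Set G) : Subgroup G) : Set G) ≤ V) : (P : Subgroup G) ⊓ Cfsg.pResidual p G = (P : Subgroup G) ⊓ (Cfsg.pResidual p V).map V.subtype := by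
  set Z : Subgroup G := (P : Subgroup G) ⊓ Subgroup.centralizer (P : Set G) with hZ
  have hZC : Z ≤ Subgroup.centralizer (P : Set G) := inf_le_right
  have hconjZ : ∀ g : G, MulAut.conj g • Z = ((g • P : Sylow p G) : Subgroup G) ⊓ Subgroup.centralizer (((g • P : Sylow p G) : Subgroup G) : Set G) := by
    intro g
    ext x
    rw [CfsgLib.SZ.mem_conj_iff, hZ, Subgroup.mem_inf, Subgroup.mem_inf]
    have e : (((g • P : Sylow p G) : Subgroup G)) = MulAut.conj g • (P : Subgroup G) := rfl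
    rw [e, CfsgLib.SZ.mem_conj_iff, Subgroup.mem_centralizer_iff, Subgroup.mem_centralizer_iff]
    constructor
    · rintro ⟨h1, h2⟩
      refine ⟨h1, fun y hy => ?_⟩
      have h3 := h2 _ (CfsgLib.SZ.mem_conj_iff.mp hy)
      calc y * x = g * (g⁻¹ * y * g * (g⁻¹ * x * g)) * g⁻¹ := by group
        _ = g * (g⁻¹ * x * g * (g⁻¹ * y * g)) * g⁻¹ := by rw [h3]
        _ = _ := by group
    · rintro ⟨h1, h2⟩
      refine ⟨h1, fun y hy => ?_⟩
      have h3 := h2 (g * y * g⁻¹) (CfsgLib.SZ.conj_mem_conj hy)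
      calc y * (g⁻¹ * x * g) = g⁻¹ * (g * y * g⁻¹ * x) * g := by group
        _ = g⁻¹ * (x * (g * y * g⁻¹)) * g := by rw [h3]
        _ = _ := by group
  have hW : Cfsg.IsWeaklyClosed Z (P : Subgroup G) := by
    refine ⟨inf_le_left, fun g hg => ?_⟩
    have hg' : MulAut.conj g • Z ≤ (P : Subgroup G) := hg
    have h1 : Z ≤ ((g⁻¹ • P : Sylow p G) : Subgroup G) := by
      intro z hz
      show z ∈ MulAut.conj g⁻¹ • (P : Subgroup G)
      rw [CfsgLib.SZ.mem_conj_iff, inv_inv]
      exact hg' (CfsgLib.SZ.conj_mem_conj hz)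
    have h2 : MulAut.conj g⁻¹ • Z = Z := (hconjZ g⁻¹).trans (hn _ h1)
    have h3 := congrArg (fun X => MulAut.conj g • X) h2
    simp only [smul_smul, ← map_mul, mul_inv_cancel, map_one, one_smul] at h3
    exact h3.symm
  have hPZ : (P : Subgroup G) ≤ Subgroup.centralizer (Z : Set G) := Subgroup.le_centralizer_iff.mp hZC
  have hPN := hPZ.trans (Subgroup.centralizer_le_normalizer _)
  have h77 := Cfsg.Agent.S0077.result P Z hZC hW
  refine CfsgLib.Tate.pResidual_inf_eq P (hPN.trans hV) fun x hx hxG => ?_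
  have h4 : x ∈ commutator G ⊓ (P : Subgroup G) := ⟨hxG, hx⟩
  rw [h77] at h4
  exact Subgroup.commutator_mono hV hV h4.1

end Cfsg.Agent.S0078
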