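import Cfsg.Statements.S3742
import Mathlib

set_option autoImplicit false
open Cfsg

namespace Cfsg.Agent.S3742

def c1 : Equiv.Perm (Fin 4) := ⟨![1,2,3,0], ![3,0,1,2], by decide, by decide⟩
def c2 : Equiv.Perm (Fin 4) := ⟨![2,3,1,0], ![3,2,0,1], by decide, by decide⟩
def c3 : Equiv.Perm (Fin 4) := ⟨![1,3,0,2], ![2,0,3,1], by decide, by decide⟩
def th : QuaternionGroup 2 → Equiv.Perm (Fin 4)
  | .a i => if i = 1 then c1 else c1⁻¹
  | .xa i => if i = 0 then c2 else if i = 2 then c2⁻¹ else if i = 1 then c3 else c3⁻¹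
def dec (π : Equiv.Perm (Fin 4)) : QuaternionGroup 2 :=
  if π 0 = 1 then (if π 1 = 2 then .a 1 else .xa 1) else if π 0 = 3 then (if π 1 = 0 then .a 3 else .xa 2) else (if π 1 = 3 then .xa 0 else .xa 3)
def ph (σ : Equiv.Perm (Fin 4)) : QuaternionGroup 2 → QuaternionGroup 2
  | .a i => if i = 0 then .a 0 else if i = 2 then .a 2 else dec (σ * th (.a i) * σ⁻¹)
  | .xa i => dec (σ * th (.xa i) * σ⁻¹)
theorem ph_mul : ∀ σ : Equiv.Perm (Fin 4), ∀ x y, ph σ (x * y) = ph σ x * ph σ y := by decide +kernel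
theorem ph_comp : ∀ σ τ : Equiv.Perm (Fin 4), ∀ x, ph (σ * τ) x = ph σ (ph τ x) := by decide +kernel
theorem ph_one : ∀ x, ph 1 x = x := by decide +kernel
theorem ph_inj : ∀ σ : Equiv.Perm (Fin 4), (∀ x, ph σ x = x) → σ = 1 := by decide +kernel
theorem ph_surj : ∀ u v : QuaternionGroup 2, u * u ≠ 1 → v * v ≠ 1 → v ≠ u → v ≠ u * u * u → ∃ σ : Equiv.Perm (Fin 4), ph σ (.a 1) = u ∧ ph σ (.xa 0) = v := by decide +kernel
theorem q_gen : ∀ x : QuaternionGroup 2, ∃ k : Fin 4, x = (.a 1 : QuaternionGroup 2) ^ (k : ℕ) ∨ x = (.xa 0 : QuaternionGroup 2) * (.a 1) ^ (k : ℕ) := by decide +kernel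


/-- The automorphism group of the quaternion group of order 8 is isomorphic to the symmetric group of degree 4. -/
theorem result : Nonempty (MulAut (QuaternionGroup 2) ≃* Equiv.Perm (Fin 4)) := by
  let f : Equiv.Perm (Fin 4) →* MulAut (QuaternionGroup 2) :=
    { toFun := fun σ =>
        { toFun := ph σ
          invFun := ph σ⁻¹
          left_inv := fun x => by rw [← ph_comp, inv_mul_cancel, ph_one]
          right_inv := fun x => by rw [← ph_comp, mul_inv_cancel, ph_one]
          map_mul' := ph_mul σ }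
      map_one' := by ext x; exact ph_one x
      map_mul' := fun σ τ => by ext x; exact ph_comp σ τ x }
  have hinj : Function.Injective f := by
    rw [injective_iff_map_eq_one]
    intro σ hσ
    apply ph_inj
    intro x
    exact congrArg (fun φ : MulAut (QuaternionGroup 2) => φ x) hσ
  have hsurj : Function.Surjective f := by
    intro φ
    have h1 : φ (.a 1) * φ (.a 1) ≠ 1 := by
      rw [← map_mul, ← φ.map_one]
      intro h
      have := φ.injective h
      revert this
      decide
    have h2 : φ (.xa 0) * φ (.xa 0) ≠ 1 := by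
      rw [← map_mul, ← φ.map_one]
      intro h
      have := φ.injective h
      revert this
      decide
    have h3 : φ (.xa 0) ≠ φ (.a 1) := by
      intro h
      have := φ.injective h
      revert this
      decide
    have h4 : φ (.xa 0) ≠ φ (.a 1) * φ (.a 1) * φ (.a 1) := by
      rw [← map_mul, ← map_mul]
      intro h
      have := φ.injective h
      revert this
      decide
    obtain ⟨σ, hσ1, hσ2⟩ := ph_surj _ _ h1 h2 h3 h4
    have hσ1' : f σ (.a 1) = φ (.a 1) := hσ1
    have hσ2' : f σ (.xa 0) = φ (.xa 0) := hσ2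
    refine ⟨σ, ?_⟩
    ext x
    obtain ⟨k, rfl | rfl⟩ := q_gen x
    · rw [map_pow, map_pow, hσ1']
    · rw [map_mul, map_mul, map_pow, map_pow, hσ1', hσ2']
  exact ⟨(MulEquiv.ofBijective f ⟨hinj, hsurj⟩).symm⟩

end Cfsg.Agent.S3742
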