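import Cfsg.Statements.S0338
import Mathlib
import Cfsg.Agent.Lib.H7Z9

set_option autoImplicit false
open Cfsg

open scoped Pointwise
set_option linter.style.haveILetI false
namespace Cfsg.Agent.S0338

open CfsgLib.H7Z MulAction


/-- A Zassenhaus group of odd degree is a simple group. -/
theorem result {G Ω : Type*} [Group G] [MulAction G Ω] [Fintype Ω]
    (hZ : Cfsg.IsZassenhausGroup G Ω) (hodd : Odd (Fintype.card Ω)) : IsSimpleGroup G := by
  classical
  haveI := hZ.1
  haveI : Finite G := Finite.of_injective (MulAction.toPermHom G Ω) MulAction.toPerm_injective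
  haveI : Fintype G := Fintype.ofFinite G
  have h3 := CfsgLib.PermZ4.three_le hZ
  haveI : Nontrivial Ω := Fintype.one_lt_card_iff_nontrivial.mp (by omega)
  obtain ⟨a, b, hab⟩ := exists_pair_ne Ω
  haveI : Nontrivial G := by
    obtain ⟨x, -, hx1⟩ := exists_ne_one_EE hZ hab
    exact ⟨⟨x, 1, hx1⟩⟩
  have hev : ¬ Even (Fintype.card Ω) := Nat.not_even_iff_odd.mpr hodd
  have hE : Odd (Nat.card (stabilizer G a ⊓ stabilizer G b : Subgroup G)) := by
    have h1 := card_E_dvd hZ hab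
    refine Odd.of_dvd_nat ?_ h1
    obtain ⟨k, hk⟩ := hodd
    rw [hk]
    refine ⟨k - 1, ?_⟩
    omega
  refine { eq_bot_or_eq_top_of_normal := fun K hK => ?_ }
  by_cases hK1 : K = ⊥
  · exact Or.inl hK1
  right
  obtain ⟨s, hs2, hsa, hsb⟩ := CfsgLib.PermZ4.exists_swap hZ hab
  have hss := CfsgLib.Invol.mul_self_of_orderOf hs2
  have hs1 : s ≠ 1 := by
    rintro rfl
    rw [one_smul] at hsa
    exact hab hsa
  have hsi : s⁻¹ = s := inv_eq_of_mul_eq_one_left hss
  have hk := kf_inv hZ hab hE hs2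
  rw [if_neg hev, kf, Finset.card_eq_one] at hk
  obtain ⟨c, hc⟩ := hk
  have hsc : s • c = c := (Finset.mem_filter.mp (by rw [hc]; simp : c ∈ Finset.univ.filter (fun c : Ω => s • c = c))).2
  have huniq : ∀ d : Ω, s • d = d → d = c := by
    intro d hd
    have : d ∈ Finset.univ.filter (fun c : Ω => s • c = c) := by rw [Finset.mem_filter]; exact ⟨Finset.mem_univ _, hd⟩
    rw [hc, Finset.mem_singleton] at this
    exact this
  have hca : c ≠ a := by
    rintro rfl
    exact hab (hsc.symm.trans hsa)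
  have hcb : c ≠ b := by
    rintro rfl
    exact hab (hsb.symm.trans hsc)
  have hsK : s ∈ K := by
    obtain ⟨Hc, hHca, hHccard, hHcfix⟩ := exists_H hZ c
    apply H_le_normal hZ hHca hHccard hHcfix hK hK1
    exact mem_H_of_inv hZ hca (by rw [card_EE_eq hZ hab hca]; exact hE) hHca hHccard hHcfix hs2 hsc
  have hEK : ∀ x ∈ stabilizer G a ⊓ stabilizer G b, x ∈ K := by
    intro y hy
    have hmem : ∀ x ∈ stabilizer G a ⊓ stabilizer G b, x⁻¹ * (s * x * s⁻¹) ∈ stabilizer G a ⊓ stabilizer G b := by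
      intro x hx
      apply mul_mem (inv_mem hx)
      have h1 : s ∈ Subgroup.normalizer ((stabilizer G a ⊓ stabilizer G b : Subgroup G) : Set G) := (mem_normalizer_iff hZ hab).mpr (Or.inr ⟨hsa, hsb⟩)
      exact (Subgroup.mem_normalizer_iff.mp h1 x).mp hx
    obtain ⟨f, hf⟩ : ∃ f : (stabilizer G a ⊓ stabilizer G b : Subgroup G) → (stabilizer G a ⊓ stabilizer G b : Subgroup G), ∀ x, ((f x : (stabilizer G a ⊓ stabilizer G b : Subgroup G)) : G) = (x : G)⁻¹ * (s * x * s⁻¹) :=
      ⟨fun x => ⟨_, hmem x x.2⟩, fun x => rfl⟩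
    have hinj : Function.Injective f := by
      intro x z h
      have h1 := congrArg (Subtype.val : (stabilizer G a ⊓ stabilizer G b : Subgroup G) → G) h
      rw [hf, hf] at h1
      by_contra hne
      have h2 : (z : G) * (x : G)⁻¹ ≠ 1 := fun h' => hne (Subtype.ext (mul_inv_eq_one.mp h').symm)
      have h4 : s * ((z : G) * (x : G)⁻¹) = ((z : G) * (x : G)⁻¹) * s := by
        have h5 : (z : G) * (x : G)⁻¹ = (s * z * s⁻¹) * (s * x * s⁻¹)⁻¹ := by
          calc (z : G) * (x : G)⁻¹ = z * ((x : G)⁻¹ * (s * x * s⁻¹)) * (s * x * s⁻¹)⁻¹ := by group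
            _ = z * ((z : G)⁻¹ * (s * z * s⁻¹)) * (s * x * s⁻¹)⁻¹ := by rw [h1]
            _ = (s * z * s⁻¹) * (s * x * s⁻¹)⁻¹ := by group
        nth_rewrite 2 [h5]
        group
      apply hca
      apply (fix3 hZ h2 hab ?_ ?_ ?_).resolve_right hcb
      · exact (mem_EE.mp (mul_mem z.2 (inv_mem x.2))).1
      · exact (mem_EE.mp (mul_mem z.2 (inv_mem x.2))).2
      · apply huniq
        rw [← mul_smul, h4, mul_smul, hsc]
    obtain ⟨x, hx⟩ := (Finite.injective_iff_surjective.mp hinj) ⟨y, hy⟩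
    have h1 := congrArg (Subtype.val : (stabilizer G a ⊓ stabilizer G b : Subgroup G) → G) hx
    rw [hf] at h1
    have h2 : y = ((x : G)⁻¹ * s * (x : G)⁻¹⁻¹) * s⁻¹ := by
      rw [inv_inv]
      have h1 : (x : G)⁻¹ * (s * x * s⁻¹) = y := h1
      rw [← h1]; group
    rw [h2]
    exact mul_mem (hK.conj_mem _ hsK _) (inv_mem hsK)
  obtain ⟨H, hHa, hHcard, hHfix⟩ := exists_H hZ a
  rw [eq_top_iff]
  intro g _
  obtain ⟨k, hk, hka⟩ := normal_trans hZ hK hK1 a (g • a)
  have h1 : (k⁻¹ * g) • a = a := by rw [mul_smul, ← hka, inv_smul_smul]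
  obtain ⟨u, hu, x, hx, hux⟩ := exists_fac hZ hab hHa hHcard hHfix h1
  have h2 : g = k * (u * x) := by rw [← hux]; group
  rw [h2]
  exact mul_mem hk (mul_mem (H_le_normal hZ hHa hHcard hHfix hK hK1 hu) (hEK x hx))

end Cfsg.Agent.S0338
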