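import Cfsg.Statements.S4189
import Mathlib
import Cfsg.Agent.Lib.H3Max

set_option autoImplicit false
open Cfsg

set_option linter.style.haveILetI false
namespace Cfsg.Agent.S4189

open Subgroup CfsgLib.H3Max

/-- if all elements of order `2 ^ m` lie in `⟨a⟩` then the automorphism group is a `2`-group -/
theorem aut_two {S : Type*} [Group S] [Finite S] {m : ℕ} {a : S} (h : MC m a)
    (hall : ∀ g : S, orderOf g = 2 ^ m → g ∈ zpowers a) : IsPGroup 2 (MulAut S) := by
  intro φ
  have hm2 := h.two_le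
  obtain ⟨x, hx⟩ := h.exists_notMem
  have hmap : ∀ ψ : MulAut S, (zpowers a).map ψ.toMonoidHom = zpowers a := by
    intro ψ
    apply Subgroup.eq_of_le_of_card_ge
    · rw [MonoidHom.map_zpowers, zpowers_le]
      apply hall
      show orderOf (ψ a) = 2 ^ m
      rw [MulEquiv.orderOf_eq, h.order]
    · exact (Nat.card_congr ((zpowers a).equivMapOfInjective _ ψ.injective).toEquiv).le
  obtain ⟨i, hi⟩ := mem_zpowers_iff.mp (show φ a ∈ zpowers a by rw [← hmap φ]; exact ⟨a, mem_zpowers a, rfl⟩)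
  have hpow : ∀ k : ℕ, (φ ^ k) a = a ^ (i ^ k) := by
    intro k
    induction k with
    | zero => simp
    | succ k ih =>
      rw [pow_succ, MulAut.mul_apply, ← hi, map_zpow, ih, ← zpow_mul, ← pow_succ]
  -- i is odd
  have hodd : Odd i := by
    by_contra hev
    rw [Int.not_odd_iff_even] at hev
    obtain ⟨k, hk⟩ := hev
    have h3 : (φ a) ^ (2 ^ (m - 1)) = 1 := by
      rw [← hi, hk, ← two_mul, zpow_mul, ← zpow_natCast, ← zpow_mul, ← zpow_mul]
      have : (2 : ℤ) * k * ((2 ^ (m - 1) : ℕ) : ℤ) = ((2 ^ m : ℕ) : ℤ) * k := by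
        obtain ⟨l, rfl⟩ : ∃ l, m = l + 1 := ⟨m - 1, by omega⟩
        push_cast
        ring
      rw [mul_assoc 2 k] at this
      rw [this, zpow_mul, zpow_natCast, ← h.order, pow_orderOf_eq_one, one_zpow]
    rw [← map_pow] at h3
    exact h.z_ne ((MulEquiv.map_eq_one_iff φ).mp h3)
  -- φ ^ (2^m) fixes a
  have hfix : (φ ^ (2 ^ m)) a = a := by
    rw [hpow]
    have h3 : (i : ZMod (2 ^ m)) ^ (2 ^ m) = 1 := by
      have h4 : IsUnit (i : ZMod (2 ^ m)) := by
        rw [ZMod.coe_int_isUnit_iff_isCoprime]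
        push_cast
        apply IsCoprime.pow_left
        rw [Int.isCoprime_iff_gcd_eq_one]
        obtain ⟨k, hk⟩ := hodd
        rw [hk]
        have : Int.gcd 2 (2 * k + 1) ∣ 1 := by
          have h5 : (Int.gcd 2 (2 * k + 1) : ℤ) ∣ 1 := by
            have h6 := Int.gcd_dvd_left (a := 2) (b := 2 * k + 1)
            have h7 := Int.gcd_dvd_right (a := 2) (b := 2 * k + 1)
            have h8 := (Int.dvd_add_right (h6.mul_right k)).mp h7
            exact h8
          exact_mod_cast h5
        exact Nat.dvd_one.mp this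
      obtain ⟨u, hu⟩ := h4
      have h5 : u ^ (Nat.totient (2 ^ m)) = 1 := ZMod.pow_totient u
      have h6 : Nat.totient (2 ^ m) = 2 ^ (m - 1) := by
        rw [Nat.totient_prime_pow Nat.prime_two (by omega)]
        simp
      rw [h6] at h5
      rw [← hu]
      have h7 : u ^ (2 ^ m) = 1 := by
        have h8 : 2 ^ m = 2 ^ (m - 1) * 2 := by
          rw [← pow_succ, Nat.sub_add_cancel (by omega)]
        calc u ^ (2 ^ m) = u ^ (2 ^ (m - 1) * 2) := congrArg (fun k => u ^ k) h8
          _ = 1 := by rw [pow_mul, h5, one_pow]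
      rw [← Units.val_pow_eq_pow_val, h7, Units.val_one]
    have h4 : ((i ^ (2 ^ m) : ℤ) : ZMod (2 ^ m)) = ((1 : ℤ) : ZMod (2 ^ m)) := by push_cast; exact h3
    rw [ZMod.intCast_eq_intCast_iff] at h4
    have h5 : a ^ (i ^ 2 ^ m) = a ^ (1 : ℤ) := by
      rw [zpow_eq_zpow_iff_modEq, h.order]
      exact_mod_cast h4
    rw [h5, zpow_one]
  set ψ := φ ^ (2 ^ m) with hψ
  have hψx : ψ x * x⁻¹ ∈ zpowers a := by
    rw [mul_mem_iff_of_index_two h.index, inv_mem_iff]
    constructor
    · intro h3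
      exfalso
      have h4 := hmap ψ
      rw [← h4] at h3
      obtain ⟨y, hy, hy'⟩ := h3
      have : y = x := ψ.injective hy'
      rw [this] at hy
      exact hx hy
    · intro h3; exact absurd h3 hx
  obtain ⟨j, hj⟩ := mem_zpowers_iff.mp hψx
  have hψa : ∀ k : ℕ, (ψ ^ k) a = a := by
    intro k
    induction k with
    | zero => simp
    | succ k ih => rw [pow_succ, MulAut.mul_apply, hfix, ih]
  have hψxk : ∀ k : ℕ, (ψ ^ k) x = (a ^ j) ^ k * x := by
    intro k
    induction k with
    | zero => simp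
    | succ k ih =>
      have h3 : ψ x = a ^ j * x := by rw [hj]; group
      rw [pow_succ, MulAut.mul_apply, h3, map_mul, map_zpow, hψa, ih, pow_succ']
      group
  refine ⟨2 * m, ?_⟩
  rw [two_mul, pow_add, pow_mul, ← hψ]
  have h3 : ∀ g : S, (ψ ^ (2 ^ m)) g = g := by
    have h4 : (ψ ^ (2 ^ m)) x = x := by
      rw [hψxk, ← zpow_natCast, ← zpow_mul, mul_comm, zpow_mul, zpow_natCast, ← h.order, pow_orderOf_eq_one, one_zpow, one_mul]
    intro g
    have h5 : ∀ c ∈ zpowers a, (ψ ^ (2 ^ m)) c = c := by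
      intro c hc
      obtain ⟨k, rfl⟩ := mem_zpowers_iff.mp hc
      rw [map_zpow, hψa]
    rcases index_two_cases h.index hx g with hg | ⟨c, hc, rfl⟩
    · exact h5 g hg
    · rw [map_mul, h5 c hc, h4]
  ext g
  rw [h3 g]
  rfl


/-- Let P be a finite non-abelian 2-group whose commutator subgroup has index 4 and whose automorphism group is not a 2-group (some automorphism has order that is not a power of 2). Then P is isomorphic to the quaternion group of order 8. -/
theorem result {P : Type*} [Group P] [Finite P] (hP : IsPGroup 2 P) (hna : ¬ IsMulCommutative P) (h4 : (commutator P).index = 4) (haut : ¬ IsPGroup 2 (MulAut P)) : Nonempty (P ≃* QuaternionGroup 2) := by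
  haveI : Fact (Nat.Prime 2) := ⟨Nat.prime_two⟩
  obtain ⟨n, hn⟩ := IsPGroup.iff_card.mp hP
  have hna' : ∃ g h : P, g * h ≠ h * g := by
    by_contra hcon
    push Not at hcon
    exact hna ⟨⟨hcon⟩⟩
  have hab : Nat.card P ≤ 4 * Nat.card (commutator P) := by
    have h1 := card_mul_index (commutator P)
    rw [h4] at h1
    omega
  obtain ⟨m, a, rfl, hm⟩ := exists_mc hn hna' hab
  have hm2 := hm.two_le
  -- elements outside have order dividing 4
  have h1 : ¬ ∀ g : P, orderOf g = 2 ^ m → g ∈ zpowers a := fun h => haut (aut_two hm h)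
  push Not at h1
  obtain ⟨x, hx, hxa⟩ := h1
  have hx4 : x ^ 4 = 1 := by
    have : x ^ 4 = (x ^ 2) ^ 2 := by rw [← pow_mul]
    rw [this]
    rcases hm.sq hxa with h | h
    · rw [h, one_pow]
    · rw [h, hm.z_sq]
  have hm' : m = 2 := by
    have h5 := orderOf_dvd_of_pow_eq_one hx4
    rw [hx, show 4 = 2 ^ 2 by norm_num] at h5
    have := (Nat.pow_dvd_pow_iff_le_right (by norm_num : 1 < 2)).mp h5
    omega
  subst hm'
  have hx2 : x ^ 2 = a ^ (2 ^ (2 - 1)) := by
    rcases hm.sq hxa with h | h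
    · exfalso
      have h5 := orderOf_dvd_of_pow_eq_one h
      rw [hx] at h5
      norm_num at h5
    · exact h
  rcases hm.conj hxa with h5 | ⟨h5, _⟩
  · exact hm.quaternion hxa h5 hx2
  · omega

end Cfsg.Agent.S4189
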