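import Cfsg.Statements.S4143
import Mathlib
import Cfsg.Agent.Lib.H3Max

set_option autoImplicit false
open Cfsg

set_option linter.style.haveILetI false
namespace Cfsg.Agent.S4143

open Subgroup CfsgLib.H3Max
open scoped commutatorElement Pointwise

theorem comm_of_dvd_sq {G : Type*} [Group G] [Finite G] {p : ℕ} [hp : Fact p.Prime] {K : Subgroup G}
    (hK : Nat.card K ∣ p ^ 2) {g h : G} (hg : g ∈ K) (hh : h ∈ K) : g * h = h * g := by
  obtain ⟨k, hk, hk'⟩ := (Nat.dvd_prime_pow hp.out).mp hK
  have hc : IsMulCommutative K := by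
    rcases (show k = 0 ∨ k = 1 ∨ k = 2 by omega) with rfl | rfl | rfl
    · rw [pow_zero, Subgroup.card_eq_one] at hk'
      subst hk'
      infer_instance
    · have h1 : IsCyclic K := isCyclic_of_prime_card (p := p) (by rw [hk', pow_one])
      infer_instance
    · exact CfsgLib.H3Misc.comm_of_card_sq hk'
  have := hc.is_comm.comm (⟨g, hg⟩ : K) ⟨h, hh⟩
  exact congrArg Subtype.val this

theorem main {X : Type*} [Group X] [Finite X] {p : ℕ} [hp : Fact p.Prime] (n : ℕ) (hX : Nat.card X = p ^ n)
    (B : Subgroup X) (hB : Nat.card B = p ^ 3) (hBna : ¬ IsMulCommutative B) (hC : Subgroup.centralizer (B : Set X) ≤ B) :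
    Group.nilpotencyClass X = n - 1 := by
  have hpX : IsPGroup p X := IsPGroup.of_card hX
  have hnil := hpX.isNilpotent
  obtain ⟨b1, hb1, b2, hb2, hne⟩ : ∃ b1 ∈ B, ∃ b2 ∈ B, b1 * b2 ≠ b2 * b1 := by
    by_contra hcon
    push Not at hcon
    exact hBna ⟨⟨fun x y => Subtype.ext (hcon x.1 x.2 y.1 y.2)⟩⟩
  -- order of the centralizer
  have hlt : ∀ Y : Subgroup X, Y ≤ centralizer (B : Set X) → Nat.card Y ∣ p := by
    intro Y hY
    have hYB : Y ≤ B := hY.trans hC
    set K1 := B ⊓ centralizer ({b1} : Set X) with hK1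
    have h1 : Y ≤ K1 := le_inf hYB (fun y hy => mem_centralizer_singleton_iff.mpr
      ((mem_centralizer_iff.mp (hY hy)) b1 hb1).symm)
    have h2 : b1 ∈ K1 := ⟨hb1, mem_centralizer_singleton_iff.mpr rfl⟩
    have h3 : b1 ∉ Y := fun h => hne ((mem_centralizer_iff.mp (hY h)) b2 hb2).symm
    have h4 : b2 ∉ K1 := fun h => hne (mem_centralizer_singleton_iff.mp h.2).symm
    have h5 : Nat.card Y < Nat.card K1 := by
      refine lt_of_le_of_ne (Subgroup.card_le_of_le h1) (fun h6 => ?_)
      have := Subgroup.eq_of_le_of_card_ge h1 h6.symm.le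
      rw [← this] at h2
      exact h3 h2
    have h6 : Nat.card K1 < Nat.card B := by
      refine lt_of_le_of_ne (Subgroup.card_le_of_le inf_le_left) (fun h6 => ?_)
      have h7 := Subgroup.eq_of_le_of_card_ge inf_le_left h6.symm.le
      exact h4 (by rw [hK1, h7]; exact hb2)
    obtain ⟨i, hi, hi'⟩ := (Nat.dvd_prime_pow hp.out).mp (hB ▸ Subgroup.card_dvd_of_le hYB)
    obtain ⟨j, hj, hj'⟩ := (Nat.dvd_prime_pow hp.out).mp (hB ▸ Subgroup.card_dvd_of_le (inf_le_left : K1 ≤ B))
    rw [hi', hj'] at h5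
    rw [hj', hB] at h6
    have h7 := (Nat.pow_lt_pow_iff_right hp.out.one_lt).mp h5
    have h8 := (Nat.pow_lt_pow_iff_right hp.out.one_lt).mp h6
    rw [hi']
    calc p ^ i ∣ p ^ 1 := pow_dvd_pow p (by omega)
      _ = p := pow_one p
  haveI : Nontrivial X := ⟨⟨b1 * b2, b2 * b1, hne⟩⟩
  have hZne : center X ≠ ⊥ := by
    haveI := hpX.center_nontrivial
    exact (nontrivial_iff_ne_bot _).mp inferInstance
  have hZC : center X ≤ centralizer (B : Set X) := center_le_centralizer _
  have hZB : center X ≤ B := hZC.trans hC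
  have hZc : Nat.card (center X) = p := by
    rcases (Nat.dvd_prime hp.out).mp (hlt _ hZC) with h | h
    · rw [Subgroup.card_eq_one] at h
      exact absurd h hZne
    · exact h
  have hCZ : centralizer (B : Set X) = center X := by
    symm
    apply Subgroup.eq_of_le_of_card_ge hZC
    rw [hZc]
    exact Nat.le_of_dvd hp.out.pos (hlt _ le_rfl)
  have hn3 : 3 ≤ n := by
    have h1 : Nat.card B ∣ Nat.card X := Subgroup.card_subgroup_dvd_card B
    rw [hB, hX] at h1
    exact (Nat.pow_dvd_pow_iff_le_right hp.out.one_lt).mp h1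
  have hcQ : Nat.card (X ⧸ center X) = p ^ (n - 1) := by
    have h1 := Subgroup.card_eq_card_quotient_mul_card_subgroup (center X)
    obtain ⟨k, rfl⟩ : ∃ k, n = k + 1 := ⟨n - 1, by omega⟩
    rw [hX, hZc, pow_succ] at h1
    exact (Nat.eq_of_mul_eq_mul_right hp.out.pos h1).symm
  have hBZ : Nat.card (B.map (QuotientGroup.mk' (center X))) = p ^ 2 := by
    have h1 : (B.map (QuotientGroup.mk' (center X))).index = B.index :=
      index_map_eq B (QuotientGroup.mk'_surjective _) (by rw [QuotientGroup.ker_mk']; exact hZB)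
    have h2 := card_mul_index (B.map (QuotientGroup.mk' (center X)))
    have h3 := card_mul_index B
    obtain ⟨k, rfl⟩ : ∃ k, n = k + 1 := ⟨n - 1, by omega⟩
    rw [h1, hcQ, Nat.add_sub_cancel] at h2
    rw [hB, hX] at h3
    have h4 : 0 < B.index := Nat.pos_of_ne_zero B.index_ne_zero_of_finite
    apply Nat.eq_of_mul_eq_mul_right (Nat.mul_pos h4 hp.out.pos)
    calc Nat.card (B.map (QuotientGroup.mk' (center X))) * (B.index * p)
        = (Nat.card (B.map (QuotientGroup.mk' (center X))) * B.index) * p := by ring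
      _ = p ^ 3 * B.index := by rw [h2, h3]; ring
      _ = _ := by ring
  set D := (centralizer ((B.map (QuotientGroup.mk' (center X)) : Subgroup _) : Set (X ⧸ center X))).comap (QuotientGroup.mk' (center X)) with hD
  have hBD : B ≤ D := by
    intro b hb
    rw [hD, mem_comap, mem_centralizer_iff]
    intro y hy
    exact comm_of_dvd_sq (K := B.map (QuotientGroup.mk' (center X))) (p := p) (dvd_of_eq hBZ) hy ⟨b, hb, rfl⟩
  have hDb : ∀ b ∈ B, (centralizer ({b} : Set X)).relIndex D ≤ p := by
    intro b hb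
    have h1 := relIndex_le_of_comm D b ((fun z => b * z) '' (center X : Set X)) (by
      intro x hx
      have h1 := (mem_centralizer_iff.mp (mem_comap.mp hx)) (QuotientGroup.mk' (center X) b) ⟨b, hb, rfl⟩
      have h2 : QuotientGroup.mk' (center X) b = QuotientGroup.mk' (center X) (x * b * x⁻¹) := by
        rw [map_mul, map_mul, ← h1, map_inv, mul_inv_cancel_right]
      obtain ⟨z, hz, h3⟩ := (QuotientGroup.mk'_eq_mk' _).mp h2
      exact ⟨z, hz, h3⟩)
    refine h1.trans ?_
    have h2 : Nat.card ((fun z => b * z) '' (center X : Set X)) = Nat.card (center X) := by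
      exact Nat.card_image_of_injective (mul_right_injective b) _
    rw [h2, hZc]
  have hcc : centralizer ({b1} : Set X) ⊓ centralizer ({b2} : Set X) ≤ centralizer (B : Set X) := by
    rintro c ⟨hc1, hc2⟩
    have hc1' := mem_centralizer_singleton_iff.mp hc1
    have hc2' := mem_centralizer_singleton_iff.mp hc2
    have hK : B ⊓ centralizer ({c} : Set X) = B := by
      by_contra hK
      have h1 : b1 ∈ B ⊓ centralizer ({c} : Set X) := ⟨hb1, mem_centralizer_singleton_iff.mpr hc1'.symm⟩
      have h2 : b2 ∈ B ⊓ centralizer ({c} : Set X) := ⟨hb2, mem_centralizer_singleton_iff.mpr hc2'.symm⟩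
      apply hne
      refine comm_of_dvd_sq (p := p) ?_ h1 h2
      obtain ⟨i, hi, hi'⟩ := (Nat.dvd_prime_pow hp.out).mp (hB ▸ Subgroup.card_dvd_of_le
        (inf_le_left : B ⊓ centralizer ({c} : Set X) ≤ B))
      rw [hi']
      apply pow_dvd_pow
      by_contra h3
      have h4 : i = 3 := by omega
      exact hK (Subgroup.eq_of_le_of_card_ge inf_le_left (by rw [hi', h4, hB]))
    rw [mem_centralizer_iff]
    intro y hy
    rw [SetLike.mem_coe, ← hK] at hy
    exact mem_centralizer_singleton_iff.mp hy.2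
  have hDcard : Nat.card D ≤ p ^ 3 := by
    have h1 : (centralizer ({b1} : Set X) ⊓ centralizer ({b2} : Set X)).relIndex D ≤ p * p :=
      (relIndex_inf_le).trans (Nat.mul_le_mul (hDb b1 hb1) (hDb b2 hb2))
    have h2 := CfsgLib.H3Syl.card_mul_relIndex (inf_le_right : (centralizer ({b1} : Set X) ⊓ centralizer ({b2} : Set X)) ⊓ D ≤ D)
    rw [inf_relIndex_right] at h2
    have h3 : Nat.card ((centralizer ({b1} : Set X) ⊓ centralizer ({b2} : Set X)) ⊓ D : Subgroup X) ≤ p := by
      rw [← hZc, ← hCZ]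
      exact Subgroup.card_le_of_le (inf_le_left.trans hcc)
    rw [← h2]
    calc _ ≤ p * (p * p) := Nat.mul_le_mul h3 h1
      _ = p ^ 3 := by ring
  have hDB : B = D := Subgroup.eq_of_le_of_card_ge hBD (by rw [hB]; exact hDcard)
  have h1 := suzuki (n - 1) (X ⧸ center X) (B.map (QuotientGroup.mk' (center X))) hcQ hBZ (by
    intro q hq
    obtain ⟨x, rfl⟩ := QuotientGroup.mk'_surjective (center X) q
    refine ⟨x, ?_, rfl⟩
    rw [SetLike.mem_coe, hDB]
    exact mem_comap.mpr hq)
  rw [Group.nilpotencyClass_quotient_center] at h1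
  omega


/-- Let X be a finite p-group of order p^n containing a non-abelian subgroup B of order p³ with C_X(B) ≤ B. Then X has nilpotency class n − 1 (maximal class). -/
theorem result {X : Type*} [Group X] [Finite X] {p : ℕ} [Fact p.Prime] (n : ℕ) (hX : Nat.card X = p ^ n)
    (B : Subgroup X) (hB : Nat.card B = p ^ 3) (hBna : ¬ IsMulCommutative B) (hC : Subgroup.centralizer (B : Set X) ≤ B) :
    Group.nilpotencyClass X = n - 1 := by
  exact main n hX B hB hBna hC

end Cfsg.Agent.S4143
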