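import Cfsg.Statements.S0107
import Mathlib
import Cfsg.Agent.Lib.H9Na
import Cfsg.Agent.Lib.Transfer
import Cfsg.Agent.S0111

set_option autoImplicit false
open Cfsg

open scoped Pointwise
set_option linter.style.haveILetI false
namespace Cfsg.Agent.S0107

open scoped Pointwise in
theorem conj_into {G : Type*} [Group G] [Finite G] (T : Sylow 2 G) {x : G} (hx : orderOf x = 2) :
    ∃ g : G, g * x * g⁻¹ ∈ (T : Subgroup G) := by
  haveI : Fact (Nat.Prime 2) := ⟨Nat.prime_two⟩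
  have h1 : IsPGroup 2 (Subgroup.zpowers x) := IsPGroup.of_card (n := 1) (by rw [Nat.card_zpowers, hx, pow_one])
  obtain ⟨P, hP⟩ := h1.exists_le_sylow
  obtain ⟨g, hg⟩ := MulAction.exists_smul_eq G P T
  refine ⟨g, ?_⟩
  have h2 : x ∈ (P : Subgroup G) := hP (Subgroup.mem_zpowers x)
  have h3 : MulAut.conj g • x ∈ MulAut.conj g • (P : Subgroup G) := Subgroup.smul_mem_pointwise_smul x (MulAut.conj g) _ h2
  rw [← hg]
  exact h3


/-- A finite group with no nontrivial 2-group quotient and dihedral Sylow 2-subgroups of order at least 8 has a single class of involutions. -/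
theorem result {G : Type*} [Group G] [Finite G] (T : Sylow 2 G) (n : ℕ) (hn : 2 ≤ n) (hT : Nonempty ((T : Subgroup G) ≃* DihedralGroup (2 ^ n))) (hO : Cfsg.pResidual 2 G = ⊤) (x y : G) (hx : orderOf x = 2) (hy : orderOf y = 2) : ∃ g : G, g * x * g⁻¹ = y := by
  haveI : Fact (Nat.Prime 2) := ⟨Nat.prime_two⟩
  obtain ⟨e⟩ := hT
  haveI : NeZero (2 ^ n) := ⟨by positivity⟩
  set ρ : T := e.symm (DihedralGroup.r 1) with hρ
  have hoρ : orderOf (ρ : G) = 2 ^ n := by
    rw [Subgroup.orderOf_coe, hρ, MulEquiv.orderOf_eq, DihedralGroup.orderOf_r_one]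
  set Q : Subgroup G := Subgroup.zpowers (ρ : G) with hQ
  have hQT : Q ≤ (T : Subgroup G) := by rw [hQ, Subgroup.zpowers_le]; exact ρ.2
  have hQc : Nat.card Q = 2 ^ n := by rw [hQ, Nat.card_zpowers, hoρ]
  have hTc : Nat.card (T : Subgroup G) = 2 * 2 ^ n := by
    rw [Nat.card_congr e.toEquiv, DihedralGroup.nat_card]
  have hQi : Q.relIndex (T : Subgroup G) = 2 := by
    have h1 := (Q.subgroupOf (T : Subgroup G)).card_mul_index
    rw [Nat.card_congr (Subgroup.subgroupOfEquivOfLe hQT).toEquiv, hQc, hTc, mul_comm 2] at h1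
    exact Nat.eq_of_mul_eq_mul_left (by positivity) h1
  obtain ⟨z, hz⟩ := exists_prime_orderOf_dvd_card' (G := Q) 2 (by rw [hQc]; exact dvd_pow_self 2 (by omega))
  have huni : ∀ u : G, u ∈ Q → orderOf u = 2 → u = z := by
    intro u hu hu2
    have h1 : (⟨u, hu⟩ : Q) = z := by
      have e1 : orderOf (⟨u, hu⟩ : Q) = 2 := by rw [Subgroup.orderOf_mk]; exact hu2
      apply CfsgLib.H9M.cyc_inv (C := Q)
      · rw [← e1]; exact pow_orderOf_eq_one _
      · rw [← hz]; exact pow_orderOf_eq_one _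
      · intro h; rw [h, orderOf_one] at e1; omega
      · intro h; rw [h, orderOf_one] at hz; omega
    exact congrArg Subtype.val h1
  have hno : ∀ M : Subgroup G, M.Normal → M.index ≠ 2 := by
    intro M hM hM2
    have h1 := CfsgLib.Transfer.pResidual_le (p := 2) (N := M) (k := 1) (by rw [hM2, pow_one])
    rw [hO, top_le_iff] at h1
    rw [h1, Subgroup.index_top] at hM2
    omega
  have hoc : ∀ g u : G, orderOf (g * u * g⁻¹) = orderOf u := by
    intro g u
    have : g * u * g⁻¹ = MulAut.conj g u := rfl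
    rw [this, MulEquiv.orderOf_eq]
  have key : ∀ u : G, orderOf u = 2 → ∃ g : G, g * u * g⁻¹ = z := by
    intro u hu
    obtain ⟨g, hg⟩ := conj_into T hu
    by_cases hgQ : g * u * g⁻¹ ∈ Q
    · exact ⟨g, huni _ hgQ (by rw [hoc, hu])⟩
    · rcases Cfsg.Agent.S0111.result T Q hQT hQi (g * u * g⁻¹) (by rw [hoc, hu]) hg hgQ with ⟨M, hM, hM2, -⟩ | ⟨k, hk⟩
      · exact absurd hM2 (hno M hM)
      · refine ⟨k * g, ?_⟩
        have h1 : k * g * u * (k * g)⁻¹ = k * (g * u * g⁻¹) * k⁻¹ := by group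
        rw [h1]
        exact huni _ hk (by rw [hoc, hoc, hu])
  obtain ⟨g, hg⟩ := key x hx
  obtain ⟨k, hk⟩ := key y hy
  refine ⟨k⁻¹ * g, ?_⟩
  have h1 : k⁻¹ * g * x * (k⁻¹ * g)⁻¹ = k⁻¹ * (g * x * g⁻¹) * k := by group
  rw [h1, hg, ← hk]
  group

end Cfsg.Agent.S0107
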