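import Cfsg.Statements.S0214
import Cfsg.Agent.Lib.Invol

set_option autoImplicit false
open Cfsg

namespace Cfsg.Agent.S0214

/-- Let H be a proper subgroup of the finite group G and P a nontrivial Sylow 2-subgroup of H. Then H is strongly embedded in G if and only if N_G(X) ≤ H for every nontrivial subgroup X of P. -/
theorem result {G : Type*} [Group G] [Finite G] (H : Subgroup G) (hH : H ≠ ⊤) (P : Sylow 2 ↥H) (hP : (P : Subgroup ↥H) ≠ ⊥) : Cfsg.IsStronglyEmbedded H ↔ (∀ X : Subgroup ↥H, X ≤ (P : Subgroup ↥H) → X ≠ ⊥ → Subgroup.normalizer ((X.map H.subtype : Subgroup G) : Set G) ≤ H) := by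
  constructor
  · rintro ⟨-, -, hse⟩ X hXP hX g hg
    by_contra hgH
    have h1 := hse g hgH
    rw [← Nat.not_even_iff_odd] at h1
    apply h1
    have hX2 : IsPGroup 2 X := P.2.to_le hXP
    obtain ⟨k, hk⟩ := hX2.exists_card_eq
    have hk0 : k ≠ 0 := by
      rintro rfl
      rw [pow_zero] at hk
      exact hX (Subgroup.card_eq_one.mp hk)
    have hcard : Nat.card (X.map H.subtype) = Nat.card X := Subgroup.card_map_of_injective H.subtype_injective
    have hle : X.map H.subtype ≤ H ⊓ H.map (MulAut.conj g).toMonoidHom := by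
      intro x hx
      have hxH : ∀ y ∈ X.map H.subtype, y ∈ H := by
        rintro _ ⟨y, _, rfl⟩; exact y.2
      refine Subgroup.mem_inf.mpr ⟨hxH x hx, ?_⟩
      have h2 : g⁻¹ * x * g ∈ X.map H.subtype := by
        have h3 := (Subgroup.mem_normalizer_iff.mp hg) (g⁻¹ * x * g)
        apply h3.mpr
        have : g * (g⁻¹ * x * g) * g⁻¹ = x := by group
        rw [this]; exact hx
      refine ⟨_, hxH _ h2, ?_⟩
      simp only [MulEquiv.coe_toMonoidHom, MulAut.conj_apply]; group
    have h2 := Subgroup.card_dvd_of_le hle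
    rw [hcard, hk] at h2
    exact (even_iff_two_dvd.mpr ((dvd_pow_self 2 hk0).trans h2))
  · intro hN
    have C1 : ∀ E : Subgroup G, E ≤ H → IsPGroup 2 E → E ≠ ⊥ → ∀ n ∈ Subgroup.normalizer (E : Set G), n ∈ H := by
      intro E hEH hE hE1 n hn
      have hE' : IsPGroup 2 (E.subgroupOf H) := hE.comap_of_injective H.subtype H.subtype_injective
      obtain ⟨Q, hQ⟩ := hE'.exists_le_sylow
      obtain ⟨h, hh⟩ := MulAction.exists_smul_eq H Q P
      have hXP : (E.subgroupOf H).map (MulAut.conj h).toMonoidHom ≤ (P : Subgroup H) := by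
        rintro _ ⟨e, he, rfl⟩
        rw [← hh, Sylow.smul_def]
        exact Subgroup.smul_mem_pointwise_smul _ (MulAut.conj h) (Q : Subgroup H) (hQ he)
      have hmem : ∀ y : G, y ∈ ((E.subgroupOf H).map (MulAut.conj h).toMonoidHom).map H.subtype ↔ (h : G)⁻¹ * y * h ∈ E := by
        intro y
        constructor
        · rintro ⟨_, ⟨e, he, rfl⟩, rfl⟩
          have he := Subgroup.mem_subgroupOf.mp he
          simp only [MulEquiv.coe_toMonoidHom, MulAut.conj_apply, Subgroup.subtype_apply, Subgroup.coe_mul, Subgroup.coe_inv]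
          have : (h : G)⁻¹ * (h * e * (h : G)⁻¹) * h = e := by group
          rw [this]; exact he
        · intro hy
          refine ⟨h * ⟨(h : G)⁻¹ * y * h, hEH hy⟩ * h⁻¹, ⟨⟨(h : G)⁻¹ * y * h, hEH hy⟩, Subgroup.mem_subgroupOf.mpr hy, rfl⟩, ?_⟩
          simp only [Subgroup.subtype_apply, Subgroup.coe_mul, Subgroup.coe_inv]; group
      have hX1 : (E.subgroupOf H).map (MulAut.conj h).toMonoidHom ≠ ⊥ := by
        intro h0
        apply hE1
        rw [eq_bot_iff]
        intro e he
        have h3 : (h : G) * e * (h : G)⁻¹ ∈ ((E.subgroupOf H).map (MulAut.conj h).toMonoidHom).map H.subtype := by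
          rw [hmem]
          have : (h : G)⁻¹ * (h * e * (h : G)⁻¹) * h = e := by group
          rw [this]; exact he
        rw [h0, Subgroup.map_bot, Subgroup.mem_bot] at h3
        rw [Subgroup.mem_bot]
        have : e = (h : G)⁻¹ * (h * e * (h : G)⁻¹) * h := by group
        rw [this, h3]; group
      have h4 := hN _ hXP hX1
      have h5 : (h : G) * n * (h : G)⁻¹ ∈ H := by
        apply h4
        rw [Subgroup.mem_normalizer_iff]
        intro y
        rw [hmem, hmem, Subgroup.mem_normalizer_iff.mp hn]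
        have : n * ((h : G)⁻¹ * y * h) * n⁻¹ = (h : G)⁻¹ * (h * n * (h : G)⁻¹ * y * (h * n * (h : G)⁻¹)⁻¹) * h := by group
        rw [this]
      have : n = (h : G)⁻¹ * (h * n * (h : G)⁻¹) * h := by group
      rw [this]; exact mul_mem (mul_mem (inv_mem h.2) h5) h.2
    have hP2 : 2 ∣ Nat.card (P : Subgroup H) := by
      obtain ⟨k, hk⟩ := P.2.exists_card_eq
      rw [hk]
      apply dvd_pow_self
      rintro rfl
      rw [pow_zero] at hk
      exact hP (Subgroup.card_eq_one.mp hk)
    refine ⟨hH, even_iff_two_dvd.mpr (hP2.trans (Subgroup.card_subgroup_dvd_card _)), ?_⟩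
    intro g hg
    by_contra hodd
    rw [Nat.not_odd_iff_even] at hodd
    apply hg
    -- conj version
    have hmc : ∀ y : G, y ∈ H.map (MulAut.conj g).toMonoidHom ↔ g⁻¹ * y * g ∈ H := by
      intro y
      constructor
      · rintro ⟨x, hx, rfl⟩
        simp only [MulEquiv.coe_toMonoidHom, MulAut.conj_apply]
        have : g⁻¹ * (g * x * g⁻¹) * g = x := by group
        rw [this]; exact hx
      · intro hy
        refine ⟨_, hy, ?_⟩
        simp only [MulEquiv.coe_toMonoidHom, MulAut.conj_apply]; group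
    generalize hI : H ⊓ H.map (MulAut.conj g).toMonoidHom = I at *
    have hIm : ∀ y, y ∈ I ↔ y ∈ H ∧ g⁻¹ * y * g ∈ H := by
      intro y; rw [← hI, Subgroup.mem_inf, hmc]
    let D : Sylow 2 I := default
    have hD2 : IsPGroup 2 ((D : Subgroup I).map I.subtype) := D.2.map _
    have hDI : (D : Subgroup I).map I.subtype ≤ I := Subgroup.map_subtype_le _
    set D' := (D : Subgroup I).map I.subtype with hD'
    have hD1 : D' ≠ ⊥ := by
      intro h
      have h1 : 2 ∣ Nat.card (D : Subgroup I) := D.dvd_card_of_dvd_card hodd.two_dvd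
      rw [hD', Subgroup.map_eq_bot_iff_of_injective _ I.subtype_injective] at h
      rw [h, Subgroup.card_bot] at h1
      omega
    have hDH : D' ≤ H := fun y hy => ((hIm y).mp (hDI hy)).1
    -- D'' = g⁻¹ D' g
    set D'' := D'.map (MulAut.conj g⁻¹).toMonoidHom with hD''
    have hmD'' : ∀ y, y ∈ D'' ↔ g * y * g⁻¹ ∈ D' := by
      intro y
      constructor
      · rintro ⟨x, hx, rfl⟩
        simp only [MulEquiv.coe_toMonoidHom, MulAut.conj_apply]
        have : g * (g⁻¹ * x * g⁻¹⁻¹) * g⁻¹ = x := by group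
        rw [this]; exact hx
      · intro hy
        refine ⟨_, hy, ?_⟩
        simp only [MulEquiv.coe_toMonoidHom, MulAut.conj_apply]; group
    have hD''H : D'' ≤ H := by
      intro y hy
      have h1 := ((hIm _).mp (hDI ((hmD'' y).mp hy))).2
      have : g⁻¹ * (g * y * g⁻¹) * g = y := by group
      rwa [this] at h1
    have hD''2 : IsPGroup 2 D'' := hD2.map _
    have hcard'' : Nat.card D'' = Nat.card D' := Subgroup.card_map_of_injective (MulAut.conj g⁻¹).injective
    have hD''1 : D'' ≠ ⊥ := by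
      intro h
      rw [h, Subgroup.card_bot] at hcard''
      exact hD1 (Subgroup.card_eq_one.mp hcard''.symm)
    have C2 : ∀ n ∈ Subgroup.normalizer (D' : Set G), n ∈ I := by
      intro n hn
      rw [hIm]
      refine ⟨C1 D' hDH hD2 hD1 n hn, C1 D'' hD''H hD''2 hD''1 _ ?_⟩
      rw [Subgroup.mem_normalizer_iff]
      intro y
      rw [hmD'', hmD'', Subgroup.mem_normalizer_iff.mp hn]
      have : n * (g * y * g⁻¹) * n⁻¹ = g * (g⁻¹ * n * g * y * (g⁻¹ * n * g)⁻¹) * g⁻¹ := by group
      rw [this]
    -- D' is Sylow in H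
    have hD'H : IsPGroup 2 (D'.subgroupOf H) := hD2.comap_of_injective H.subtype H.subtype_injective
    obtain ⟨Q, hQ⟩ := hD'H.exists_le_sylow
    have hQ' : D' ≤ (Q : Subgroup H).map H.subtype := by
      intro y hy
      exact ⟨⟨y, hDH hy⟩, hQ (Subgroup.mem_subgroupOf.mpr hy), rfl⟩
    have hDQ : D' = (Q : Subgroup H).map H.subtype := by
      by_contra hne
      obtain ⟨x, hxQ, hxD, hxN⟩ := CfsgLib.Invol.exists_mem_normalizer (Q.2.map H.subtype) hQ' hne
      have hxI := C2 x hxN
      apply hxD
      have hz : IsPGroup 2 (Subgroup.zpowers (⟨x, hxI⟩ : I)) := by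
        have h1 : IsPGroup 2 (Subgroup.zpowers x) := (Q.2.map H.subtype).to_le (by rw [Subgroup.zpowers_le]; exact hxQ)
        refine (h1.comap_of_injective I.subtype I.subtype_injective).to_le ?_
        rw [Subgroup.zpowers_le]
        exact Subgroup.mem_zpowers x
      have := CfsgLib.Invol.mem_sylow_of_mem_normalizer D hz (by
        rw [Subgroup.mem_normalizer_iff]
        intro y
        have h2 : ∀ y : I, (y : G) ∈ D' ↔ y ∈ (D : Subgroup I) := by
          intro y
          constructor
          · rintro ⟨z, hz, hzy⟩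
            have : z = y := Subtype.ext hzy
            rw [← this]; exact hz
          · intro hy; exact ⟨y, hy, rfl⟩
        have h3 := (Subgroup.mem_normalizer_iff.mp hxN) y
        rw [← h2, ← h2]
        exact h3)
      exact ⟨_, this, rfl⟩
    have hD''s : IsPGroup 2 (D''.subgroupOf H) := hD''2.comap_of_injective H.subtype H.subtype_injective
    obtain ⟨R, hR⟩ := hD''s.exists_le_sylow
    have hRQ : Nat.card (R : Subgroup H) = Nat.card (Q : Subgroup H) := by
      rw [Sylow.card_eq_multiplicity, Sylow.card_eq_multiplicity]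
    have hcQ : Nat.card D' = Nat.card (Q : Subgroup H) := by
      rw [hDQ]; exact Subgroup.card_map_of_injective H.subtype_injective
    have hD''R : D'' = (R : Subgroup H).map H.subtype := by
      apply Subgroup.eq_of_le_of_card_ge
      · intro y hy
        exact ⟨⟨y, hD''H hy⟩, hR (Subgroup.mem_subgroupOf.mpr hy), rfl⟩
      · rw [Subgroup.card_map_of_injective H.subtype_injective, hRQ, hcard'', hcQ]
    obtain ⟨h, hh⟩ := MulAction.exists_smul_eq H Q R
    -- y ∈ D' → h y h⁻¹ ∈ D''
    have h1 : ∀ y ∈ D', (h : G) * y * (h : G)⁻¹ ∈ D'' := by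
      intro y hy
      rw [hDQ] at hy
      obtain ⟨q, hq, rfl⟩ := hy
      rw [hD''R, ← hh, Sylow.smul_def]
      refine ⟨h * q * h⁻¹, Subgroup.smul_mem_pointwise_smul _ (MulAut.conj h) (Q : Subgroup H) hq, ?_⟩
      simp
    have h2 : ∀ y ∈ D', (g * h) * y * (g * h)⁻¹ ∈ D' := by
      intro y hy
      have h3 := (hmD'' _).mp (h1 y hy)
      have : g * ((h : G) * y * (h : G)⁻¹) * g⁻¹ = (g * h) * y * (g * h)⁻¹ := by group
      rwa [this] at h3
    have h3 : g * (h : G) ∈ Subgroup.normalizer (D' : Set G) := by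
      rw [Subgroup.mem_normalizer_iff]
      intro y
      refine ⟨h2 y, ?_⟩
      intro hy
      have hinj : Function.Injective (fun y : D' => (⟨(g * h) * y.1 * (g * h)⁻¹, h2 y.1 y.2⟩ : D')) := by
        rintro ⟨a, ha⟩ ⟨b, hb⟩ hab
        simp only [Subtype.mk.injEq] at hab
        exact Subtype.ext (mul_left_cancel (mul_right_cancel hab))
      obtain ⟨⟨z, hz⟩, hz'⟩ := (Finite.injective_iff_surjective.mp hinj) ⟨_, hy⟩
      simp only [Subtype.mk.injEq] at hz'
      have : z = y := mul_left_cancel (mul_right_cancel hz')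
      rw [← this]; exact hz
    have h4 := C1 D' hDH hD2 hD1 _ h3
    have : g = g * (h : G) * (h : G)⁻¹ := by group
    rw [this]; exact mul_mem h4 (inv_mem h.2)

end Cfsg.Agent.S0214
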