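import Cfsg.Statements.S0223
import Cfsg.Agent.Lib.Invol

set_option autoImplicit false
open Cfsg

namespace Cfsg.Agent.S0223

/-- Let H be a proper subgroup of even order of the finite group G. Then H is strongly embedded if and only if (i) C_G(t) ≤ H for every involution t of H and (ii) H controls fusion of its involutions: involutions of H conjugate in G are conjugate in H. -/
theorem result {G : Type*} [Group G] [Finite G] (H : Subgroup G) (hH : H ≠ ⊤) (heven : Even (Nat.card H)) : Cfsg.IsStronglyEmbedded H ↔ ((∀ t ∈ H, orderOf t = 2 → Subgroup.centralizer ({t} : Set G) ≤ H) ∧ (∀ t ∈ H, ∀ s ∈ H, orderOf t = 2 → orderOf s = 2 → IsConj t s → ∃ h ∈ H, h * t * h⁻¹ = s)) := by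
  constructor
  · rintro ⟨-, -, h⟩
    have key : ∀ t ∈ H, orderOf t = 2 → ∀ g : G, g * t * g⁻¹ ∈ H → g ∈ H := by
      intro t ht ht2 g hg
      by_contra hgH
      have h1 := h g hgH
      rw [← Nat.not_even_iff_odd] at h1
      apply h1
      have h3 : orderOf (g * t * g⁻¹) = 2 := by
        rw [← MulAut.conj_apply, ← ht2]; exact MulEquiv.orderOf_eq _ _
      have hm : g * t * g⁻¹ ∈ H ⊓ H.map (MulAut.conj g).toMonoidHom := Subgroup.mem_inf.mpr ⟨hg, ⟨t, ht, rfl⟩⟩
      have h2 : orderOf (⟨g * t * g⁻¹, hm⟩ : ↥(H ⊓ H.map (MulAut.conj g).toMonoidHom)) = 2 :=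
        (Subgroup.orderOf_mk _ _).trans h3
      rw [even_iff_two_dvd, ← h2]
      exact orderOf_dvd_natCard _
    constructor
    · intro t ht ht2 g hg
      rw [Subgroup.mem_centralizer_singleton_iff] at hg
      apply key t ht ht2 g
      rw [hg, mul_inv_cancel_right]; exact ht
    · intro t ht s hs ht2 hs2 hts
      obtain ⟨c, hc⟩ := isConj_iff.mp hts
      exact ⟨c, key t ht ht2 c (by rw [hc]; exact hs), hc⟩
  · rintro ⟨h1, h2⟩
    refine ⟨hH, heven, ?_⟩
    intro g hg
    by_contra h3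
    rw [Nat.not_odd_iff_even, even_iff_two_dvd] at h3
    obtain ⟨t, ht⟩ := exists_prime_orderOf_dvd_card' 2 h3
    have ht2 : orderOf (t : G) = 2 := by rw [Subgroup.orderOf_coe]; exact ht
    obtain ⟨s, hs, hst⟩ := t.2.2
    have hst : g * s * g⁻¹ = t := hst
    have hs2 : orderOf s = 2 := by
      rw [← hst, ← MulAut.conj_apply, MulEquiv.orderOf_eq] at ht2; exact ht2
    obtain ⟨h, hh, hht⟩ := h2 s hs t t.2.1 hs2 ht2 (isConj_iff.mpr ⟨g, hst⟩)
    have h5 : h⁻¹ * g ∈ Subgroup.centralizer ({s} : Set G) := by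
      rw [Subgroup.mem_centralizer_singleton_iff]
      have h6 : g * s = h * s * h⁻¹ * g := by rw [hht, ← hst]; group
      rw [mul_assoc, h6]; group
    have h6 := h1 s hs hs2 h5
    apply hg
    have : g = h * (h⁻¹ * g) := by group
    rw [this]; exact mul_mem hh h6

end Cfsg.Agent.S0223
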