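import Cfsg.Statements.S0224
import Cfsg.Agent.Lib.Invol

set_option autoImplicit false
open Cfsg

namespace Cfsg.Agent.S0224

/-- Let H be a proper subgroup of even order of the finite group G. Then H is strongly embedded if and only if each involution of H fixes exactly one point (namely the coset H) in the action of G on the cosets of H. -/
theorem result {G : Type*} [Group G] [Finite G] (H : Subgroup G) (hH : H ≠ ⊤) (heven : Even (Nat.card H)) : Cfsg.IsStronglyEmbedded H ↔ ∀ t ∈ H, orderOf t = 2 → Nat.card {c : G ⧸ H // t • c = c} = 1 := by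
  have hfix : ∀ t g : G, t • (QuotientGroup.mk g : G ⧸ H) = QuotientGroup.mk g ↔ t ∈ H.map (MulAut.conj g).toMonoidHom := by
    intro t g
    rw [MulAction.Quotient.smul_mk, eq_comm, QuotientGroup.eq]
    constructor
    · intro h
      refine ⟨_, h, ?_⟩
      simp only [MulEquiv.coe_toMonoidHom, MulAut.conj_apply, smul_eq_mul]; group
    · rintro ⟨h, hh, rfl⟩
      simp only [MulEquiv.coe_toMonoidHom, MulAut.conj_apply, smul_eq_mul]
      have : g⁻¹ * (g * h * g⁻¹ * g) = h := by group
      rw [this]; exact hh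
  constructor
  · rintro ⟨-, -, h⟩ t ht ht2
    rw [Nat.card_eq_one_iff_unique]
    refine ⟨⟨?_⟩, ⟨⟨QuotientGroup.mk 1, ?_⟩⟩⟩
    · have key : ∀ c : {c : G ⧸ H // t • c = c}, c.1 = QuotientGroup.mk 1 := by
        rintro ⟨c, hc⟩
        obtain ⟨g, rfl⟩ := QuotientGroup.mk_surjective c
        rw [hfix] at hc
        have hg : g ∈ H := by
          by_contra hg
          have h1 := h g hg
          rw [← Nat.not_even_iff_odd] at h1
          apply h1
          have hm : t ∈ H ⊓ H.map (MulAut.conj g).toMonoidHom := Subgroup.mem_inf.mpr ⟨ht, hc⟩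
          have h2 : orderOf (⟨t, hm⟩ : ↥(H ⊓ H.map (MulAut.conj g).toMonoidHom)) = 2 :=
            (Subgroup.orderOf_mk _ _).trans ht2
          rw [even_iff_two_dvd, ← h2]
          exact orderOf_dvd_natCard _
        simp only
        rw [QuotientGroup.eq, mul_one]
        exact inv_mem hg
      intro a b
      exact Subtype.ext ((key a).trans (key b).symm)
    · rw [hfix]
      exact ⟨t, ht, by simp⟩
  · intro h
    refine ⟨hH, heven, ?_⟩
    intro g hg
    by_contra h1
    rw [Nat.not_odd_iff_even, even_iff_two_dvd] at h1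
    obtain ⟨t, ht⟩ := exists_prime_orderOf_dvd_card' 2 h1
    have ht2 : orderOf (t : G) = 2 := by rw [Subgroup.orderOf_coe]; exact ht
    have h3 := h t t.2.1 ht2
    rw [Nat.card_eq_one_iff_unique] at h3
    have h4 := h3.1.elim ⟨QuotientGroup.mk g, (hfix t g).mpr t.2.2⟩ ⟨QuotientGroup.mk 1, (hfix t 1).mpr ⟨t, t.2.1, by simp⟩⟩
    have h5 : (QuotientGroup.mk 1 : G ⧸ H) = QuotientGroup.mk g := (congrArg Subtype.val h4).symm
    rw [QuotientGroup.eq, inv_one, one_mul] at h5
    exact hg h5

end Cfsg.Agent.S0224
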