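import Cfsg.Statements.S0374
import Cfsg.Agent.Lib.GolayTrio

set_option autoImplicit false
open Cfsg

open scoped Pointwise
namespace Cfsg.Agent.S0374

section
open CfsgLib.Golay

def sT : ℕ := 0x1d8f471a4d7d4a89de8c4a9703da24188201d8f09c8cbbd90573d2ca29b13d604188201d8ee835662a5f78a2ccaaa4e3d264188201d0eea20b75c6464b5cc9a9f63c2a4188201d8e833a70abd349590c2aa2d3dd64188201d8e65c613a22d56a5ecba9d2394c4188201d0e62a695835d34464c32acf3aee4188201d8e06c22e496b65d2ec7aa663a244188201d0e0451368ae6e2c0cc92ab73b5e4188201cce07d6c971a11bcd6c6aa853c904188201d4da8adb2452ef816acb28d33a5c4188201b8dc4cead751658da4a79d17640c4188201bcda4950f6c0d2a2e6c72af53c6c4188201c8deb5de894d6da9a0c8a8b43b924188201b4e2b34b1439309aee79328f554c4188201b8de94dd1b5e89354ac42a0b3bda4188201b4deabee5339abb4a2c829093ce8418820188d2859c5ac50da4eea31d72625e41882018cd243ab2b35e65ce878b2e95160418820178b4995b45d609b2247bb226539e418820168d433e92756c58ada79aa172212c18820168d08be8d648a43baa68250ab4eeb1882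016cca649c54c48b32af3a3db6854e818820168c43de085bd864aa7273636a14951882016cc25b584b9ece8a550a3ea5448d318820168c2acd3662e87534d179504742571882016cc07a8b133a095cef23d4966b11418820168be491d1add726d8af520f4830d31882016cbc5350f2c18eb926692691b54eb18820168bca2c8c42a509b4f74c6cf71aa51882016cbaaa1662268a3b6ce85e6c8be451882016cb8bd987929cda948f4ccd442e3018820168b8340ae65d2a25a359d1076bd721882016cb69c6b2336164a28a710ab3ddec18820168b62b110acdcda45e922cf2b2ae61882016cb4251697d9489b0d7696508d4ee18820168b49398a591b6350f32c22945eaf18820128a0342adbd2d12ae44431ee3cd2a188201249a7a976a991494125638ed892771882011ca8ba6a49c64a6a1e51c2ce3999458820118a4ada277a64530d0e84eec5928a68820118a2944e478d662dd55a266d759106082011c9e252e7854a81c8cb8a98f6d92e9882011c9c7a46c81eb76c54e918b644d74208201189c831057a9ae392a68ae921cee9b082011c9a4a9937456f91a8d410a785477b08201189a74e054d24d8d96430ee8655ea3882011c98aa6861a16c3c5d62de6a6c9f02082011898199b3ab8f6411778be05a49895082011c965264b3206f69ef6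acdc58c094608201189632e2e55db64307339295941e92882011c9420ccda3e4784d958daeb4392a2882011892bbe36730ea69a924120b28ea99882011c90990f6bbda58ae5043283a99497082011c8eb267561e0b434ce795528d083b882011c8c9110a654f38bca369a145ddc9b08201188c6297091623ad8e67b92d45e64a08200cc76291ae32d128d6743dc707b2c9508200d076339e32ce345a917ad9276b244808200c880649a6bccaf522168d5623b8644d0200c87c434e628d964ba829d65025d4b8bc200c87a7c99599ac32355070a373a505a2c200c476a0ec7bbd3552c506226429a2d748200c872b0af37d1096c970514eeab22620c200c47279aa2b357142a8974264bb0a790c200c870140a3b3dd13b6544b097aa2665a8200c470b1ab011e53725f1bd06b2a1846a8200c86e1d4578322e691744a8c59bec7920200c46e81e751b5768a58e2d2f213d46220200c86c84e2c415ab73e4432443a5d563d4200c46c45a9383a4a698ab191878dd227d4200c46a4ccae85cea9346462e867d915144200c46888d97a148969d4b449e6b09d584c200c46675d45a08c9235127ad8780e33ad8200c8645b123244467baa7bc8b6441b49a8200c4642510c5bead15e26b1c734c245728200c8625bdc895aa781666111438d1acba4200c4629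322f5c26da8ac7199177508a2a42007c4630e563a4b773d538563422c48634200784c3a083339422c137a4ecc92eb17b4200705a15c76291cc3ceaf91a884c0315a9a0068549384ba9e2d60c2a219367de68a40a00704e74a01a88d7534692c58b258f49a1e00684e13ac5b9e838ce493218f0b6ab540800684c7a18568a038ce81b10c7aad37549c00704a22c476b98135a059c6a393e89ba1400684a711f30d1308dd65622aa3d9a330a40068481ddec9a8c83860daca848b9251596007046316c71ba3243e04ad2f31054c6ad20068467183592990a34a48aee93bc73458400704445aa9a28d282cae8dda111c73231e006842230ed59aa24da7288c25a2a1743dc00703ebd62980a963398b3966d5110193c600703c344e32a2f663ea2a4e445260d585c00683c41934b41b59ae22b864e1bca461d400703a646909a02faa9ae4dd723145619c800683a430a978acdb8e2e09d6482a72ad0c007038bd130a9a710b8ea2b6cb40d92790400683835c658b2476be8a992c283aab0a50006834606138d574b2926bc9ee111a33950006c16bce15a06c9938a86ae2a608ef20cc000004b81d45588b6be2944cec8143510cd2064000dc4d49de559268b0e26aba8a941800000205c2c419c450e47a8a05a36698bd760042c4166993c6a031c2218f08d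aa16ae9700024b9e617d5602b1d09293443626158640001ebd050b30266be335aaa9748e3010a80081c11a4fa35072900c1aec9741558867700018b864b43c745418d880c975a75390450041699d4d342d41822f2305592d057243700016bcc2faac0563a12526886c4c2b0c87008140962e9b0e620ecb12aa86bd348025700812bcd89812ab8b5d209d4f052c828cc200012b8a16604cd7c66b5552e91c602151400810151521cc89298f643c0c585cd8d6170040e191eb4c4ed355412cd0085994938570080cbc96878e8a831b10192eb4ea7208a10000cb85f5580ac7424a4d10d89856190f30080a0cd3114868214d53bacb501ac851f700808bc2cc099af8cd6aaa5d238c042a2820040810dca440cc2d120248f67d5738b43700008b8820b56939460f7358b525073148300800bbeab0158e84949a21b130ac321e6100400089a93bcab24d161c4d5751528301700000b8416ad2728c1ee6b16a4a0e62906200001bdab49ca307b9ac5a928398a41882000000bba8ab116d7c52899d90286a219a4000000005883388a1c8f5140b46cd317aed700000b82d5a4e5183dcd62d4941cc520c41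

def lvs : List (List ℕ) := [[3, 5, 17, 22, 15, 9, 10, 16, 13, 14, 20, 12, 8, 21, 19, 24, 23, 18, 11, 6, 7, 4, 0, 1], [0, 3, 35, 30, 36, 48, 40, 45, 38, 37, 34, 32, 44, 47, 41, 31, 43, 33, 28, 42, 46, 39, 29, 26], [0, 0, 3, 57, 58, 50, 56, 60, 69, 59, 67, 52, 68, 66, 51, 53, 49, 54, 55, 62, 64, 61, 65, 63], [0, 0, 0, 3, 74, 83, 76, 84, 75, 71, 82, 89, 73, 78, 88, 86, 72, 79, 87, 81, 70, 85, 77, 80], [0, 0, 0, 0, 3, 105, 90, 108, 103, 102, 95, 94, 91, 97, 100, 96, 107, 106, 92, 98, 104, 99, 101, 93], [0, 0, 0, 0, 0, 0, 0, 3, 0, 0, 111, 0, 109, 0, 0, 0, 0, 0, 0, 0, 0, 0, 0, 0], [0, 0, 0, 0, 0, 3, 123, 0, 119, 115, 0, 124, 0, 113, 118, 120, 127, 128, 121, 126, 112, 125, 116, 122]]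

def pP (i : ℕ) : ℕ := Nat.land (Nat.shiftRight sT (Nat.mul 140 i)) 0xffffffffffffffffffffffffffffff
def oO (i : ℕ) : ℕ := Nat.land (Nat.shiftRight sT (Nat.add (Nat.mul 140 i) 120)) 1
def aA (i : ℕ) : ℕ := Nat.land (Nat.shiftRight sT (Nat.add (Nat.mul 140 i) 121)) 511
def bB (i : ℕ) : ℕ := Nat.land (Nat.shiftRight sT (Nat.add (Nat.mul 140 i) 130)) 511

def isComp (P Q R : ℕ) : Bool := ixs.all fun i => Nat.beq (img P (img Q i)) (img R i)

theorem packs_comp {P Q R : ℕ} {g k : Equiv.Perm Cfsg.GolayPt} (h : isComp P Q R = true) (hP : Packs P g) (hQ : Packs Q k) : Packs R (g * k) := by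
  rw [isComp, List.all_eq_true] at h
  intro p
  rw [Equiv.Perm.mul_apply, hP, hQ]
  exact Nat.eq_of_beq_eq_true (h _ (mem_ixs.mpr (idx_lt p)))

theorem packs_div {P Q R : ℕ} {g k : Equiv.Perm Cfsg.GolayPt} (h : isComp P Q R = true) (hQ : Packs Q g) (hR : Packs R k) : Packs P (k * g⁻¹) := by
  rw [isComp, List.all_eq_true] at h
  intro p
  have h1 := Nat.eq_of_beq_eq_true (h _ (mem_ixs.mpr (idx_lt (g⁻¹ p))))
  rw [← hQ, ← hR] at h1
  rw [Equiv.Perm.mul_apply, ← h1]
  simp

def stp (i : ℕ) : Bool := or (Nat.blt i 3) (and (and (Nat.blt (aA i) i) (Nat.blt (bB i) i))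
  (cond (Nat.beq (oO i) 0) (isComp (pP (aA i)) (pP (bB i)) (pP i)) (isComp (pP i) (pP (aA i)) (pP (bB i)))))

theorem s_step : allLt 129 stp = true := by decide +kernel

def lvOk (L b fx allowed : ℕ) : Bool := ixs.all fun p => or (not (allowed.testBit p))
  (and (Nat.blt ((lvs.getD L []).getD p 0) 129) (and (Nat.beq (img (pP ((lvs.getD L []).getD p 0)) p) b)
    ([0, 1, 2, 3, 4, 7].all fun f => or (not (fx.testBit f)) (Nat.beq (img (pP ((lvs.getD L []).getD p 0)) f) f))))

theorem lv_chk : and (and (and (lvOk 0 0 0 0xffffff) (lvOk 1 1 1 0xfffffe)) (and (lvOk 2 2 3 0xfffffc) (lvOk 3 3 7 0xfffff8)))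
    (and (lvOk 4 4 15 0xfffff0) (and (lvOk 5 7 31 5248) (lvOk 6 5 0x9f 16771936))) = true := by decide +kernel

theorem K_elem (K : Subgroup (Equiv.Perm Cfsg.GolayPt)) (h0 : ∃ g ∈ K, Packs (pP 0) g) (h1 : ∃ g ∈ K, Packs (pP 1) g)
    (h2 : ∃ g ∈ K, Packs (pP 2) g) : ∀ i < 129, ∃ g ∈ K, Packs (pP i) g := by
  intro i
  induction i using Nat.strong_induction_on with
  | _ i ih =>
    intro hi
    have h := allLt_spec s_step i hi
    simp only [stp, Bool.or_eq_true, Bool.and_eq_true] at h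
    rcases h with h | ⟨⟨ha, hb⟩, hc⟩
    · have : i < 3 := Nat.le_of_ble_eq_true h
      interval_cases i
      · exact h0
      · exact h1
      · exact h2
    · have ha' : aA i < i := Nat.le_of_ble_eq_true ha
      have hb' : bB i < i := Nat.le_of_ble_eq_true hb
      obtain ⟨g, hg, hgP⟩ := ih _ ha' (by omega)
      obtain ⟨k, hk, hkP⟩ := ih _ hb' (by omega)
      cases hO : Nat.beq (oO i) 0 with
      | true =>
        rw [hO] at hc
        exact ⟨g * k, mul_mem hg hk, packs_comp hc hgP hkP⟩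
      | false =>
        rw [hO] at hc
        exact ⟨k * g⁻¹, mul_mem hk (inv_mem hg), packs_div hc hgP hkP⟩

theorem lv_spec {K : Subgroup (Equiv.Perm Cfsg.GolayPt)} (hK : ∀ i < 129, ∃ g ∈ K, Packs (pP i) g) {L b fx allowed : ℕ}
    (h : lvOk L b fx allowed = true) {p : Cfsg.GolayPt} (hp : allowed.testBit (idx p) = true) :
    ∃ g ∈ K, g p = pt b ∧ ∀ f ∈ [0, 1, 2, 3, 4, 7], fx.testBit f = true → g (pt f) = pt f := by
  have h1 := List.all_eq_true.mp h (idx p) (mem_ixs.mpr (idx_lt p))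
  simp only [hp, Bool.not_true, Bool.false_or, Bool.and_eq_true] at h1
  obtain ⟨h2, h3, h4⟩ := h1
  obtain ⟨g, hg, hP⟩ := hK _ (Nat.le_of_ble_eq_true h2)
  refine ⟨g, hg, ?_, ?_⟩
  · rw [hP.apply' p, Nat.eq_of_beq_eq_true h3]
  · intro f hf hfx
    have h5 := List.all_eq_true.mp h4 f hf
    rw [hfx] at h5
    simp only [Bool.not_true, Bool.false_or] at h5
    have hf24 : f < 24 := by
      have : ∀ f ∈ [0, 1, 2, 3, 4, 7], f < 24 := by decide
      exact this f hf
    exact hP.apply hf24 (Nat.eq_of_beq_eq_true h5)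

theorem le_of_elems (K : Subgroup (Equiv.Perm Cfsg.GolayPt)) (hKM : K ≤ Cfsg.M24) (hK : ∀ i < 129, ∃ g ∈ K, Packs (pP i) g) : Cfsg.M24 ≤ K := by
  intro g hg
  have hc := lv_chk
  simp only [Bool.and_eq_true] at hc
  obtain ⟨⟨⟨c0, c1⟩, c2, c3⟩, c4, c5, c6⟩ := hc
  have ne_tb : ∀ {n : ℕ} {p : Cfsg.GolayPt}, (∀ i < n, p ≠ pt i) → (0xffffff - (2 ^ n - 1)).testBit (idx p) = true → True := fun _ _ => trivial
  -- level 0
  obtain ⟨k0, hk0, e0, -⟩ := lv_spec hK c0 (p := g (pt 0)) (by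
    have : ∀ i < 24, (0xffffff : ℕ).testBit i = true := by decide
    exact this _ (idx_lt _))
  have g0 : (k0 * g) (pt 0) = pt 0 := e0
  set g1 := k0 * g with hg1
  obtain ⟨k1, hk1, e1, f1⟩ := lv_spec hK c1 (p := g1 (pt 1)) (by
    have : ∀ i < 24, i ≠ 0 → (0xfffffe : ℕ).testBit i = true := by decide
    apply this _ (idx_lt _)
    intro h
    have h2 : g1 (pt 1) = g1 (pt 0) := by rw [g0]; exact idx_injective (by rw [h]; rfl)
    exact absurd (g1.injective h2) (by decide))
  have g10 : (k1 * g1) (pt 0) = pt 0 := by rw [Equiv.Perm.mul_apply, g0]; exact f1 0 (by simp) (by decide)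
  have g11 : (k1 * g1) (pt 1) = pt 1 := e1
  set g2 := k1 * g1 with hg2
  have inj : ∀ {k : Equiv.Perm Cfsg.GolayPt} {i j : ℕ}, i < 24 → j < 24 → k (pt j) = pt j → i ≠ j → idx (k (pt i)) ≠ j := by
    intro k i j hi hj h1 hij h
    have h2 : k (pt i) = k (pt j) := by rw [h1]; exact idx_injective (by rw [h, idx_pt hj])
    have h3 := congrArg idx (k.injective h2)
    rw [idx_pt hi, idx_pt hj] at h3
    exact hij h3
  obtain ⟨k2, hk2, e2, f2⟩ := lv_spec hK c2 (p := g2 (pt 2)) (by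
    have : ∀ i < 24, i ≠ 0 → i ≠ 1 → (0xfffffc : ℕ).testBit i = true := by decide
    exact this _ (idx_lt _) (inj (by norm_num) (by norm_num) g10 (by norm_num)) (inj (by norm_num) (by norm_num) g11 (by norm_num)))
  have g20 : (k2 * g2) (pt 0) = pt 0 := by rw [Equiv.Perm.mul_apply, g10]; exact f2 0 (by simp) (by decide)
  have g21 : (k2 * g2) (pt 1) = pt 1 := by rw [Equiv.Perm.mul_apply, g11]; exact f2 1 (by simp) (by decide)
  have g22 : (k2 * g2) (pt 2) = pt 2 := e2
  set g3 := k2 * g2 with hg3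
  obtain ⟨k3, hk3, e3, f3⟩ := lv_spec hK c3 (p := g3 (pt 3)) (by
    have : ∀ i < 24, i ≠ 0 → i ≠ 1 → i ≠ 2 → (0xfffff8 : ℕ).testBit i = true := by decide
    exact this _ (idx_lt _) (inj (by norm_num) (by norm_num) g20 (by norm_num)) (inj (by norm_num) (by norm_num) g21 (by norm_num))
      (inj (by norm_num) (by norm_num) g22 (by norm_num)))
  have g30 : (k3 * g3) (pt 0) = pt 0 := by rw [Equiv.Perm.mul_apply, g20]; exact f3 0 (by simp) (by decide)
  have g31 : (k3 * g3) (pt 1) = pt 1 := by rw [Equiv.Perm.mul_apply, g21]; exact f3 1 (by simp) (by decide)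
  have g32 : (k3 * g3) (pt 2) = pt 2 := by rw [Equiv.Perm.mul_apply, g22]; exact f3 2 (by simp) (by decide)
  have g33 : (k3 * g3) (pt 3) = pt 3 := e3
  set g4 := k3 * g3 with hg4
  obtain ⟨k4, hk4, e4, f4⟩ := lv_spec hK c4 (p := g4 (pt 4)) (by
    have : ∀ i < 24, i ≠ 0 → i ≠ 1 → i ≠ 2 → i ≠ 3 → (0xfffff0 : ℕ).testBit i = true := by decide
    exact this _ (idx_lt _) (inj (by norm_num) (by norm_num) g30 (by norm_num)) (inj (by norm_num) (by norm_num) g31 (by norm_num))
      (inj (by norm_num) (by norm_num) g32 (by norm_num)) (inj (by norm_num) (by norm_num) g33 (by norm_num)))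
  have g40 : (k4 * g4) (pt 0) = pt 0 := by rw [Equiv.Perm.mul_apply, g30]; exact f4 0 (by simp) (by decide)
  have g41 : (k4 * g4) (pt 1) = pt 1 := by rw [Equiv.Perm.mul_apply, g31]; exact f4 1 (by simp) (by decide)
  have g42 : (k4 * g4) (pt 2) = pt 2 := by rw [Equiv.Perm.mul_apply, g32]; exact f4 2 (by simp) (by decide)
  have g43 : (k4 * g4) (pt 3) = pt 3 := by rw [Equiv.Perm.mul_apply, g33]; exact f4 3 (by simp) (by decide)
  have g44 : (k4 * g4) (pt 4) = pt 4 := e4
  set g5 := k4 * g4 with hg5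
  have hg5M : g5 ∈ Cfsg.M24 := M24_mul (hKM hk4) (M24_mul (hKM hk3) (M24_mul (hKM hk2) (M24_mul (hKM hk1) (M24_mul (hKM hk0) hg))))
  have hO : g5 • O0 = O0 := by
    apply smul_octad_of_list hg5M O0_mem (l := [pt 0, pt 1, pt 2, pt 3, pt 4]) (by decide) (by decide +kernel) (by simp)
    intro p hp
    simp only [List.mem_cons, List.not_mem_nil, or_false] at hp
    rcases hp with rfl | rfl | rfl | rfl | rfl <;> assumption
  obtain ⟨k5, hk5, e5, f5⟩ := lv_spec hK c5 (p := g5 (pt 7)) (by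
    have h1 : g5 (pt 7) ∈ O0 := by rw [← hO]; exact mem_smul_iff.mpr (by decide +kernel)
    have : ∀ i < 24, (pt i ∈ O0 ∧ i ≠ 0 ∧ i ≠ 1 ∧ i ≠ 2 ∧ i ≠ 3 ∧ i ≠ 4) → (5248 : ℕ).testBit i = true := by decide +kernel
    exact this _ (idx_lt _) ⟨by rw [pt_idx]; exact h1, inj (by norm_num) (by norm_num) g40 (by norm_num), inj (by norm_num) (by norm_num) g41 (by norm_num),
      inj (by norm_num) (by norm_num) g42 (by norm_num), inj (by norm_num) (by norm_num) g43 (by norm_num), inj (by norm_num) (by norm_num) g44 (by norm_num)⟩)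
  have g50 : (k5 * g5) (pt 0) = pt 0 := by rw [Equiv.Perm.mul_apply, g40]; exact f5 0 (by simp) (by decide)
  have g51 : (k5 * g5) (pt 1) = pt 1 := by rw [Equiv.Perm.mul_apply, g41]; exact f5 1 (by simp) (by decide)
  have g52 : (k5 * g5) (pt 2) = pt 2 := by rw [Equiv.Perm.mul_apply, g42]; exact f5 2 (by simp) (by decide)
  have g53 : (k5 * g5) (pt 3) = pt 3 := by rw [Equiv.Perm.mul_apply, g43]; exact f5 3 (by simp) (by decide)
  have g54 : (k5 * g5) (pt 4) = pt 4 := by rw [Equiv.Perm.mul_apply, g44]; exact f5 4 (by simp) (by decide)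
  have g57 : (k5 * g5) (pt 7) = pt 7 := e5
  set g6 := k5 * g5 with hg6
  have hg6M : g6 ∈ Cfsg.M24 := M24_mul (hKM hk5) hg5M
  have hO6 : g6 • O0 = O0 := by
    apply smul_octad_of_list hg6M O0_mem (l := [pt 0, pt 1, pt 2, pt 3, pt 4]) (by decide) (by decide +kernel) (by simp)
    intro p hp
    simp only [List.mem_cons, List.not_mem_nil, or_false] at hp
    rcases hp with rfl | rfl | rfl | rfl | rfl <;> assumption
  obtain ⟨k6, hk6, e6, f6⟩ := lv_spec hK c6 (p := g6 (pt 5)) (by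
    have h1 : g6 (pt 5) ∉ O0 := by
      rw [← hO6, mem_smul_iff]; decide +kernel
    have : ∀ i < 24, pt i ∉ O0 → (16771936 : ℕ).testBit i = true := by decide +kernel
    exact this _ (idx_lt _) (by rw [pt_idx]; exact h1))
  have g60 : (k6 * g6) (pt 0) = pt 0 := by rw [Equiv.Perm.mul_apply, g50]; exact f6 0 (by simp) (by decide)
  have g61 : (k6 * g6) (pt 1) = pt 1 := by rw [Equiv.Perm.mul_apply, g51]; exact f6 1 (by simp) (by decide)
  have g62 : (k6 * g6) (pt 2) = pt 2 := by rw [Equiv.Perm.mul_apply, g52]; exact f6 2 (by simp) (by decide)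
  have g63 : (k6 * g6) (pt 3) = pt 3 := by rw [Equiv.Perm.mul_apply, g53]; exact f6 3 (by simp) (by decide)
  have g64 : (k6 * g6) (pt 4) = pt 4 := by rw [Equiv.Perm.mul_apply, g54]; exact f6 4 (by simp) (by decide)
  have g67 : (k6 * g6) (pt 7) = pt 7 := by rw [Equiv.Perm.mul_apply, g57]; exact f6 7 (by simp) (by decide)
  have g65 : (k6 * g6) (pt 5) = pt 5 := e6
  have h1 : k6 * g6 = 1 := eq_one_of_base (M24_mul (hKM hk6) hg6M) g60 g61 g62 g63 g64 g67 g65
  have h6 : g6 ∈ K := by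
    have : g6 = k6⁻¹ := (inv_eq_of_mul_eq_one_right h1).symm
    rw [this]; exact inv_mem hk6
  have h5 : g5 ∈ K := (Subgroup.mul_mem_cancel_left K hk5).mp h6
  have h4 : g4 ∈ K := (Subgroup.mul_mem_cancel_left K hk4).mp h5
  have h3 : g3 ∈ K := (Subgroup.mul_mem_cancel_left K hk3).mp h4
  have h2 : g2 ∈ K := (Subgroup.mul_mem_cancel_left K hk2).mp h3
  have h1 : g1 ∈ K := (Subgroup.mul_mem_cancel_left K hk1).mp h2
  exact (Subgroup.mul_mem_cancel_left K hk0).mp h1

theorem packsA : Packs (pP 0) (Equiv.optionCongr (Equiv.addRight (1 : ZMod 23))) := by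
  apply packs_of_check
  decide +kernel

theorem packsB : Packs (pP 1) Cfsg.projInv := by
  apply packs_of_check
  show packsCheck _ projInvFun = true
  decide +kernel

theorem packsC : Packs (pP 2) Cfsg.cubeTwist := by
  apply packs_of_check
  show packsCheck _ cubeTwistFun = true
  decide +kernel

end


/-- The group of the length-24 code is generated by x ↦ x+1, x ↦ -1/x and the cube-twist permutation. -/
theorem result : Subgroup.closure {Equiv.optionCongr (Equiv.addRight (1 : ZMod 23)), Cfsg.projInv, Cfsg.cubeTwist} = Cfsg.M24 := by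
  have hA : (Equiv.optionCongr (Equiv.addRight (1 : ZMod 23)) : Equiv.Perm Cfsg.GolayPt) ∈ Subgroup.closure {Equiv.optionCongr (Equiv.addRight (1 : ZMod 23)), Cfsg.projInv, Cfsg.cubeTwist} := Subgroup.subset_closure (by simp)
  have hB : Cfsg.projInv ∈ Subgroup.closure {Equiv.optionCongr (Equiv.addRight (1 : ZMod 23)), Cfsg.projInv, Cfsg.cubeTwist} := Subgroup.subset_closure (by simp)
  have hC : Cfsg.cubeTwist ∈ Subgroup.closure {Equiv.optionCongr (Equiv.addRight (1 : ZMod 23)), Cfsg.projInv, Cfsg.cubeTwist} := Subgroup.subset_closure (by simp)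
  have hle : Subgroup.closure {Equiv.optionCongr (Equiv.addRight (1 : ZMod 23)), Cfsg.projInv, Cfsg.cubeTwist} ≤ Cfsg.M24 := by
    rw [Subgroup.closure_le]
    intro g hg
    simp only [Set.mem_insert_iff, Set.mem_singleton_iff] at hg
    rcases hg with rfl | rfl | rfl
    · exact CfsgLib.Golay.mem_M24_of_packs packsA (by decide +kernel)
    · exact CfsgLib.Golay.mem_M24_of_packs packsB (by decide +kernel)
    · exact CfsgLib.Golay.mem_M24_of_packs packsC (by decide +kernel)
  apply le_antisymm hle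
  exact le_of_elems _ hle (K_elem _ ⟨_, hA, packsA⟩ ⟨_, hB, packsB⟩ ⟨_, hC, packsC⟩)

end Cfsg.Agent.S0374
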