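import Cfsg.Statements.S0693
import Cfsg.Agent.Lib.MatList

set_option autoImplicit false
open Cfsg

set_option linter.style.haveILetI false
namespace Cfsg.Agent.S0693

open CfsgLib.MatList in
theorem chk : check 59 [(0,58,1,0),(9,15,49,49)] (([[], [0], [1], [0,0], [1,0], [0,1], [1,1], [0,0,0], [1,0,0], [0,1,0], [1,1,0], [1,0,1], [0,1,1], [1,0,0,0], [0,1,0,0], [1,1,0,0], [1,0,1,0], [0,1,1,0], [0,1,0,1], [1,1,0,1], [1,0,1,1], [0,1,0,0,0], [1,1,0,0,0], [1,0,1,0,0], [0,1,1,0,0], [0,1,0,1,0], [1,1,0,1,0], [1,0,1,1,0], [1,0,1,0,1], [0,1,1,0,1], [0,1,0,1,1], [1,1,0,1,1], [1,0,1,0,0,0], [0,1,1,0,0,0], [0,1,0,1,0,0], [1,1,0,1,0,0], [1,0,1,1,0,0], [1,0,1,0,1,0], [0,1,1,0,1,0], [0,1,0,1,1,0], [1,1,0,1,1,0], [1,1,0,1,0,1], [1,0,1,1,0,1], [1,0,1,0,1,1], [0,1,0,1,0,0,0], [1,1,0,1,0,0,0], [1,0,1,1,0,0,0], [1,0,1,0,1,0,0],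 [0,1,1,0,1,0,0], [0,1,0,1,1,0,0], [1,1,0,1,1,0,0], [1,1,0,1,0,1,0], [1,0,1,1,0,1,0], [1,0,1,0,1,1,0], [0,1,1,0,1,0,1], [0,1,0,1,1,0,1], [1,1,0,1,1,0,1], [1,1,0,1,0,1,1], [1,0,1,0,1,0,0,0], [0,1,1,0,1,0,0,0], [0,1,0,1,1,0,0,0], [1,1,0,1,1,0,0,0], [1,1,0,1,0,1,0,0], [1,0,1,1,0,1,0,0], [1,0,1,0,1,1,0,0], [0,1,1,0,1,0,1,0], [0,1,0,1,1,0,1,0], [1,1,0,1,1,0,1,0], [1,1,0,1,0,1,1,0], [1,0,1,1,0,1,0,1], [1,0,1,0,1,1,0,1], [0,1,1,0,1,0,1,1], [1,1,0,1,0,1,0,0,0], [1,0,1,1,0,1,0,0,0], [1,0,1,0,1,1,0,0,0], [0,1,1,0,1,0,1,0,0], [0,1,0,1,1,0,1,0,0], [1,1,0,1,1,0,1,0,0], [1,1,0,1,0,1,1,0,0], [1,0,1,1,0,1,0,1,0], [1,0,1,0,1,1,0,1,0], [0,1,1,0,1,0,1,1,0], [0,1,0,1,1,0,1,0,1], [1,1,0,1,1,0,1,0,1], [1,1,0,1,0,1,1,0,1], [1,0,1,1,0,1,0,1,1], [0,1,1,0,1,0,1,0,0,0], [0,1,0,1,1,0,1,0,0,0], [1,1,0,1,1,0,1,0,0,0], [1,1,0,1,0,1,1,0,0,0],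 [1,0,1,1,0,1,0,1,0,0], [1,0,1,0,1,1,0,1,0,0], [0,1,1,0,1,0,1,1,0,0], [0,1,0,1,1,0,1,0,1,0], [1,1,0,1,1,0,1,0,1,0], [1,1,0,1,0,1,1,0,1,0], [1,0,1,1,0,1,0,1,1,0], [1,0,1,0,1,1,0,1,0,1], [0,1,1,0,1,0,1,1,0,1], [0,1,0,1,1,0,1,0,1,1], [1,0,1,1,0,1,0,1,0,0,0], [1,0,1,0,1,1,0,1,0,0,0], [0,1,0,1,1,0,1,0,1,0,0], [1,1,0,1,1,0,1,0,1,0,0], [1,1,0,1,0,1,1,0,1,0,0], [1,0,1,1,0,1,0,1,1,0,0], [0,1,1,0,1,0,1,1,0,1,0], [0,1,0,1,1,0,1,0,1,1,0], [1,1,0,1,0,1,1,0,1,0,1], [1,0,1,1,0,1,0,1,1,0,1], [1,0,1,0,1,1,0,1,0,1,1], [0,1,0,1,1,0,1,0,1,0,0,0], [1,1,0,1,1,0,1,0,1,0,0,0], [1,1,0,1,0,1,1,0,1,0,0,0], [0,1,0,1,1,0,1,0,1,1,0,0], [1,0,1,1,0,1,0,1,1,0,1,0], [1,0,1,0,1,1,0,1,0,1,1,0], [0,1,1,0,1,0,1,1,0,1,0,1], [0,1,0,1,1,0,1,0,1,1,0,1], [1,1,0,1,0,1,1,0,1,0,1,1]] : List (List ℕ)).map (evalN 59 [(0,58,1,0),(9,15,49,49)])) = true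 := by
  decide +kernel

open CfsgLib.MatList in
theorem chk2 : (([[], [0], [1], [0,0], [1,0], [0,1], [1,1], [0,0,0], [1,0,0], [0,1,0], [1,1,0], [1,0,1], [0,1,1], [1,0,0,0], [0,1,0,0], [1,1,0,0], [1,0,1,0], [0,1,1,0], [0,1,0,1], [1,1,0,1], [1,0,1,1], [0,1,0,0,0], [1,1,0,0,0], [1,0,1,0,0], [0,1,1,0,0], [0,1,0,1,0], [1,1,0,1,0], [1,0,1,1,0], [1,0,1,0,1], [0,1,1,0,1], [0,1,0,1,1], [1,1,0,1,1], [1,0,1,0,0,0], [0,1,1,0,0,0], [0,1,0,1,0,0], [1,1,0,1,0,0], [1,0,1,1,0,0], [1,0,1,0,1,0], [0,1,1,0,1,0], [0,1,0,1,1,0], [1,1,0,1,1,0], [1,1,0,1,0,1], [1,0,1,1,0,1], [1,0,1,0,1,1], [0,1,0,1,0,0,0], [1,1,0,1,0,0,0], [1,0,1,1,0,0,0], [1,0,1,0,1,0,0], [0,1,1,0,1,0,0], [0,1,0,1,1,0,0], [1,1,0,1,1,0,0], [1,1,0,1,0,1,0], [1,0,1,1,0,1,0], [1,0,1,0,1,1,0], [0,1,1,0,1,0,1], [0,1,0,1,1,0,1], [1,1,0,1,1,0,1], [1,1,0,1,0,1,1], [1,0,1,0,1,0,0,0],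 [0,1,1,0,1,0,0,0], [0,1,0,1,1,0,0,0], [1,1,0,1,1,0,0,0], [1,1,0,1,0,1,0,0], [1,0,1,1,0,1,0,0], [1,0,1,0,1,1,0,0], [0,1,1,0,1,0,1,0], [0,1,0,1,1,0,1,0], [1,1,0,1,1,0,1,0], [1,1,0,1,0,1,1,0], [1,0,1,1,0,1,0,1], [1,0,1,0,1,1,0,1], [0,1,1,0,1,0,1,1], [1,1,0,1,0,1,0,0,0], [1,0,1,1,0,1,0,0,0], [1,0,1,0,1,1,0,0,0], [0,1,1,0,1,0,1,0,0], [0,1,0,1,1,0,1,0,0], [1,1,0,1,1,0,1,0,0], [1,1,0,1,0,1,1,0,0], [1,0,1,1,0,1,0,1,0], [1,0,1,0,1,1,0,1,0], [0,1,1,0,1,0,1,1,0], [0,1,0,1,1,0,1,0,1], [1,1,0,1,1,0,1,0,1], [1,1,0,1,0,1,1,0,1], [1,0,1,1,0,1,0,1,1], [0,1,1,0,1,0,1,0,0,0], [0,1,0,1,1,0,1,0,0,0], [1,1,0,1,1,0,1,0,0,0], [1,1,0,1,0,1,1,0,0,0], [1,0,1,1,0,1,0,1,0,0], [1,0,1,0,1,1,0,1,0,0], [0,1,1,0,1,0,1,1,0,0], [0,1,0,1,1,0,1,0,1,0], [1,1,0,1,1,0,1,0,1,0], [1,1,0,1,0,1,1,0,1,0], [1,0,1,1,0,1,0,1,1,0], [1,0,1,0,1,1,0,1,0,1],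 [0,1,1,0,1,0,1,1,0,1], [0,1,0,1,1,0,1,0,1,1], [1,0,1,1,0,1,0,1,0,0,0], [1,0,1,0,1,1,0,1,0,0,0], [0,1,0,1,1,0,1,0,1,0,0], [1,1,0,1,1,0,1,0,1,0,0], [1,1,0,1,0,1,1,0,1,0,0], [1,0,1,1,0,1,0,1,1,0,0], [0,1,1,0,1,0,1,1,0,1,0], [0,1,0,1,1,0,1,0,1,1,0], [1,1,0,1,0,1,1,0,1,0,1], [1,0,1,1,0,1,0,1,1,0,1], [1,0,1,0,1,1,0,1,0,1,1], [0,1,0,1,1,0,1,0,1,0,0,0], [1,1,0,1,1,0,1,0,1,0,0,0], [1,1,0,1,0,1,1,0,1,0,0,0], [0,1,0,1,1,0,1,0,1,1,0,0], [1,0,1,1,0,1,0,1,1,0,1,0], [1,0,1,0,1,1,0,1,0,1,1,0], [0,1,1,0,1,0,1,1,0,1,0,1], [0,1,0,1,1,0,1,0,1,1,0,1], [1,1,0,1,0,1,1,0,1,0,1,1]] : List (List ℕ)).map (evalN 59 [(0,58,1,0),(9,15,49,49)])).all (fun x => !((x.1 ^ 29) % 59 == 1 && x.2.2.1 == 0) || x == oneq) = true := by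
  decide +kernel

theorem four_pow : (4 : ZMod 59) ^ 29 = 1 := by decide +kernel
theorem four_ne_one : (4 : ZMod 59) ≠ 1 := by decide
theorem four_ne_zero' : (4 : ZMod 59) ≠ 0 := by decide


/-- An exceptional sharply doubly transitive group of degree 59^2: the listed matrices generate a subgroup of GL(2,59) of order 3480 acting regularly on the non-zero vectors. -/
theorem result (A : Matrix.GeneralLinearGroup (Fin 2) (ZMod 59)) (B : Matrix.GeneralLinearGroup (Fin 2) (ZMod 59)) (C : Matrix.GeneralLinearGroup (Fin 2) (ZMod 59)) (hA : (A : Matrix (Fin 2) (Fin 2) (ZMod 59)) = !![0, -1; 1, 0]) (hB : (B : Matrix (Fin 2) (Fin 2) (ZMod 59)) = !![9, 15; -10, -10]) (hC : (C : Matrix (Fin 2) (Fin 2) (ZMod 59)) = !![4, 0; 0, 4]) : Nat.card (Subgroup.closure ({A, B, C} : Set (Matrix.GeneralLinearGroup (Fin 2) (ZMod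 59)))) = 3480 ∧ ∀ v w : Fin 2 → ZMod 59, v ≠ 0 → w ≠ 0 → ∃! h : Subgroup.closure ({A, B, C} : Set (Matrix.GeneralLinearGroup (Fin 2) (ZMod 59))), Matrix.mulVec ((h : Matrix.GeneralLinearGroup (Fin 2) (ZMod 59)) : Matrix (Fin 2) (Fin 2) (ZMod 59)) v = w := by
  classical
  haveI : Fact (Nat.Prime 59) := ⟨by norm_num⟩
  have hm := CfsgLib.MatList.closure_list (q := 59) [(0,58,1,0),(9,15,49,49)] (fun i => [A, B].getD i 1) (by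
    intro i
    match i with
    | 0 => change (A : Matrix (Fin 2) (Fin 2) (ZMod 59)) = _; rw [hA]; decide
    | 1 => change (B : Matrix (Fin 2) (Fin 2) (ZMod 59)) = _; rw [hB]; decide
    | (n + 2) => exact (CfsgLib.MatList.toM_one 59).symm) {A, B} (by
    intro s hs
    rcases hs with rfl | rfl
    · exact ⟨0, by decide, rfl⟩
    · exact ⟨1, by decide, rfl⟩) (by
    intro i
    match i with
    | 0 => exact Subgroup.subset_closure (by simp)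
    | 1 => exact Subgroup.subset_closure (by simp)
    | (n + 2) => exact one_mem _) [[], [0], [1], [0,0], [1,0], [0,1], [1,1], [0,0,0], [1,0,0], [0,1,0], [1,1,0], [1,0,1], [0,1,1], [1,0,0,0], [0,1,0,0], [1,1,0,0], [1,0,1,0], [0,1,1,0], [0,1,0,1], [1,1,0,1], [1,0,1,1], [0,1,0,0,0], [1,1,0,0,0], [1,0,1,0,0], [0,1,1,0,0], [0,1,0,1,0], [1,1,0,1,0], [1,0,1,1,0], [1,0,1,0,1], [0,1,1,0,1], [0,1,0,1,1], [1,1,0,1,1], [1,0,1,0,0,0], [0,1,1,0,0,0], [0,1,0,1,0,0], [1,1,0,1,0,0], [1,0,1,1,0,0], [1,0,1,0,1,0], [0,1,1,0,1,0], [0,1,0,1,1,0], [1,1,0,1,1,0], [1,1,0,1,0,1], [1,0,1,1,0,1], [1,0,1,0,1,1], [0,1,0,1,0,0,0], [1,1,0,1,0,0,0], [1,0,1,1,0,0,0], [1,0,1,0,1,0,0], [0,1,1,0,1,0,0], [0,1,0,1,1,0,0], [1,1,0,1,1,0,0], [1,1,0,1,0,1,0], [1,0,1,1,0,1,0], [1,0,1,0,1,1,0], [0,1,1,0,1,0,1], [0,1,0,1,1,0,1], [1,1,0,1,1,0,1],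 [1,1,0,1,0,1,1], [1,0,1,0,1,0,0,0], [0,1,1,0,1,0,0,0], [0,1,0,1,1,0,0,0], [1,1,0,1,1,0,0,0], [1,1,0,1,0,1,0,0], [1,0,1,1,0,1,0,0], [1,0,1,0,1,1,0,0], [0,1,1,0,1,0,1,0], [0,1,0,1,1,0,1,0], [1,1,0,1,1,0,1,0], [1,1,0,1,0,1,1,0], [1,0,1,1,0,1,0,1], [1,0,1,0,1,1,0,1], [0,1,1,0,1,0,1,1], [1,1,0,1,0,1,0,0,0], [1,0,1,1,0,1,0,0,0], [1,0,1,0,1,1,0,0,0], [0,1,1,0,1,0,1,0,0], [0,1,0,1,1,0,1,0,0], [1,1,0,1,1,0,1,0,0], [1,1,0,1,0,1,1,0,0], [1,0,1,1,0,1,0,1,0], [1,0,1,0,1,1,0,1,0], [0,1,1,0,1,0,1,1,0], [0,1,0,1,1,0,1,0,1], [1,1,0,1,1,0,1,0,1], [1,1,0,1,0,1,1,0,1], [1,0,1,1,0,1,0,1,1], [0,1,1,0,1,0,1,0,0,0], [0,1,0,1,1,0,1,0,0,0], [1,1,0,1,1,0,1,0,0,0], [1,1,0,1,0,1,1,0,0,0], [1,0,1,1,0,1,0,1,0,0], [1,0,1,0,1,1,0,1,0,0], [0,1,1,0,1,0,1,1,0,0], [0,1,0,1,1,0,1,0,1,0], [1,1,0,1,1,0,1,0,1,0], [1,1,0,1,0,1,1,0,1,0], [1,0,1,1,0,1,0,1,1,0],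 [1,0,1,0,1,1,0,1,0,1], [0,1,1,0,1,0,1,1,0,1], [0,1,0,1,1,0,1,0,1,1], [1,0,1,1,0,1,0,1,0,0,0], [1,0,1,0,1,1,0,1,0,0,0], [0,1,0,1,1,0,1,0,1,0,0], [1,1,0,1,1,0,1,0,1,0,0], [1,1,0,1,0,1,1,0,1,0,0], [1,0,1,1,0,1,0,1,1,0,0], [0,1,1,0,1,0,1,1,0,1,0], [0,1,0,1,1,0,1,0,1,1,0], [1,1,0,1,0,1,1,0,1,0,1], [1,0,1,1,0,1,0,1,1,0,1], [1,0,1,0,1,1,0,1,0,1,1], [0,1,0,1,1,0,1,0,1,0,0,0], [1,1,0,1,1,0,1,0,1,0,0,0], [1,1,0,1,0,1,1,0,1,0,0,0], [0,1,0,1,1,0,1,0,1,1,0,0], [1,0,1,1,0,1,0,1,1,0,1,0], [1,0,1,0,1,1,0,1,0,1,1,0], [0,1,1,0,1,0,1,1,0,1,0,1], [0,1,0,1,1,0,1,0,1,1,0,1], [1,1,0,1,0,1,1,0,1,0,1,1]] chk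
  set H0 := Subgroup.closure ({A, B} : Set (GL (Fin 2) (ZMod 59))) with hH0
  have hcard0 : Nat.card H0 = 120 := hm.1
  set H := Subgroup.closure ({A, B, C} : Set (GL (Fin 2) (ZMod 59))) with hH
  -- C is the scalar 4
  have hCp : ∀ n : ℕ, ((C ^ n : GL (Fin 2) (ZMod 59)) : Matrix (Fin 2) (Fin 2) (ZMod 59)) = !![4 ^ n, 0; 0, 4 ^ n] := by
    intro n
    induction n with
    | zero =>
      ext i j
      fin_cases i <;> fin_cases j <;> simp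
    | succ n ih =>
      rw [pow_succ, Units.val_mul, ih, hC]
      ext i j
      fin_cases i <;> fin_cases j <;> simp [Matrix.mul_apply, Fin.sum_univ_two, pow_succ]
  have h4 : (4 : ZMod 59) ^ 29 = 1 := four_pow
  have h4' : (4 : ZMod 59) ≠ 1 := four_ne_one
  haveI : Fact (Nat.Prime 29) := ⟨by norm_num⟩
  have hord4 : orderOf (4 : ZMod 59) = 29 := orderOf_eq_prime h4 h4'
  have hC29 : C ^ 29 = 1 := by
    apply Units.ext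
    rw [hCp, h4]
    ext i j
    fin_cases i <;> fin_cases j <;> simp
  have hC1 : C ≠ 1 := by
    intro h
    have h1 := congrFun (congrFun hC 0) 0
    rw [h] at h1
    exact h4' (by simpa using h1.symm)
  have hordC : orderOf C = 29 := orderOf_eq_prime hC29 hC1
  have hcomm : ∀ M : GL (Fin 2) (ZMod 59), Commute C M := by
    intro M
    apply Units.ext
    change (C : Matrix (Fin 2) (Fin 2) (ZMod 59)) * (M : Matrix (Fin 2) (Fin 2) (ZMod 59)) = (M : Matrix (Fin 2) (Fin 2) (ZMod 59)) * (C : Matrix (Fin 2) (Fin 2) (ZMod 59))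
    rw [hC]
    ext i j
    fin_cases i <;> fin_cases j <;> simp [Matrix.mul_apply, Fin.sum_univ_two, mul_comm]
  -- every element of H is h * C^n
  have hdec : ∀ M ∈ H, ∃ h ∈ H0, ∃ n : ℕ, M = h * C ^ n := by
    intro M hM
    rw [← Subgroup.mem_toSubmonoid, hH, Subgroup.closure_toSubmonoid_of_finite] at hM
    induction hM using Submonoid.closure_induction_left with
    | one => exact ⟨1, one_mem _, 0, by simp⟩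
    | mul_left s hs y hy ih =>
      obtain ⟨h, hh, n, rfl⟩ := ih
      rcases hs with rfl | rfl | rfl
      · exact ⟨s * h, mul_mem (Subgroup.subset_closure (by simp)) hh, n, by rw [mul_assoc]⟩
      · exact ⟨s * h, mul_mem (Subgroup.subset_closure (by simp)) hh, n, by rw [mul_assoc]⟩
      · exact ⟨h, hh, n + 1, by rw [← mul_assoc, (hcomm h).eq, mul_assoc, ← pow_succ']⟩
  have hH0H : H0 ≤ H := Subgroup.closure_mono (by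
    intro s hs
    rcases hs with rfl | rfl
    · simp
    · simp)
  have hCH : C ∈ H := Subgroup.subset_closure (by simp)
  have hcop : ∀ h ∈ H0, ∀ z ∈ Subgroup.zpowers C, h = z → h = 1 := by
    intro h hh z hz hhz
    have h1 : orderOf h ∣ 120 := by
      rw [← hcard0]
      exact Subgroup.orderOf_dvd_natCard H0 hh
    have h2 : orderOf h ∣ 29 := by
      rw [hhz, ← hordC]
      exact orderOf_dvd_of_mem_zpowers hz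
    have h3 : orderOf h ∣ 1 := by
      have := Nat.dvd_gcd h1 h2
      simpa using this
    rw [← orderOf_eq_one_iff]
    exact Nat.dvd_one.1 h3
  have hcard : Nat.card H = 3480 := by
    have h1 : Nat.card (H0 × Subgroup.zpowers C) = 3480 := by
      rw [Nat.card_prod, hcard0, Nat.card_zpowers, hordC]
    rw [← h1]
    symm
    refine Nat.card_congr (Equiv.ofBijective (fun x : H0 × Subgroup.zpowers C => (⟨(x.1 : GL (Fin 2) (ZMod 59)) * x.2, mul_mem (hH0H x.1.2) ((Subgroup.zpowers_le.2 hCH) x.2.2)⟩ : H)) ⟨?_, ?_⟩)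
    · rintro ⟨x1, x2⟩ ⟨y1, y2⟩ hxy
      have h2 : (x1 : GL (Fin 2) (ZMod 59)) * x2 = y1 * y2 := congrArg Subtype.val hxy
      have h3 : (y1 : GL (Fin 2) (ZMod 59))⁻¹ * x1 = y2 * (x2 : GL (Fin 2) (ZMod 59))⁻¹ := by
        rw [inv_mul_eq_iff_eq_mul, ← mul_assoc, ← h2, mul_inv_cancel_right]
      have h4 := hcop _ (mul_mem (inv_mem y1.2) x1.2) _ (mul_mem y2.2 (inv_mem x2.2)) h3
      have h5 : (y1 : GL (Fin 2) (ZMod 59)) = x1 := inv_mul_eq_one.1 h4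
      rw [h4] at h3
      have h6 : (y2 : GL (Fin 2) (ZMod 59)) = x2 := mul_inv_eq_one.1 h3.symm
      exact Prod.ext (Subtype.ext h5.symm) (Subtype.ext h6.symm)
    · rintro ⟨M, hM⟩
      obtain ⟨h, hh, n, rfl⟩ := hdec M hM
      exact ⟨(⟨h, hh⟩, ⟨C ^ n, Subgroup.npow_mem_zpowers C n⟩), rfl⟩
  refine ⟨hcard, CfsgLib.MatList.regular_of_card _ (by rw [hcard]; norm_num) ?_⟩
  intro M hM h0 h1
  obtain ⟨h, hh, n, rfl⟩ := hdec M hM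
  obtain ⟨x, hx, hMx⟩ := hm.2 h hh
  have hred := List.all_eq_true.1 chk2 x hx
  have hr : CfsgLib.MatList.red 59 x = true := by
    have := chk
    unfold CfsgLib.MatList.check at this
    simp only [Bool.and_eq_true, List.all_eq_true] at this
    exact this.1.1.1 x hx
  rw [Units.val_mul, hCp, hMx] at h0 h1
  simp only [CfsgLib.MatList.toM, Matrix.mul_apply, Fin.sum_univ_two, Matrix.of_apply, Matrix.cons_val', Matrix.cons_val_zero, Matrix.cons_val_one, Matrix.cons_val_fin_one, mul_zero, add_zero] at h0 h1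
  have h40 : (4 : ZMod 59) ^ n ≠ 0 := pow_ne_zero _ four_ne_zero'
  have h1' : (x.2.2.1 : ZMod 59) = 0 := (mul_eq_zero.1 h1).resolve_right h40
  have h0' : (x.1 : ZMod 59) ^ 29 = 1 := by
    have := congrArg (· ^ 29) h0
    simp only [mul_pow, one_pow] at this
    rw [← pow_mul, mul_comm n 29, pow_mul, h4, one_pow, mul_one] at this
    exact this
  have hx1 : x = CfsgLib.MatList.oneq := by
    unfold CfsgLib.MatList.red at hr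
    simp only [Bool.and_eq_true, decide_eq_true_eq] at hr
    have e0 : (x.1 ^ 29) % 59 = 1 := by
      have h2 : ((x.1 ^ 29 : ℕ) : ZMod 59) = ((1 : ℕ) : ZMod 59) := by rw [Nat.cast_pow, h0', Nat.cast_one]
      rw [ZMod.natCast_eq_natCast_iff, Nat.ModEq] at h2
      simpa using h2
    have e1 : x.2.2.1 = 0 := by
      have h2 : ((x.2.2.1 : ℕ) : ZMod 59) = ((0 : ℕ) : ZMod 59) := by rw [h1', Nat.cast_zero]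
      rw [ZMod.natCast_eq_natCast_iff, Nat.ModEq, Nat.mod_eq_of_lt, Nat.mod_eq_of_lt] at h2
      all_goals omega
    rw [e0, e1] at hred
    simpa using hred
  have hh1 : h = 1 := by
    apply Units.ext
    rw [hMx, hx1, CfsgLib.MatList.toM_one]
    rfl
  rw [hx1] at h0
  have h5 : (4 : ZMod 59) ^ n = 1 := by
    simpa [CfsgLib.MatList.oneq] using h0
  rw [hh1, one_mul, ← orderOf_dvd_iff_pow_eq_one, hordC, ← hord4, orderOf_dvd_iff_pow_eq_one]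
  exact h5

end Cfsg.Agent.S0693
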