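import Cfsg.Statements.S0994
import Cfsg.Agent.Lib.SmS3

set_option autoImplicit false
open Cfsg

set_option linter.style.haveILetI false
namespace Cfsg.Agent.S0994

/-- No finite simple group has order 1188 = 2^2 * 3^3 * 11. -/
theorem result {G : Type*} [Group G] [Finite G] [IsSimpleGroup G] : Nat.card G ≠ 1188 := by
  intro h
  have hG : ¬ IsMulCommutative G := CfsgLib.SmS.nonab (by rw [h]; norm_num)
  haveI : Fact (Nat.Prime 11) := ⟨by norm_num⟩
  obtain ⟨P⟩ : Nonempty (Sylow 11 G) := inferInstance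
  obtain ⟨h1, n, e, c, _, _, _, a1, a2, a3, a4, a5, a6, _⟩ := CfsgLib.SmS.syl_prime hG (by rw [h]; norm_num) (by rw [h]; norm_num) P
  rw [h] at a6
  have key : ∀ n ∈ Nat.divisors 1188, ∀ e ∈ Nat.divisors 10, n % 11 = 1 → n ≠ 1 → e ≠ 1 → n * e ∣ 1188 → 11 ∣ 1188 / (n * e) → False := by decide +kernel
  have hn : n * e ≠ 0 := by rintro h0; rw [← mul_assoc, h0, zero_mul] at a6; omega
  refine key n (by rw [Nat.mem_divisors]; exact ⟨⟨_, a6.symm⟩, by norm_num⟩) e (by rw [Nat.mem_divisors]; exact ⟨a3, by norm_num⟩) a1 a2 a4 ⟨c, by rw [← a6]; ring⟩ ?_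
  have : 1188 / (n * e) = c := by rw [← a6, ← mul_assoc]; exact Nat.mul_div_cancel_left _ (Nat.pos_of_ne_zero hn)
  rw [this]; exact a5

end Cfsg.Agent.S0994
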