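import Cfsg.Statements.S1249
-- import your own Cfsg.Agent.* helpers here

set_option autoImplicit false
open Cfsg

namespace Cfsg.Agent.S1249

/-- Let P and Q be Sylow p-subgroups of the finite group G both containing the subgroup A. If A is strongly closed in P, then A is strongly closed in Q. -/
theorem result {G : Type*} [Group G] [Finite G] {p : ℕ} [Fact p.Prime] (P Q : Sylow p G) (A : Subgroup G) (hAQ : A ≤ Q) (hA : Cfsg.IsStronglyClosed A (P : Subgroup G)) : Cfsg.IsStronglyClosed A (Q : Subgroup G) := by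
  obtain ⟨x, hx⟩ := MulAction.exists_smul_eq G Q P
  have hxP : ∀ y ∈ Q, x * y * x⁻¹ ∈ (P : Subgroup G) := by
    intro y hy
    rw [← hx]; exact ⟨y, hy, rfl⟩
  have hxP' : ∀ a ∈ A, x * a * x⁻¹ ∈ A := fun a ha => hA.2 a ha x (hxP a (hAQ ha))
  have hfix : A.map (MulAut.conj x).toMonoidHom = A := by
    apply Subgroup.eq_of_le_of_card_ge
    · rintro _ ⟨a, ha, rfl⟩
      exact hxP' a ha
    · exact (Nat.card_congr (A.equivMapOfInjective _ (MulAut.conj x).injective).toEquiv).le
  refine ⟨hAQ, fun a ha g hg => ?_⟩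
  have h1 := hA.2 a ha (x * g) (by
    have := hxP _ hg
    have e : x * g * a * (x * g)⁻¹ = x * (g * a * g⁻¹) * x⁻¹ := by group
    rw [e]; exact this)
  rw [← hfix] at h1
  obtain ⟨b, hb, hbe⟩ := h1
  have h2 : x * b * x⁻¹ = x * g * a * (x * g)⁻¹ := hbe
  have h3 : b = g * a * g⁻¹ := by
    have := congrArg (fun y => x⁻¹ * y * x) h2
    simpa [mul_assoc] using this
  rw [← h3]; exact hb

end Cfsg.Agent.S1249
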