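import Cfsg.Statements.S1250
-- import your own Cfsg.Agent.* helpers here

set_option autoImplicit false
open Cfsg

namespace Cfsg.Agent.S1250

/-- Let S be a Sylow p-subgroup of the finite group G, A ≤ S strongly closed in S, and N a normal subgroup. Then the image of A in G ⧸ N is strongly closed in the image of S (which is a Sylow p-subgroup of G ⧸ N). -/
theorem result {G : Type*} [Group G] [Finite G] {p : ℕ} [Fact p.Prime] (S : Sylow p G) (A : Subgroup G) (hA : Cfsg.IsStronglyClosed A (S : Subgroup G)) (N : Subgroup G) [N.Normal] : Cfsg.IsStronglyClosed (A.map (QuotientGroup.mk' N)) ((S : Subgroup G).map (QuotientGroup.mk' N)) := by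
  refine ⟨Subgroup.map_mono hA.1, ?_⟩
  rintro _ ⟨a, ha, rfl⟩ q hq
  induction q using QuotientGroup.induction_on with
  | H g =>
    obtain ⟨s, hs, hse⟩ := hq
    have h1 : (QuotientGroup.mk s : G ⧸ N) = QuotientGroup.mk (g * a * g⁻¹) := hse
    rw [QuotientGroup.eq] at h1
    -- `g a g⁻¹ ∈ S N`
    set M : Subgroup G := (S : Subgroup G) ⊔ N with hM
    have hSM : (S : Subgroup G) ≤ M := le_sup_left
    have hgM : g * a * g⁻¹ ∈ M := by
      have : g * a * g⁻¹ = s * (s⁻¹ * (g * a * g⁻¹)) := by group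
      rw [this]
      exact Subgroup.mul_mem_sup hs h1
    have hap : IsPGroup p ↥(Subgroup.zpowers (g * a * g⁻¹)) := by
      have h2 : Subgroup.zpowers (g * a * g⁻¹) = (Subgroup.zpowers a).map (MulAut.conj g).toMonoidHom := by
        rw [MonoidHom.map_zpowers]; rfl
      rw [h2]
      exact (S.isPGroup'.to_le (by rw [Subgroup.zpowers_le]; exact hA.1 ha)).map _
    obtain ⟨R, hR⟩ := (hap.comap_subtype (K := M)).exists_le_sylow
    obtain ⟨m, hm⟩ := MulAction.exists_smul_eq M R (S.subtype hSM)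
    have hmS : ∀ y (hy : y ∈ M), (⟨y, hy⟩ : M) ∈ (R : Subgroup M) → (m : G) * y * (m : G)⁻¹ ∈ (S : Subgroup G) := by
      intro y hy hyR
      have : m * ⟨y, hy⟩ * m⁻¹ ∈ ((S.subtype hSM : Sylow p M) : Subgroup M) := by
        rw [← hm]; exact ⟨_, hyR, rfl⟩
      exact this
    have hgR : (⟨g * a * g⁻¹, hgM⟩ : M) ∈ (R : Subgroup M) := hR (Subgroup.mem_zpowers (g * a * g⁻¹))
    obtain ⟨t, ht, n, hn, htn⟩ := Subgroup.mem_sup_of_normal_right.1 m.2
    have h3 : n * (g * a * g⁻¹) * n⁻¹ ∈ (S : Subgroup G) := by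
      have h4 := hmS _ hgM hgR
      rw [← htn] at h4
      have h5 := (S : Subgroup G).mul_mem ((S : Subgroup G).mul_mem ((S : Subgroup G).inv_mem ht) h4) ht
      have e : t⁻¹ * (t * n * (g * a * g⁻¹) * (t * n)⁻¹) * t = n * (g * a * g⁻¹) * n⁻¹ := by group
      rwa [e] at h5
    have h4 := hA.2 a ha (n * g) (by
      have e : n * g * a * (n * g)⁻¹ = n * (g * a * g⁻¹) * n⁻¹ := by group
      rw [e]; exact h3)
    refine ⟨_, h4, ?_⟩
    show (QuotientGroup.mk (n * g * a * (n * g)⁻¹) : G ⧸ N) = QuotientGroup.mk (g * a * g⁻¹)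
    rw [QuotientGroup.eq]
    have e : (n * g * a * (n * g)⁻¹)⁻¹ * (g * a * g⁻¹) =
        n * ((g * a * g⁻¹)⁻¹ * n⁻¹ * (g * a * g⁻¹)⁻¹⁻¹) := by group
    rw [e]
    exact N.mul_mem hn ((inferInstance : N.Normal).conj_mem _ (N.inv_mem hn) _)

end Cfsg.Agent.S1250
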