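import Cfsg.Statements.S1558
import Cfsg.Agent.Lib.GolayTrio

set_option autoImplicit false
open scoped Pointwise
open Cfsg

open scoped Pointwise
namespace Cfsg.Agent.S1558

section
open CfsgLib.Golay

def RL : ℕ → List ℕ
  | 1 => [0xf, 0x1490, 0x98100, 0x342000, 0x400a40, 0x824020]
  | 2 => [0x95, 0x140a, 0x18240, 0x206020, 0x480900, 0x960000]
  | 3 => [0x1405, 0x9a, 0x80340, 0x144020, 0x418800, 0xa22000]
  | 4 => [0x413, 0x108c, 0x10b00, 0x122020, 0x488040, 0xa44000]
  | 5 => [0x1083, 0x41c, 0x88a00, 0x260020, 0x410140, 0x906000]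
  | 6 => [0x1019, 0x486, 0x8940, 0x324000, 0x490200, 0x842020]
  | 7 => [0x489, 0x1016, 0x66000, 0x90840, 0x408300, 0xb00020]
  | _ => []

def tabO : List ℕ := [0xc12017, 0x44c087, 0x70447, 0x5a1007, 0x21007b, 0x4820ab, 0x51440b, 0xe0900b, 0xb4093, 0x159013, 0x21a483, 0x891423, 0x50803d, 0x63008d, 0xcc040d, 0x91104d, 0x390415, 0x88d015, 0xa84a5, 0xd3085, 0x2c8099, 0x838419, 0x1d0a9, 0x18b409, 0x4504b1, 0x42b091, 0x17451, 0x685481]

def T168 : ℕ := 0x2a28d7de534d5c33120b55a2201d8129ab25dda9851ca786c804e2438c4cb9a92595b6855c34112f3ce2102982a9af15d1d69964478128141a76046a0000000000000000000000000000000000000000000000000000000000000000000000000000000000000000006be344baf0b4aa7584d3520a200d840000000000000000000000000000008add59c8b6336e04850f5428438d8275a37436934caa480d660bca7131400000000000000000000000000000008c1b5348a95ba8240df60cee0231470000000000000000000000000000000000000000000000000000000000008ae45836969baea405e939aa200c8c75a357caeb4b4a330a1352284381810000000000000000000000000000000000000000000000000000000000006da547c4b04bae39b1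66522a138044719b59cae884687b312f52ca418041000000000000000000000000000000000000000000000000000000000000ac0ad5de2835241b1d2f14dca230602daee7d2534d5a2828cb2222360407000000000000000000000000000000000000000000000000000000000000722344c8b07b6e0989663daa450d812a6b2451d07dda0309731da2151d840000000000000000000000000000000000000000000000000000000000008cdb75ca8f338acb0d28242a008947000000000000000000000000000000bd8b1452504d5a39b0cb3bdc25002472e359b4a934aeab31e80428219c24000000000000000000000000000000a40b135e565d5c37850904da251d840000000000000000000000000000000000000000000000000000000000000000000000000000000000000000008bdb7438a6b4a849a970126a3604e02a2ae7de26b5244829730a5a0608e38ae4533ae89b684b1de90c2a360940921d57b6864c4ac9a9700dae3208e000000000000000000000000000000000000000000000000000000000000000000000000000000000000000000000000000000000000000000000000000000000000000000000000000000000000000000000000000000000000000000000000000000000000000000000000000000000000000000000000000000000000000000000000000000000000000000000000000000000000000000000000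000000000000000000000000000000000000000000000000074eb2845a8b50a15b1e63a6e0128838c2b29b9afb52e05a906224a11b0e22adb535e8944a22832d353dc009c83aa637b50ab9ba4c784c81c1aa20047000000000000000000000000000000000000000000000000000000000000000000000000000000000000000000000000000000000000000000000000000000000000000000000000000000000000000000000000000000000000000000000000000000000000000000000000000000000000000000000000000000000000000000000000000000000000000000000000000000000000aadd27c4b6451a19b20911ae43a803000000000000000000000000000000000000000000000000000000000000899d2454a95d2e0b067023daa60ce200000000000000000000000000000074237b51ab9d641331e8524a338804299b544a337de8cb1d3022dca00c22000000000000000000000000000000940b54ddcfb3684584c864e2200d47000000000000000000000000000000959ae9deab4968a3110f1422309c0c000000000000000000000000000000ac2924bae69c4a4585e81d9a7031420000000000000000000000000000008daad9d0a883a473316f526e4104600000000000000000000000000000008a297355b05b8a748ed353e400888c0000000000000000000000000000000000000000000000000000000000002c2e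eb4a869b6a45850f0262a1b0e2000000000000000000000000000000bbcb55b633449c180d3651a8c388806a0b135eb65c9c098a091be816114700000000000000000000000000000072e85455a97c6e39aa1601a47610220000000000000000000000000000002c2ee4b6ab9ca873010f0da2c12883000000000000000000000000000000bccb4b4a2f835c140ccb3a6a450980000000000000000000000000000000a25d7846489d4a73116f559ac104030000000000000000000000000000000000000000000000000000000000000000000000000000000000000000002a1ae7de295ca8a812d311aa338580920b47b6b635e208053322dca1b0476c0b49caa64ddcc7a96805a2220ce1a41cd9d64bb44ac7a8c81a6e1200e2000000000000000000000000000000000000000000000000000000000000000000000000000000000000000000000000000000000000000000000000000000000000000000000000000000000000000000000000000000000000000000000000000000000000000000000000000000000000000000000000000000000000000000000000000000000000000000000000000000000000000000000000000000000000000000ada574168b345a34826f241cc508e10000000000000000000000000000002a257b5693345cc4896f3c1a30808aaae54996e84c5c780ec60bda403142000000000000000000000000000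000bc1b5350a9b3a449b1eb5222710c2000000000000000000000000000000091ab7415a9b468158a6f641c438143000000000000000000000000000000000000000000000000000000000000bc285b364f33a2748973622a308144000000000000000000000000000000726f19d2a85b640810d63bca26046a699c545e53852275a92f65aa4080430000000000000000000000000000000000000000000000000000000000000000000000000000000000000000000000000000000000000000000000000000000000000000000000000000000000000000000000000000000000000000000000000000000000000000000000000000000000000000000000000000000000000000000000000000008ceb4795a84cae730e1602dca604442aeb44c5b69c9c241cd053ee119180000000000000000000000000000000000000000000000000000000000000ba6925bab67b4ac408d004e2a38464a25c55b6369dea3830c853e41110e00000000000000000000000000000000000000000000000000000000000006a29535e2b838a4485f315a4c1a8e00000000000000000000000000000000000000000000000000000000000002ceae4ca905c6e032ac80bda461c43000000000000000000000000000000a25a59ba565dea73120803e220b06aa3ee55ba464b62a8311624ea710c0100000000000000000000000000000000000000000000000000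00000000006ce955b8a67de24b02081a64c128e10000000000000000000000000000006c2f5338b3b524a4856f222201898793eb74c688995a180ec63adc4601420000000000000000000000000000008dab444aef815a759133619ca00443000000000000000000000000000000ba1b1838ab352417893365aa401c6abae914b8b09b6ac3111603e433854200000000000000000000000000000000000000000000000000000000000074db17dcb65d2ac428d002642384832c257445cbb568a7b133199a1208e0000000000000000000000000000000000000000000000000000000000000000000000000000000000000000000000000000000000000000000000000000000000000000000000000000000000000000000000000000000000000000000000000000000000000000000000000000000000000000000000000000000000000000000000000000000000000000000000000000000000000000000000000000000000000000000a4db7316a87c64a81d2b0d9c20106c722b14c9b35dcacb04cf3c28010c8a0000000000000000000000000000000000000000000000000000000000008a0ae4b646852acb066f1aeea11c80726ad44a3385e83b00cf12ca13b1440000000000000000000000000000008ccb5b51c87b6e38016939a4a60881000000000000000000000000000000921cd5dcb34d68131ecf0422c510430000000000000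00000000000000000a59b59c5c8316e7805691be4413140000000000000000000000000000000a24ae846af436ecb10d33ae4a188010000000000000000000000000000002adb24c6b6451c39a8cf3c2e013081ba6b45b9a644a229aacf3c0a11b080000000000000000000000000000000000000000000000000000000000000942f1454b34b9a4b0de60ae875004ca9af1b48ab9ba818312853da3010e200000000000000000000000000000000000000000000000000000000000000000000000000000000000000000000000000000000000000000000000000000000000000000000000000000000000000000000000000000000000000000000000000000000000000000000000000000000000000000000000000000000000000000000000000000000000000000000000000000000000000000000000000000000000000000074ee534a8b7d5a34920865a203882a93ef4b38a8355aa5893024e2300587000000000000000000000000000000000000000000000000000000000000ada517dda933a8c5a9101cca111c04a222e496565b6ea9b1e6242a700443000000000000000000000000000000b99d17ca88b55aa80d6904ca7091820000000000000000000000000000002da8e9b6a97c6ea40e0b21a42081870000000000000000000000000000006a28e596af84640988d6526ec204e3000000000000000000000000000000a20b75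c6464b5cc9a9f63c2a4188200000000000000000000000000000006ccb57d249b46ea81d68019c320582a20b2836b64c6e47b0d302dc3504e2000000000000000000000000000000000000000000000000000000000000ad9d4349a89dca7592091be2160940941cd456965dca3784d36262a11c040000000000000000000000000000000000000000000000000000000000000000000000000000000000000000000000000000000000000000000000000000000000000000000000000000000000000000000000000000000000000000000000000000000000000000000000000000000000000000000000000000000000000000000000000000000000000000000000000000000000000000000000000000000000000000002a5d5452eb34a22b060f54da760083bce2535696436415b1f03a5c020c4a00000000000000000000000000000000000000000000000000000000000089aae9b65645caa80deb62681008e4ba5b4454b09c64cb116f519c7100230000000000000000000000000000008daf4855c65b4a14891323e4c38d400000000000000000000000000000000000000000000000000000000000008a6ee9d68f3364c80d76120a70288100000000000000000000000000000073e515d2b3b16e1329281c1ac39040abeee5c689b34ac412665424700861000000000000000000000000000000a224d33aeb99621b31f0226a238c0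a0000000000000000000000000000000000000000000000000000000000002bdd55ca28852e298cc9659a750081000000000000000000000000000000941d5b16335d1a3329280beec21c40925d1996b0452ea592cf619a710061000000000000000000000000000000000000000000000000000000000000a1a4d996304baec78d76022a4128e193e97b3aa8815a79b1260ae201904a000000000000000000000000000000000000000000000000000000000000bbdaeb56485c4a4301333c28208d4ca4dd1315ab4cae1782161a2a221d4c000000000000000000000000000000000000000000000000000000000000000000000000000000000000000000000000000000000000000000000000000000000000000000000000000000000000000000000000000000000000000000000000000000000000000000000000000000000000000000000000000000000000000000000000000000ba5b23468b9d5c478ad00a0ac38c0a941d17d2e8596ac48e66059a450827aa6ee334b64468a78d7014e44600278a2b29de8f335c758a161a4ac2040a0000000000000000000000000000000000000000000000000000000000000000000000000000000000000000000000000000000000000000000000006a6f4356509c4a4b31eb0a1c238d40bdaae5c4a87b68148a663c24a1900c959cd5d2b3796e230d095422403027a4dd5449ab496ec79ed011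a2350081000000000000000000000000000000000000000000000000000000000000000000000000000000000000000000000000000000000000000000000000000000000000000000000000000000000000000000000000000000000000000000000000000000000000000000000000000000000000000000000000000000000000000000000000000000000000000000000000000000000000000000000000000000000000000000000000000000000000000000000000000000000000000000000000000000720b2b36309d6ec790c91ae800a8470000000000000000000000000000002d9d7456905b64c788c91ce270a880942ed345c84d2a4586d33bca31018a000000000000000000000000000000ad9d7416909b62048ccf12e413914c000000000000000000000000000000718b47d6364b6e158a686424450ce00000000000000000000000000000008c2ee4d2ab7c9a2b2913218a33802c000000000000000000000000000000a2ef5445c99c9a07b206158aa21c61000000000000000000000000000000922255dda9b51c47b2063ceaa00861000000000000000000000000000000000000000000000000000000000000720b7b36899d64a309f00ae271b080000000000000000000000000000000a264e7ddb6346a358913640a75048094ef55c4b0b51a3490cf0a1c753040000000000000000000000000000000a4e2e5dda6b48a3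78a090a2a053087000000000000000000000000000000ba22e5caa69d1aa481f01d8a70b082000000000000000000000000000000ba2355c9cf9d0a3808c9559a4604e000000000000000000000000000000029ab17b68b83ae09a9161264c21c230000000000000000000000000000002aeb44362f9ba41480d01dae2530870000000000000000000000000000008a2959ddb05c8a24b1e6259c101d43a2ee5b49c99c5a179cd0522a21b080926ee350b6845ac981680bea750c44a3eee848a84c6a2b326b399a301141000000000000000000000000000000000000000000000000000000000000000000000000000000000000000000000000000000000000000000000000000000000000000000000000000000000000000000000000000000000000000000000000000000000000000000000000000000000000000000000000000000000000000000000000000000000000000000000000000000000000000000000000000000000000000000000000000000000000000000000000bbe4e844ab351ac412d30a6a250ce0aa4b2336887baeab1e6b0c22260c806a4b23568883a20586763beec1106a719b1496e88568cb1e6b1be425048000000000000000000000000000000000000000000000000000000000000000000000000000000000000000000000000000000000000000000000000000000000000000000000000000000000000000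0000000000000000000000000000000000000000000000000000000000000000000000000000000000000000000000000000000000000000000000000000000000000000000000000000000000000000000000000000000000000000000000000000000000000000000000000000000000000000000000000000000000000000000000a2645b56f033622792681adca0818769aae5ca284d2e09a9f00d8a4188ec94eb1835d67d2e03292b120ac184e4a41a59d6f6449c33292b0be2c008e40000000000000000000000000000000000000000000000000000000000000000000000000000000000000000000000000000000000000000000000006daa54caef5d22282913199c4080ec8a2f57ba9699640591260c1aa18987a41b19d5c644ae0b316913caa18487ace51851c67b6e2b1d69020a408d4c0000000000000000000000000000000000000000000000000000000000006aeb74d1c8b48a79820f51a23610226beae9d2f684a225a8c90a0a71808c000000000000000000000000000000000000000000000000000000000000aa6855ca30b35c09b10f11aea08ce46be579d1d645627480cb240a26282300000000000000000000000000000000000000000000000000000000000093e979d5cb834a0b29261a2270888cbc23543a467968a486cb3cda2230030000000000000000000000000000000000000000000000000000000000006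c245452269d5ca582c963ee221c237423245eb6996814a8cb1bdac00887000000000000000000000000000000000000000000000000000000000000a9a514b6efb51c09aa081aca7105848ccad45eab7ba4149ec61428a1808cbccb5445b683a474856663e80228628a5d535dafb1642432131ae87005440000000000000000000000000000000000000000000000000000000000000000000000000000000000000000000000000000000000000000000000006be85855cb9caec486c62222251c606ce8e454a67ca2ab052b3c2e2610602daed5baaf4c6824121319a4a004ec74e2d416a985e8ab04cb23e4061c62000000000000000000000000000000000000000000000000000000000000000000000000000000000000000000000000000000000000000000000000000000000000000000000000000000000000000000000000000000000000000000000000000000000000000000000000000000000000000000000000000000000000000000000000000000000000000000000000000000000000000000000000000000000000000000000000000000000000000000000000000000000000000000000000000000000000000000000000000000000000000000000000000000000000000000000000000000000000000000000000000000000000000000000000000000000000000000000000000000000000000000000000000000000000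00000000000000000000000000000000000000000000000000000000000000000000000000000000000000000000000000000000000000000000000000000000000000000000000000000000000000000000000000000000000000000000000000000000000000000000000000000000000000000000000000000000000000000000000000000000000000000000000000000000000000000000000000000000000000000000000000000000000000000000000000000000000000000000000000000000000000000000000000000000000000000000000000000000000000000000000000000000000000000000000000000000000000000000000000000000000000000000000000000000000000000000000000000000000000000000000000000000000000000000000000000000000000000000000000000000000000000000000000000000000000000000000000000000000000000000000000000000000000000000000000000000000000000000000000000000000000000000000000000000000000000000000000000000000000000000000000000000000000000000000000000000000000000000000000000000000000000000000000000000000000000000000000000000000000000000000000000000000000000000000000000000000000000000000000000000000000000000000000000000000000000000000000000000000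0000000000000000000000000000000000000000000000000000000000000000000000000000000000000000000000000000000000000000000000000000000000000000000000000000000000000000000000000000000000000000000000000000000000000000000000000000000000000000000000000000000000000000000000000000000000000000000000000000000000000000000000000000000000000000000000000000000000000000000000000000000000000000000000000000000000000000000000000000000000000000000000000000000000000000000000000000000000000000000000000000000000000000000000000000000000000000000000000000000000000000000000000000000000000000000000000000000000000000000000000000000000000000000000000000000000000000000000000000000000000000000000000000000000000000000000000000000000000000000000000000000000000000000000000000000000000000000000000000000000000000000000000000000000000000000000000000000000000000000000000000000000000000000000000000000000000000000000000000000000000000000000000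

def K64 : List ℕ := [0x29a957b5c89c64a4b17025ae708062, 0x2a2955b5c64c642981f61c2e13b08a, 0x2a695835d34464c32acf3aee418820, 0x2ae95435cf84647b10d3626ea10c01, 0x2be95335cbb464180d0904ee251187, 0x2c2954b5d65c64378666122e061d44, 0x2ce95b35c93464040a0b0bee3228ec, 0x2da959b5d07c64459d2851aec00443, 0x69a2e796a89d2e148d7005a4251187, 0x6a22e596a64d2e7991f66424a10c01, 0x6a62e816b3452e3306cf12e4061d44, 0x6ae2e416af852e2b00d31a6413b08a, 0x6be2e316abb52ea8310924e4708062, 0x6c22e496b65d2ec7aa663a24418820, 0x6ce2eb16a9352e441e0b53e4c00443, 0x6da2e996b07d2e05892809a43228ec, 0x71a4d7d4a89de8c4a9703da2418820, 0x7224d5d4a64de80989f60c223228ec, 0x7264d854b345e8a332cf22e2708062, 0x72e4d454af85e84b1cd35262c00443, 0x73e4d354abb5e838050914e2061d44, 0x7424d4d4b65de8178e660222251187, 0x74e4db54a935e824020b1be213b08a, 0x75a4d9d4b07de875912861a2a10c01, 0x899b27d2e8996a449d70559cc00443, 0x8a1b25d2e6496a3985f6141c061d44, 0x8a5b2852f3416a7312cf62dca10c01, 0x8adb2452ef816acb28d33a5c418820, 0x8bdb2352ebb16a0809090cdc3228ec, 0x8c1b24d2f6596a2782661a1c13b08a, 0x8cdb2b52e9316a140e0b03dc251187,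 0x8d9b29d2f0796aa5b128219c708062, 0x919d17de889d4a2481701d9a13b08a, 0x921d15de864d4aa9b1f6241a708062, 0x925d185e93454a030acf0ada3228ec, 0x92dd145e8f854a1b0cd3025a251187, 0x93dd135e8bb54a78110964daa10c01, 0x941d14de965d4a479e66521ac00443, 0x94dd1b5e89354ac42a0b3bda418820, 0x959d19de907d4a358528119a061d44, 0xa18b77c6489b5c0489700daa3228ec, 0xa20b75c6464b5cc9a9f63c2a418820, 0xa24b784653435c2302cf1aea13b08a, 0xa2cb74464f835c3b04d3126a061d44, 0xa3cb73464bb35c481d0954eac00443, 0xa40b74c6565b5c779266622aa10c01, 0xa4cb7b4649335ca4320b23ea708062, 0xa58b79c6507b5c158d2801aa251187, 0xa9ae57b9a89ca234857015a8061d44, 0xaa2e55b9a64ca2499df65428c00443, 0xaa6e5839b344a2130ecf02e8251187, 0xaaee5439af84a20b08d30a683228ec, 0xabee5339abb4a2c829093ce8418820, 0xac2e54b9b65ca2a7b2662228708062, 0xacee5b39a934a274120b63e8a10c01, 0xadae59b9b07ca225812819a813b08a, 0xb9ab47ca289b9a749170658aa10c01, 0xba2b45ca264b9a198df6040a251187, 0xba6b484a33439a431ecf52cac00443, 0xbaeb444a2f839aab30d3224a708062, 0xbbeb434a2bb39a2801091cca13b08a, 0xbc2b44ca365b9a078a660a0a3228ec,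 0xbceb4b4a29339a34060b13ca061d44, 0xbdab49ca307b9ac5a928398a418820]

def mA : ℕ := 0x149f
def mB : ℕ := 0x498b40
def mC : ℕ := 0xb66020

def l7 : List ℕ := [1, 2, 3, 4, 5, 6, 7]
def LA : List ℕ := [1, 2, 3, 4, 7, 10, 12]

theorem RL_chk : ∀ v ∈ l7, chkSext (RL v) = true ∧ (RL v).Nodup ∧ (∀ m ∈ RL v, m < 2 ^ 24) ∧ (RL v).length = 6 := by decide +kernel

/-- tetrads refine the trio -/
theorem RL_ref : ∀ v ∈ l7, ∀ m ∈ RL v, m &&& mA = m ∨ m &&& mB = m ∨ m &&& mC = m := by decide +kernel

theorem RL_add : ∀ v ∈ l7, ∀ w ∈ l7, v ≠ w → v ^^^ w ∈ l7 ∧ (∀ a ∈ RL v, ∀ b ∈ RL w, pop (a &&& b) = 2 → a ^^^ b ∈ RL (v ^^^ w)) ∧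
    ∃ a ∈ RL v, ∃ b ∈ RL w, pop (a &&& b) = 2 := by decide +kernel

theorem RL_disj : ∀ v ∈ l7, ∀ w ∈ l7, v ≠ w → ∀ a ∈ RL v, a ∉ RL w := by decide +kernel

def hd7 : ℕ → ℕ
  | 1 => 0xf | 2 => 0x95 | 3 => 0x1405 | 4 => 0x413 | 5 => 0x1083 | 6 => 0x1019 | 7 => 0x489 | _ => 0

theorem hd7_mem : ∀ v ∈ l7, hd7 v ∈ RL v := by decide +kernel

theorem t_chk : ∀ x ∈ LA, ∀ y ∈ LA, ∀ z ∈ LA, x ≠ y → x ≠ z → y ≠ z →
    (∃ v ∈ l7, hd7 v = 1 ||| 2 ^ x ||| 2 ^ y ||| 2 ^ z) ∨
    ∃ o ∈ tabO, isCode o = true ∧ pop o = 8 ∧ o &&& (1 ||| 2 ^ x ||| 2 ^ y ||| 2 ^ z) = (1 ||| 2 ^ x ||| 2 ^ y ||| 2 ^ z) ∧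
      (o ^^^ (1 ||| 2 ^ x ||| 2 ^ y ||| 2 ^ z)) &&& mA ≠ (o ^^^ (1 ||| 2 ^ x ||| 2 ^ y ||| 2 ^ z)) ∧
      (o ^^^ (1 ||| 2 ^ x ||| 2 ^ y ||| 2 ^ z)) &&& mB ≠ (o ^^^ (1 ||| 2 ^ x ||| 2 ^ y ||| 2 ^ z)) ∧
      (o ^^^ (1 ||| 2 ^ x ||| 2 ^ y ||| 2 ^ z)) &&& mC ≠ (o ^^^ (1 ||| 2 ^ x ||| 2 ^ y ||| 2 ^ z)) := by decide +kernel

theorem tabO_lt : ∀ o ∈ tabO, o < 2 ^ 24 := by decide +kernel

theorem toFS_two_pow : ∀ x < 24, toFS (2 ^ x) = {pt x} := by decide +kernel

/-- the seven sextets -/
def R (v : ℕ) : Finset (Finset Cfsg.GolayPt) := ((RL v).map toFS).toFinset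

theorem mem_R {v : ℕ} {s : Finset Cfsg.GolayPt} : s ∈ R v ↔ ∃ m ∈ RL v, toFS m = s := by
  rw [R, List.mem_toFinset, List.mem_map]

theorem R_mem {v : ℕ} (hv : v ∈ l7) : R v ∈ Cfsg.sextets := chkSext_spec (RL_chk v hv).1 (RL_chk v hv).2.1

theorem R_inj {v w : ℕ} (hv : v ∈ l7) (hw : w ∈ l7) (h : R v = R w) : v = w := by
  by_contra hne
  have h1 : toFS (hd7 v) ∈ R w := by rw [← h]; exact mem_R.mpr ⟨_, hd7_mem v hv, rfl⟩
  obtain ⟨m, hm, he⟩ := mem_R.mp h1
  have := toFS_inj ((RL_chk w hw).2.2.1 m hm) ((RL_chk v hv).2.2.1 _ (hd7_mem v hv)) he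
  exact RL_disj v hv w hw hne _ (hd7_mem v hv) (this ▸ hm)

theorem T0_iff {s : Finset Cfsg.GolayPt} : s ∈ T0 ↔ s = toFS mA ∨ s = toFS mB ∨ s = toFS mC := by
  simp only [T0, trio3, Finset.mem_insert, Finset.mem_singleton]; rfl

def Refines (S : Finset (Finset Cfsg.GolayPt)) : Prop := ∀ t ∈ S, ∃ o ∈ T0, t ⊆ o

theorem refines_R {v : ℕ} (hv : v ∈ l7) : Refines (R v) := by
  intro t ht
  obtain ⟨m, hm, rfl⟩ := mem_R.mp ht
  have key : ∀ {a : ℕ}, m &&& a = m → toFS m ⊆ toFS a := by
    intro a h
    rw [← Finset.inter_eq_left, ← toFS_land, h]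
  rcases RL_ref v hv m hm with h | h | h
  · exact ⟨_, T0_iff.mpr (Or.inl rfl), key h⟩
  · exact ⟨_, T0_iff.mpr (Or.inr (Or.inl rfl)), key h⟩
  · exact ⟨_, T0_iff.mpr (Or.inr (Or.inr rfl)), key h⟩

theorem refines_smul {g : Equiv.Perm Cfsg.GolayPt} (hg : g • T0 = T0) {S : Finset (Finset Cfsg.GolayPt)} (hS : Refines S) : Refines (g • S) := by
  intro t ht
  have h1 : g⁻¹ • t ∈ S := by rw [← mem_smul_fam (g := g), smul_inv_smul]; exact ht
  obtain ⟨o, ho, hto⟩ := hS _ h1
  refine ⟨g • o, ?_, ?_⟩
  · rw [← hg]; exact mem_smul_fam.mpr ho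
  · rw [← smul_inv_smul g t]; exact Finset.smul_finset_subset_smul_finset_iff.mpr hto

theorem eq_R_of_refines {S : Finset (Finset Cfsg.GolayPt)} (hS : S ∈ Cfsg.sextets) (h : Refines S) : ∃ v ∈ l7, S = R v := by
  obtain ⟨t, ht, h0⟩ := sextet_covers hS (pt 0)
  have htc : t.card = 4 := hS.2.1 t ht
  have htA : t ⊆ toFS mA := by
    obtain ⟨o, ho, hto⟩ := h t ht
    rcases T0_iff.mp ho with rfl | rfl | rfl
    · exact hto
    · exfalso
      have := hto h0
      revert this; decide +kernel
    · exfalso
      have := hto h0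
      revert this; decide +kernel
  have hc3 : (t.erase (pt 0)).card = 3 := by rw [Finset.card_erase_of_mem h0, htc]
  obtain ⟨x, y, z, hxy, hxz, hyz, he⟩ := Finset.card_eq_three.mp hc3
  have mem : ∀ w ∈ ({x, y, z} : Finset Cfsg.GolayPt), idx w ∈ LA := by
    intro w hw
    rw [← he, Finset.mem_erase] at hw
    have h1 := htA hw.2
    have h2 : ∀ i < 24, pt i ∈ toFS mA → pt i ≠ pt 0 → i ∈ LA := by decide +kernel
    exact h2 _ (idx_lt w) (by rw [pt_idx]; exact h1) (by rw [pt_idx]; exact hw.1)
  have hx := mem x (by simp)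
  have hy := mem y (by simp)
  have hz := mem z (by simp)
  have teq : t = toFS (1 ||| 2 ^ idx x ||| 2 ^ idx y ||| 2 ^ idx z) := by
    rw [toFS_lor, toFS_lor, toFS_lor, toFS_two_pow _ (idx_lt x), toFS_two_pow _ (idx_lt y), toFS_two_pow _ (idx_lt z), pt_idx, pt_idx, pt_idx]
    have e1 : toFS 1 = {pt 0} := toFS_two_pow 0 (by norm_num)
    rw [e1, ← Finset.insert_erase h0, he]
    ext w; simp only [Finset.mem_insert, Finset.mem_singleton, Finset.mem_union]; tauto
  rcases t_chk _ hx _ hy _ hz (fun h => hxy (idx_injective h)) (fun h => hxz (idx_injective h)) (fun h => hyz (idx_injective h)) with h1 | h1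
  · obtain ⟨v, hv, hve⟩ := h1
    refine ⟨v, hv, ?_⟩
    rw [← hve] at teq
    rw [sextet_eq_sext hS ht, sextet_eq_sext (R_mem hv) (mem_R.mpr ⟨_, hd7_mem v hv, rfl⟩), teq]
  · exfalso
    obtain ⟨o, ho, h1, h2, h3, h4, h5, h6⟩ := h1
    set m := 1 ||| 2 ^ idx x ||| 2 ^ idx y ||| 2 ^ idx z with hm
    have holt := tabO_lt o ho
    have hmlt : m < 2 ^ 24 := by rw [← h3]; exact lt_of_le_of_lt Nat.and_le_left holt
    have hoct : toFS o ∈ Cfsg.octads := by
      rw [mem_octads_iff, mask_toFS holt]; exact ⟨h1, h2⟩
    have hsub : t ⊆ toFS o := by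
      rw [teq, ← Finset.inter_eq_right, ← toFS_land, h3]
    have hsd : toFS o \ t = toFS (o ^^^ m) := by
      rw [toFS_xor, ← teq]
      ext w
      rw [Finset.mem_sdiff, Finset.mem_symmDiff]
      constructor
      · intro h; exact Or.inl h
      · rintro (h | h)
        · exact h
        · exact absurd (hsub h.1) h.2
    have hmem : toFS o \ t ∈ S := by
      rw [sextet_eq_sext hS ht, mem_sext]
      exact Or.inr ⟨_, hoct, hsub, rfl⟩
    obtain ⟨q, hq, hsq⟩ := h _ hmem
    have hxlt : o ^^^ m < 2 ^ 24 := Nat.xor_lt_two_pow holt hmlt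
    have key : ∀ {a : ℕ}, toFS (o ^^^ m) ⊆ toFS a → (o ^^^ m) &&& a = o ^^^ m := by
      intro a h
      rw [← Finset.inter_eq_left, ← toFS_land] at h
      exact toFS_inj (lt_of_le_of_lt Nat.and_le_left hxlt) hxlt h
    rw [hsd] at hsq
    rcases T0_iff.mp hq with rfl | rfl | rfl
    · exact h4 (key hsq)
    · exact h5 (key hsq)
    · exact h6 (key hsq)

/-- the base group -/
def G0 : Subgroup (Equiv.Perm Cfsg.GolayPt) := Cfsg.M24 ⊓ MulAction.stabilizer (Equiv.Perm Cfsg.GolayPt) T0

theorem exists_lab (g : G0) {v : ℕ} (hv : v ∈ l7) : ∃ w, w ∈ l7 ∧ (g : Equiv.Perm Cfsg.GolayPt) • R v = R w := by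
  obtain ⟨w, hw, h⟩ := eq_R_of_refines (smul_mem_sextets g.2.1 (R_mem hv)) (refines_smul g.2.2 (refines_R hv))
  exact ⟨w, hw, h⟩

open Classical in
noncomputable def lab (g : G0) (v : ℕ) : ℕ := if h : ∃ w, w ∈ l7 ∧ (g : Equiv.Perm Cfsg.GolayPt) • R v = R w then h.choose else 0

theorem lab_spec (g : G0) {v : ℕ} (hv : v ∈ l7) : lab g v ∈ l7 ∧ (g : Equiv.Perm Cfsg.GolayPt) • R v = R (lab g v) := by
  have h := exists_lab g hv
  rw [lab, dif_pos h]
  exact h.choose_spec

theorem lab_eq (g : G0) {v w : ℕ} (hv : v ∈ l7) (hw : w ∈ l7) (h : (g : Equiv.Perm Cfsg.GolayPt) • R v = R w) : lab g v = w := by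
  obtain ⟨h1, h2⟩ := lab_spec g hv
  exact R_inj h1 hw (h2.symm.trans h)

theorem lab_mul (g h : G0) {v : ℕ} (hv : v ∈ l7) : lab (g * h) v = lab g (lab h v) := by
  obtain ⟨h1, h2⟩ := lab_spec h hv
  obtain ⟨h3, h4⟩ := lab_spec g h1
  apply lab_eq _ hv h3
  show ((g : Equiv.Perm Cfsg.GolayPt) * (h : Equiv.Perm Cfsg.GolayPt)) • R v = _
  rw [mul_smul, h2, h4]

theorem lab_xor (g : G0) {v w : ℕ} (hv : v ∈ l7) (hw : w ∈ l7) (hne : v ≠ w) : lab g (v ^^^ w) = lab g v ^^^ lab g w := by
  obtain ⟨hv1, hv2⟩ := lab_spec g hv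
  obtain ⟨hw1, hw2⟩ := lab_spec g hw
  have hne' : lab g v ≠ lab g w := by
    intro h
    rw [h, ← hw2] at hv2
    exact hne (R_inj hv hw (smul_left_cancel _ hv2))
  obtain ⟨hx, hall, a, ha, b, hb, hab⟩ := RL_add v hv w hw hne
  obtain ⟨hx', hall', -⟩ := RL_add _ hv1 _ hw1 hne'
  have halt := (RL_chk v hv).2.2.1 a ha
  have hblt := (RL_chk w hw).2.2.1 b hb
  apply lab_eq g hx hx'
  have m1 : (g : Equiv.Perm Cfsg.GolayPt) • toFS a ∈ R (lab g v) := by
    rw [← hv2]; exact mem_smul_fam.mpr (mem_R.mpr ⟨a, ha, rfl⟩)
  have m2 : (g : Equiv.Perm Cfsg.GolayPt) • toFS b ∈ R (lab g w) := by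
    rw [← hw2]; exact mem_smul_fam.mpr (mem_R.mpr ⟨b, hb, rfl⟩)
  obtain ⟨a', ha', hae⟩ := mem_R.mp m1
  obtain ⟨b', hb', hbe⟩ := mem_R.mp m2
  have halt' := (RL_chk _ hv1).2.2.1 a' ha'
  have hblt' := (RL_chk _ hw1).2.2.1 b' hb'
  have hpop : pop (a' &&& b') = 2 := by
    rw [← card_toFS (lt_of_le_of_lt Nat.and_le_left halt'), toFS_land, hae, hbe, ← smul_inter', card_smul', ← toFS_land,
      card_toFS (lt_of_le_of_lt Nat.and_le_left halt), hab]
  have h1 : (g : Equiv.Perm Cfsg.GolayPt) • toFS (a ^^^ b) ∈ R (lab g v ^^^ lab g w) := by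
    rw [toFS_xor, smul_symmDiff', ← hae, ← hbe, ← toFS_xor]
    exact mem_R.mpr ⟨_, hall' a' ha' b' hb' hpop, rfl⟩
  have h2 : (g : Equiv.Perm Cfsg.GolayPt) • toFS (a ^^^ b) ∈ (g : Equiv.Perm Cfsg.GolayPt) • R (v ^^^ w) :=
    mem_smul_fam.mpr (mem_R.mpr ⟨_, hall a ha b hb hab, rfl⟩)
  rw [sextet_eq_sext (smul_mem_sextets g.2.1 (R_mem hx)) h2, sextet_eq_sext (R_mem hx') h1]

/-- bits as a vector -/
def vec (n : ℕ) : Fin 3 → ZMod 2 := fun i => if n.testBit i then 1 else 0

theorem vec_xor (a b : ℕ) : vec (a ^^^ b) = vec a + vec b := by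
  ext i
  simp only [vec, Nat.testBit_xor, Pi.add_apply]
  cases a.testBit i <;> cases b.testBit i <;> decide

theorem vec_inj : ∀ a ∈ l7, ∀ b ∈ l7, vec a = vec b → a = b := by decide +kernel

/-- matrix -/
noncomputable def mt (g : G0) : Matrix (Fin 3) (Fin 3) (ZMod 2) := fun i j => vec (lab g (2 ^ (j : ℕ))) i

theorem mt_mulVec (g : G0) {v : ℕ} (hv : v ∈ l7) : (mt g).mulVec (vec v) = vec (lab g v) := by
  have h3 : lab g 3 = lab g 1 ^^^ lab g 2 := lab_xor g (v := 1) (w := 2) (by decide) (by decide) (by decide)
  have h5 : lab g 5 = lab g 1 ^^^ lab g 4 := lab_xor g (v := 1) (w := 4) (by decide) (by decide) (by decide)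
  have h6 : lab g 6 = lab g 2 ^^^ lab g 4 := lab_xor g (v := 2) (w := 4) (by decide) (by decide) (by decide)
  have h7 : lab g 7 = lab g 3 ^^^ lab g 4 := lab_xor g (v := 3) (w := 4) (by decide) (by decide) (by decide)
  have v1 : vec 1 = ![1, 0, 0] := by decide
  have v2 : vec 2 = ![0, 1, 0] := by decide
  have v3 : vec 3 = ![1, 1, 0] := by decide
  have v4 : vec 4 = ![0, 0, 1] := by decide
  have v5 : vec 5 = ![1, 0, 1] := by decide
  have v6 : vec 6 = ![0, 1, 1] := by decide
  have v7 : vec 7 = ![1, 1, 1] := by decide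
  simp only [l7, List.mem_cons, List.not_mem_nil, or_false] at hv
  rcases hv with rfl | rfl | rfl | rfl | rfl | rfl | rfl
  · ext i; rw [v1]; simp [Matrix.mulVec, dotProduct, Fin.sum_univ_three, mt]
  · ext i; rw [v2]; simp [Matrix.mulVec, dotProduct, Fin.sum_univ_three, mt]
  · ext i; rw [v3, h3, vec_xor]; simp [Matrix.mulVec, dotProduct, Fin.sum_univ_three, mt]
  · ext i; rw [v4]; simp [Matrix.mulVec, dotProduct, Fin.sum_univ_three, mt]
  · ext i; rw [v5, h5, vec_xor]; simp [Matrix.mulVec, dotProduct, Fin.sum_univ_three, mt]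
  · ext i; rw [v6, h6, vec_xor]; simp [Matrix.mulVec, dotProduct, Fin.sum_univ_three, mt]
  · ext i; rw [v7, h7, h3, vec_xor, vec_xor]; simp [Matrix.mulVec, dotProduct, Fin.sum_univ_three, mt]

theorem two_pow_mem (j : Fin 3) : 2 ^ (j : ℕ) ∈ l7 := by revert j; decide

theorem vec_one (i j : Fin 3) : vec (2 ^ (j : ℕ)) i = (1 : Matrix (Fin 3) (Fin 3) (ZMod 2)) i j := by
  fin_cases i <;> fin_cases j <;> rfl

noncomputable def mtHom : G0 →* Matrix (Fin 3) (Fin 3) (ZMod 2) where
  toFun := mt
  map_one' := by
    have : ∀ v ∈ l7, lab 1 v = v := fun v hv => lab_eq 1 hv hv (one_smul _ _)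
    ext i j
    show vec (lab 1 (2 ^ (j : ℕ))) i = _
    rw [this _ (two_pow_mem j)]
    exact vec_one i j
  map_mul' g h := by
    ext i j
    show vec (lab (g * h) (2 ^ (j : ℕ))) i = _
    rw [lab_mul g h (two_pow_mem j), ← mt_mulVec g (lab_spec h (two_pow_mem j)).1]
    rfl

/-! surjectivity -/

def lk (c : ℕ) : ℕ := Nat.land (Nat.shiftRight T168 (Nat.mul 120 c)) 0xffffffffffffffffffffffffffffff

def det3 (c : ℕ) : Bool :=
  let b := fun i => (c.testBit i)
  -- entry (i, j) is bit i + 3 j
  xor (xor (b 0 && b 4 && b 8) (b 3 && b 7 && b 2)) (xor (b 6 && b 1 && b 5) (xor (b 6 && b 4 && b 2) (xor (b 3 && b 1 && b 8) (b 0 && b 7 && b 5))))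

def chk168 (c : ℕ) : Bool := or (not (det3 c)) (and (good (lk c)) (and (and (Nat.beq (act (lk c) mA) mA) (and (Nat.beq (act (lk c) mB) mB) (Nat.beq (act (lk c) mC) mC)))
  (and ((RL (c &&& 7)).any fun m => Nat.beq m (act (lk c) (hd7 1))) (and ((RL ((c >>> 3) &&& 7)).any fun m => Nat.beq m (act (lk c) (hd7 2)))
    ((RL ((c >>> 6) &&& 7)).any fun m => Nat.beq m (act (lk c) (hd7 4)))))))

theorem c168 : allLt 512 chk168 = true := by decide +kernel

theorem det3_code : ∀ x : Fin 8, ∀ y : Fin 8, ∀ z : Fin 8, (det3 (x + 8 * y + 64 * z) = true ↔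
    (Matrix.of fun (i j : Fin 3) => vec (if j = 0 then (x : ℕ) else if j = 1 then (y : ℕ) else (z : ℕ)) i).det ≠ 0) ∧
    (det3 (x + 8 * y + 64 * z) = true → (x : ℕ) ∈ l7 ∧ (y : ℕ) ∈ l7 ∧ (z : ℕ) ∈ l7) ∧
    ((x + 8 * y + 64 * z : ℕ) &&& 7 = x) ∧ (((x + 8 * y + 64 * z : ℕ) >>> 3) &&& 7 = y) ∧ (((x + 8 * y + 64 * z : ℕ) >>> 6) &&& 7 = z) := by
  simp only [Matrix.det_fin_three, Matrix.of_apply]
  decide +kernel

theorem col_code : ∀ f : Fin 3 → ZMod 2, ∃ x : Fin 8, vec x = f := by decide +kernel

theorem exists_mt (M : Matrix (Fin 3) (Fin 3) (ZMod 2)) (hM : M.det ≠ 0) : ∃ g : G0, mtHom g = M ∧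
    ∀ o ∈ T0, (g : Equiv.Perm Cfsg.GolayPt) • o = o := by
  obtain ⟨x, hx⟩ := col_code (fun i => M i 0)
  obtain ⟨y, hy⟩ := col_code (fun i => M i 1)
  obtain ⟨z, hz⟩ := col_code (fun i => M i 2)
  have hMe : M = Matrix.of fun (i j : Fin 3) => vec (if j = 0 then (x : ℕ) else if j = 1 then (y : ℕ) else (z : ℕ)) i := by
    ext i j
    rw [Matrix.of_apply]
    fin_cases j
    · exact (congrFun hx i).symm
    · exact (congrFun hy i).symm
    · exact (congrFun hz i).symm
  obtain ⟨d1, d2, d3, d4, d5⟩ := det3_code x y z
  rw [← hMe] at d1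
  have hd := d1.mpr hM
  obtain ⟨lx, ly, lz⟩ := d2 hd
  have hc := allLt_spec c168 (x + 8 * y + 64 * z) (by omega)
  simp only [chk168, hd, Bool.not_true, Bool.false_or, Bool.and_eq_true, d3, d4, d5] at hc
  obtain ⟨h1, ⟨hA, hB, hC⟩, r1, r2, r4⟩ := hc
  obtain ⟨g, hg, hP⟩ := exists_of_good h1
  have fx : ∀ {m : ℕ}, m < 2 ^ 24 → Nat.beq (act (lk (x + 8 * y + 64 * z)) m) m = true → g • toFS m = toFS m := by
    intro m hm h
    rw [← toFS_mask (g • toFS m), hP.mask_smul, mask_toFS hm, Nat.eq_of_beq_eq_true h]
  have gA := fx (m := mA) (by norm_num [mA]) hA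
  have gB := fx (m := mB) (by norm_num [mB]) hB
  have gC := fx (m := mC) (by norm_num [mC]) hC
  have hfix : ∀ o ∈ T0, g • o = o := by
    intro o ho
    rcases T0_iff.mp ho with rfl | rfl | rfl <;> assumption
  have hT : g • T0 = T0 := by
    apply Finset.eq_of_subset_of_card_le
    · intro t ht
      have h3 : g⁻¹ • t ∈ T0 := by
        have e := mem_smul_fam (g := g) (S := T0) (t := g⁻¹ • t)
        rw [smul_inv_smul] at e
        exact e.mp ht
      have h2 := hfix _ h3
      rw [smul_inv_smul] at h2
      rw [h2]; exact h3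
    · rw [Finset.card_smul_finset]
  have lb : ∀ {v w : ℕ}, v ∈ l7 → w ∈ l7 → ((RL w).any fun m => Nat.beq m (act (lk (x + 8 * y + 64 * z)) (hd7 v))) = true → lab ⟨g, hg, hT⟩ v = w := by
    intro v w hv hw h
    apply lab_eq _ hv hw
    rw [List.any_eq_true] at h
    obtain ⟨m, hm, he⟩ := h
    have h4 : g • toFS (hd7 v) = toFS m := by
      rw [← toFS_mask (g • toFS (hd7 v)), hP.mask_smul, mask_toFS ((RL_chk v hv).2.2.1 _ (hd7_mem v hv)), ← Nat.eq_of_beq_eq_true he]
    have h5 : toFS m ∈ g • R v := by
      rw [← h4]; exact mem_smul_fam.mpr (mem_R.mpr ⟨_, hd7_mem v hv, rfl⟩)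
    have h6 : toFS m ∈ R w := mem_R.mpr ⟨m, hm, rfl⟩
    show g • R v = R w
    rw [sextet_eq_sext (smul_mem_sextets hg (R_mem hv)) h5, sextet_eq_sext (R_mem hw) h6]
  refine ⟨⟨g, hg, hT⟩, ?_, hfix⟩
  show mt ⟨g, hg, hT⟩ = M
  rw [hMe]
  ext i j
  show vec (lab ⟨g, hg, hT⟩ (2 ^ (j : ℕ))) i = _
  rw [Matrix.of_apply]
  fin_cases j
  · show vec (lab ⟨g, hg, hT⟩ 1) i = vec x i
    rw [lb (v := 1) (by decide) lx r1]
  · show vec (lab ⟨g, hg, hT⟩ 2) i = vec y i
    rw [lb (v := 2) (by decide) ly r2]
  · show vec (lab ⟨g, hg, hT⟩ 4) i = vec z i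
    rw [lb (v := 4) (by decide) lz r4]

/-! permutations of the octads -/

theorem norm3 {l : List (Finset Cfsg.GolayPt)} (hl : l.Nodup) (h3 : l.length = 3) {T : Finset (Finset Cfsg.GolayPt)} (hT : T ∈ Cfsg.trios)
    (hlT : ∀ t, t ∈ l ↔ t ∈ T) : ∃ g ∈ Cfsg.M24, g • T = T0 ∧ l.map (fun t => g • t) = [toFS mA, toFS mC, toFS mB] := by
  match l, h3 with
  | [a, b, c], _ =>
    have ma : a ∈ T := (hlT _).mp (by simp)
    have mb : b ∈ T := (hlT _).mp (by simp)
    have mc : c ∈ T := (hlT _).mp (by simp)
    have hab : a ≠ b := by rintro rfl; simp at hl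
    have hac : a ≠ c := by rintro rfl; simp at hl
    have hbc : b ≠ c := by rintro rfl; simp at hl
    obtain ⟨g, hg, h1, h2⟩ := pair0 (hT.2.1 a ma) (hT.2.1 b mb) (by
      rw [Finset.card_eq_zero, ← Finset.disjoint_iff_inter_eq_empty]; exact hT.2.2 a ma b mb hab)
    have hgT : g • T = T0 := by
      apply smul_trio_eq hg hT T0_mem ma mb hab
      · rw [h1]; exact T0_iff.mpr (Or.inl rfl)
      · rw [h2]; exact T0_iff.mpr (Or.inr (Or.inr rfl))
    have h3 : g • c ∈ T0 := by rw [← hgT]; exact mem_smul_fam.mpr mc
    refine ⟨g, hg, hgT, ?_⟩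
    simp only [List.map_cons, List.map_nil]
    rcases T0_iff.mp h3 with h3 | h3 | h3
    · exact absurd (smul_left_cancel g (h1.trans h3.symm)) hac
    · rw [h1, h2, h3]; rfl
    · exact absurd (smul_left_cancel g (h2.trans h3.symm)) hbc

theorem perm3 {T : Finset (Finset Cfsg.GolayPt)} (hT : T ∈ Cfsg.trios) (e : Equiv.Perm ↥T) :
    ∃ g ∈ Cfsg.M24, g • T = T ∧ ∀ t : ↥T, g • (t : Finset Cfsg.GolayPt) = ((e t : ↥T) : Finset Cfsg.GolayPt) := by
  let l : List ↥T := T.attach.toList
  have hl : l.Nodup := Finset.nodup_toList _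
  have hlm : ∀ t : ↥T, t ∈ l := fun t => Finset.mem_toList.mpr (Finset.mem_attach _ _)
  have hlen : l.length = 3 := by rw [Finset.length_toList, Finset.card_attach, hT.1]
  obtain ⟨g, hg, hgT, h1⟩ := norm3 (l := l.map Subtype.val) (hl.map Subtype.val_injective) (by rw [List.length_map, hlen]) hT (by
    intro t
    rw [List.mem_map]
    exact ⟨fun ⟨u, _, hu⟩ => hu ▸ u.2, fun ht => ⟨⟨t, ht⟩, hlm _, rfl⟩⟩)
  obtain ⟨k, hk, hkT, h2⟩ := norm3 (l := l.map (fun t => (e t : Finset Cfsg.GolayPt)))
    (hl.map (Subtype.val_injective.comp e.injective)) (by rw [List.length_map, hlen]) hT (by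
    intro t
    rw [List.mem_map]
    exact ⟨fun ⟨u, _, hu⟩ => hu ▸ (e u).2, fun ht => ⟨e.symm ⟨t, ht⟩, hlm _, by simp⟩⟩)
  refine ⟨k⁻¹ * g, M24_mul (inv_mem hk) hg, by rw [mul_smul, hgT, inv_smul_eq_iff, hkT], ?_⟩
  intro t
  have h3 := h1.trans h2.symm
  rw [List.map_map, List.map_map] at h3
  have h4 := List.map_inj_left.mp h3 t (hlm t)
  simp only [Function.comp_apply] at h4
  rw [mul_smul, h4, inv_smul_smul]

def ph : G0 →* Equiv.Perm ↥T0 where
  toFun g := (MulAction.toPerm (g : Equiv.Perm Cfsg.GolayPt) : Equiv.Perm (Finset Cfsg.GolayPt)).subtypePerm (fun t => by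
    have h1 : (g : Equiv.Perm Cfsg.GolayPt) • T0 = T0 := g.2.2
    have h2 := mem_smul_fam (g := (g : Equiv.Perm Cfsg.GolayPt)) (S := T0) (t := t)
    rw [h1] at h2
    exact h2)
  map_one' := by
    apply Equiv.ext
    intro t
    apply Subtype.ext
    exact one_smul (Equiv.Perm Cfsg.GolayPt) (t : Finset Cfsg.GolayPt)
  map_mul' a b := by
    apply Equiv.ext
    intro t
    apply Subtype.ext
    exact mul_smul (a : Equiv.Perm Cfsg.GolayPt) (b : Equiv.Perm Cfsg.GolayPt) (t : Finset Cfsg.GolayPt)

theorem ph_apply (g : G0) (t : ↥T0) : ((ph g t : ↥T0) : Finset Cfsg.GolayPt) = (g : Equiv.Perm Cfsg.GolayPt) • (t : Finset Cfsg.GolayPt) := rfl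

noncomputable def e3 : ↥T0 ≃ Fin 3 := Fintype.equivFinOfCardEq (by rw [Fintype.card_coe, T0_mem.1])

noncomputable def Ph : G0 →* GL (Fin 3) (ZMod 2) × Equiv.Perm (Fin 3) := mtHom.toHomUnits.prod (e3.permCongrHom.toMonoidHom.comp ph)

theorem Ph_surj : Function.Surjective Ph := by
  rintro ⟨M, σ⟩
  obtain ⟨k, hk, hkT, hke⟩ := perm3 T0_mem (e3.permCongrHom.symm σ)
  have hph : ph ⟨k, hk, hkT⟩ = e3.permCongrHom.symm σ := by
    ext1 t
    apply Subtype.ext
    rw [ph_apply]; exact hke t
  obtain ⟨g, hg, hgo⟩ := exists_mt ((M * (mtHom.toHomUnits ⟨k, hk, hkT⟩)⁻¹ : GL (Fin 3) (ZMod 2)) : Matrix (Fin 3) (Fin 3) (ZMod 2)) (by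
      have := (M * (mtHom.toHomUnits ⟨k, hk, hkT⟩)⁻¹ : GL (Fin 3) (ZMod 2)).isUnit
      rw [Matrix.isUnit_iff_isUnit_det] at this
      exact this.ne_zero)
  have hg1 : mtHom.toHomUnits g = M * (mtHom.toHomUnits ⟨k, hk, hkT⟩)⁻¹ := Units.ext hg
  have hg2 : ph g = 1 := by
    ext1 t
    apply Subtype.ext
    rw [ph_apply]; exact hgo t t.2
  refine ⟨g * ⟨k, hk, hkT⟩, ?_⟩
  apply Prod.ext
  · show mtHom.toHomUnits (g * ⟨k, hk, hkT⟩) = M
    rw [map_mul, hg1, inv_mul_cancel_right]
  · show e3.permCongrHom (ph (g * ⟨k, hk, hkT⟩)) = σ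
    rw [map_mul ph, hg2, one_mul, hph, MulEquiv.apply_symm_apply]

theorem card_G0 : Nat.card G0 = 64512 := by
  have h1 := card_eq_of_orbit Cfsg.M24 G0 T0 Cfsg.trios (fun g => Iff.rfl) (fun y => by
    constructor
    · intro hy; exact trios_transitive T0_mem hy
    · rintro ⟨g, hg, rfl⟩; exact smul_mem_trios hg T0_mem)
  rw [card_M24, ncard_trios] at h1
  omega

theorem card_target : Nat.card (GL (Fin 3) (ZMod 2) × Equiv.Perm (Fin 3)) = 1008 := by
  have h1 : Nat.card (GL (Fin 3) (ZMod 2)) = 168 := by
    rw [Matrix.card_GL_field, ZMod.card, Fin.prod_univ_three]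
    norm_num
  have h2 : Nat.card (Equiv.Perm (Fin 3)) = 6 := by
    rw [Nat.card_perm, Nat.card_fin]; rfl
  rw [Nat.card_prod, h1, h2]

theorem card_ker : Nat.card Ph.ker = 64 := by
  have h1 := Subgroup.card_mul_index Ph.ker
  rw [Subgroup.index_ker, MonoidHom.range_eq_top.mpr Ph_surj, Subgroup.card_top, card_target, card_G0] at h1
  generalize Nat.card Ph.ker = n at h1 ⊢
  omega

theorem mem_ker {g : G0} : g ∈ Ph.ker ↔ (∀ v ∈ l7, (g : Equiv.Perm Cfsg.GolayPt) • R v = R v) ∧ ∀ o ∈ T0, (g : Equiv.Perm Cfsg.GolayPt) • o = o := by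
  rw [MonoidHom.mem_ker, Ph, MonoidHom.prod_apply, Prod.mk_eq_one]
  constructor
  · rintro ⟨h1, h2⟩
    have h3 : mt g = 1 := congrArg Units.val h1
    have h4 : ph g = 1 := by
      have : e3.permCongrHom (ph g) = 1 := h2
      rwa [MulEquiv.map_eq_one_iff] at this
    refine ⟨?_, ?_⟩
    · intro v hv
      have h5 := mt_mulVec g hv
      rw [h3, Matrix.one_mulVec] at h5
      have h6 := vec_inj _ hv _ (lab_spec g hv).1 h5
      conv_rhs => rw [h6]
      exact (lab_spec g hv).2
    · intro o ho
      exact congrArg (fun f : Equiv.Perm ↥T0 => ((f ⟨o, ho⟩ : ↥T0) : Finset Cfsg.GolayPt)) h4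
  · rintro ⟨h1, h2⟩
    refine ⟨?_, ?_⟩
    · apply Units.ext
      show mt g = 1
      ext i j
      show vec (lab g (2 ^ (j : ℕ))) i = _
      rw [lab_eq g (two_pow_mem j) (two_pow_mem j) (h1 _ (two_pow_mem j))]
      exact vec_one i j
    · show e3.permCongrHom (ph g) = 1
      have : ph g = 1 := by
        ext1 t
        apply Subtype.ext
        rw [ph_apply]; exact h2 t t.2
      rw [this, map_one]

def chkK (P : ℕ) : Bool := and (and (good P) (isInvol P)) (and (and (Nat.beq (act P mA) mA) (and (Nat.beq (act P mB) mB) (Nat.beq (act P mC) mC)))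
  (l7.all fun v => (RL v).any fun m => Nat.beq m (act P (hd7 v))))

theorem K64_chk : K64.all chkK = true := by decide +kernel
theorem K64_sorted : sortedB K64 = true := by decide +kernel

theorem ker_sq (g : G0) (hg : g ∈ Ph.ker) : g * g = 1 := by
  have key : ∀ g ∈ (Ph.ker.map G0.subtype), ∃ P ∈ K64, Packs P g := by
    apply enum_of_card _ _ K64_sorted
    · intro P hP
      have h1 := List.all_eq_true.mp K64_chk P hP
      simp only [chkK, Bool.and_eq_true] at h1
      obtain ⟨⟨h1, h2⟩, ⟨hA, hB, hC⟩, h4⟩ := h1
      obtain ⟨g, hg, hPg⟩ := exists_of_good h1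
      have fx : ∀ {m : ℕ}, m < 2 ^ 24 → Nat.beq (act P m) m = true → g • toFS m = toFS m := by
        intro m hm h
        rw [← toFS_mask (g • toFS m), hPg.mask_smul, mask_toFS hm, Nat.eq_of_beq_eq_true h]
      have hfix : ∀ o ∈ T0, g • o = o := by
        intro o ho
        rcases T0_iff.mp ho with rfl | rfl | rfl
        · exact fx (m := mA) (by norm_num [mA]) hA
        · exact fx (m := mB) (by norm_num [mB]) hB
        · exact fx (m := mC) (by norm_num [mC]) hC
      have hT : g • T0 = T0 := by
        apply Finset.eq_of_subset_of_card_le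
        · intro t ht
          have h3 : g⁻¹ • t ∈ T0 := by
            have e := mem_smul_fam (g := g) (S := T0) (t := g⁻¹ • t)
            rw [smul_inv_smul] at e
            exact e.mp ht
          have h2 := hfix _ h3
          rw [smul_inv_smul] at h2
          rw [h2]; exact h3
        · rw [Finset.card_smul_finset]
      refine ⟨g, ⟨⟨g, hg, hT⟩, mem_ker.mpr ⟨?_, hfix⟩, rfl⟩, hPg⟩
      intro v hv
      have h := List.all_eq_true.mp h4 v hv
      rw [List.any_eq_true] at h
      obtain ⟨m, hm, he⟩ := h
      have h4 : g • toFS (hd7 v) = toFS m := by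
        rw [← toFS_mask (g • toFS (hd7 v)), hPg.mask_smul, mask_toFS ((RL_chk v hv).2.2.1 _ (hd7_mem v hv)), ← Nat.eq_of_beq_eq_true he]
      have h5 : toFS m ∈ g • R v := by
        rw [← h4]; exact mem_smul_fam.mpr (mem_R.mpr ⟨_, hd7_mem v hv, rfl⟩)
      have h6 : toFS m ∈ R v := mem_R.mpr ⟨m, hm, rfl⟩
      show g • R v = R v
      rw [sextet_eq_sext (smul_mem_sextets hg (R_mem hv)) h5, ← sextet_eq_sext (R_mem hv) h6]
    · rw [Subgroup.card_map_of_injective (Subgroup.subtype_injective _), card_ker]; rfl
  obtain ⟨P, hP, hPg⟩ := key g ⟨g, hg, rfl⟩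
  have h1 := List.all_eq_true.mp K64_chk P hP
  simp only [chkK, Bool.and_eq_true] at h1
  exact Subtype.ext ((isInvol_iff hPg).mp h1.1.2)

end


/-- Structure of a trio stabiliser: every permutation of the three octads is induced, and there is a normal subgroup of order 64 of elements squaring to the identity whose quotient is isomorphic to the product of GL(3, 2) with the symmetric group of degree 3. -/
theorem result (T : Finset (Finset Cfsg.GolayPt)) (hT : T ∈ Cfsg.trios) : (∀ e : Equiv.Perm ↥T, ∃ g ∈ MulAction.stabilizer Cfsg.M24 T, ∀ o : ↥T, (g : Equiv.Perm Cfsg.GolayPt) • (o : Finset Cfsg.GolayPt) = ((e o : ↥T) : Finset Cfsg.GolayPt)) ∧ ∃ (N : Subgroup ↥(MulAction.stabilizer Cfsg.M24 T)) (_ : N.Normal), Nat.card N = 64 ∧ (∀ x ∈ N, x * x = 1) ∧ Nonempty (↥(MulAction.stabilizer Cfsg.M24 T) ⧸ N ≃* GL (Fin 3) (ZMod 2) × Equiv.Perm (Fin 3)) := by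
  refine ⟨?_, ?_⟩
  · intro e
    obtain ⟨g, hg, hgT, h⟩ := perm3 hT e
    exact ⟨⟨g, hg⟩, hgT, h⟩
  · obtain ⟨k, hk, hkT⟩ := CfsgLib.Golay.trios_transitive hT CfsgLib.Golay.T0_mem
    have hki : k⁻¹ • CfsgLib.Golay.T0 = T := by rw [inv_smul_eq_iff]; exact hkT.symm
    let ε : ↥(MulAction.stabilizer Cfsg.M24 T) ≃* G0 :=
      { toFun := fun g => ⟨k * (((g : Cfsg.M24) : Equiv.Perm Cfsg.GolayPt)) * k⁻¹, CfsgLib.Golay.M24_mul (CfsgLib.Golay.M24_mul hk (g : Cfsg.M24).2) (inv_mem hk), by
          have h1 : ((g : Cfsg.M24) : Equiv.Perm Cfsg.GolayPt) • T = T := g.2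
          show (k * ((g : Cfsg.M24) : Equiv.Perm Cfsg.GolayPt) * k⁻¹) • CfsgLib.Golay.T0 = CfsgLib.Golay.T0
          rw [mul_smul, mul_smul, hki, h1, hkT]⟩
        invFun := fun g => ⟨⟨k⁻¹ * g.1 * k, CfsgLib.Golay.M24_mul (CfsgLib.Golay.M24_mul (inv_mem hk) g.2.1) hk⟩, by
          have h1 : (g : Equiv.Perm Cfsg.GolayPt) • CfsgLib.Golay.T0 = CfsgLib.Golay.T0 := g.2.2
          show (k⁻¹ * g.1 * k) • T = T
          rw [mul_smul, mul_smul, hkT, h1, hki]⟩
        left_inv := fun g => by
          apply Subtype.ext; apply Subtype.ext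
          show k⁻¹ * (k * _ * k⁻¹) * k = _
          group
        right_inv := fun g => by
          apply Subtype.ext
          show k * (k⁻¹ * _ * k) * k⁻¹ = _
          group
        map_mul' := fun a b => by
          apply Subtype.ext
          show k * (_ * _) * k⁻¹ = k * _ * k⁻¹ * (k * _ * k⁻¹)
          group }
    let Ψ := Ph.comp ε.toMonoidHom
    have hΨ : Function.Surjective Ψ := Ph_surj.comp ε.surjective
    refine ⟨Ψ.ker, Ψ.normal_ker, ?_, ?_, ⟨QuotientGroup.quotientKerEquivOfSurjective Ψ hΨ⟩⟩
    · have h1 := Subgroup.card_mul_index Ψ.ker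
      rw [Subgroup.index_ker, MonoidHom.range_eq_top.mpr hΨ, Subgroup.card_top, card_target, Nat.card_congr ε.toEquiv, card_G0] at h1
      generalize Nat.card Ψ.ker = n at h1 ⊢
      omega
    · intro x hx
      have h1 := ker_sq (ε x) hx
      rw [← map_mul] at h1
      rwa [MulEquiv.map_eq_one_iff] at h1

end Cfsg.Agent.S1558
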