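import Cfsg.Statements.S1599
import Cfsg.Agent.Lib.GolayQuartet

set_option autoImplicit false
open scoped Pointwise
open Cfsg

open scoped Pointwise
set_option linter.style.haveILetI false
namespace Cfsg.Agent.S1599

section
open CfsgLib.Golay

def qT : ℕ := 0x21ba04000a02001101002400a080106d04001202000901008400a020190304000c02008201001100a020090104008102001401000a00a0201ad304002202008101000c00a0102ad504008202002101001400a008203604001102000a0100a000a0042a3504003002000c01008100a002109004001402002801008200a001204f0400140220020100090080a020ca04002402200101000a00809022ba042002020014010021008088285a0400030200180120200080841a1504000502202001001800808221c3040018020024012002008081208c0400060220100100280080812aa504202002000a010014008081192f04008402000a012001008030189d0420040200120100810080282a9104200802008101001200802420780400090220800100140080222a9504000a02008401201000802121a304008102002201200400801822380400a00200030120080080141ab704000a02202001008100801420a30420010200880100220080142a19042020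02000501008800801218590400880200060120200080111a5004202002009001000300800c2aa704001402008101202000800a2a1304002102200401009000800a119004208002003001000500800a0a0504009002202001000600800918ad040081022008010030008006283e0420100200a001000a008005212704002802001401208000800312a104800102000c0100120020a012a00400060300010080180020a028d204000c0280010100220020901283040003030004008028002090180e06002001000900800600209018b7048002020024010011002088192e060001010006008030002088080505002002001200800500208822090400180200030180200020842278050001020028008012002084119904002203001000800900208428d5040024020018018001002082209604800802000501003000208219bc04001102802001000c0020822a160480200200060100180020812a8104001203002000800c002081229f040009028004010082002030229e05000402000300808800203022a304001102008401800200202811830600020100050080900020281952040082028010010009002024192405001002008800800300202409070400840200110180080020220904060008010090008005002022184704808002001201000c002021182e04001803008000800600202111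a104002102008201800400201811a00500020200050080a0002018112504008403002000800300201810250400880280200100030020140807050020020009008082002014202104802002008801000500201222270500080200210080840020121a470600040100a000800900201222ca04008202000c018020002011209f04800402002201008800201119470400280280800100060020112a740400030200a001801000200c22c904802002001101008200200c0a0704009002800201002100200c225104000502009001802000200a227d06002001008400801100200a202604000602802001009000200918bc0400300300020080840020092a5e06008001002400801200200920380400a00280080100110020062009040009030020008090002006209e060010010088008021002006224a048010020082010028002005227b0600200100120080880020052220050080020018008022002005284104000c0200300180800020030a04040090030008008024002003212105002002008400801800200320c90480040200090120020000b018b405000102000600a0080000b0205606200001000c0080030000b0222904000a0380000020050000b019d30400120220040180010000a8193204000503000200a0100000a818500520000200110080060000a82819068000010014002003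0000a822d704000902001201a0000000a418d30420020280010100180000a41aad0480100220080100030000a4194407000000800a0020110000a411bb04001802a0000100050000a2214a0420040300080080110000a219ad06000101201000800c0000a221960580000200140020090000a221c004a0000200180100060000a1293d04000c0320000080120000a120930600020180080020140000a1221f05001002800400200a0000a10a0104200402002101800200009810d804002202800401200100009811d804800102200201002400009820aa042008020022018001000094190e06000101002800a002000094189a05000202800800202100009421c9042001020024018008000092215604002803000100a00400009228af05000402200800802100009222770420020200280180040000911a9a06000401200800802200009122bf04800803000200202400009120c304002102801001200200008c10bb06000201003000a00100008c20ce04201003000100802200008c223704003002800101200400008a295405000102201000802400008a20c006000401801000202100008a229304002402800201201000008920bf05000202003000a00400008912bb04801003000400202200008929d00480010200300120080000861a6006000801002100a010000086189b0500100220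010080280000862a3d04002802200201801000008520b306001001002200a00800008522680480020300080020300000851099042010028008010024000083192d05000802200400803000008310b00480040300100020280000831a2f0420010280020100840000381a2e06000401000300a08000003821680400820320000080050000381a2d058000020081002006000038206804000302a0000100880000341852052000020082008009000034288a060008018002002081000034284604808003000100200a00003410a10400880220010180040000322136040005028008012080000032213704a000020084010009000032113407000000808100200c000032225704000602008801a0000000311290042008030004008082000031214005008002200200800c000031194206800001000a0020840000312a1204a00002000301009000002c20ba06001001200100808200002c207705000202208000801100002c2ad104008103800000201200002c206304009002000501a00000002a22b206200001001100808400002a28c405000402801000208100002a182f04800103008000201400002a18420420100200060180800000291a52048002020090012004000029219304008402a00001001200002908010700000080140020820000292874042080020009018010000026108305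000802009000a00100002622b304001103200000808800002619590680000100810020180000261299040012028080012008000025110c04008803001000a00200002512b0062000010082008018000025216305800002000a002090000025211f048008022010010084000023183206008001001800a0040000231a9b05200002000c008090000023181504001403800000208800002319b70480020220010100a000001c191504208003000200802100001c090505000102808000202200001c100c06002001a00000008300001c29a504800402208001002100001a29190400a003000400a00100001a195006000101808000202400001a182405200002802000008500001a1abc0480800220040100220000191a750500040200a000a0020000192a980600020120800080240000191aa404202003800000008600001922730480080200a0012001000016217b04002103000800a080000016222105008002800100202800001622b10620000180200000890000162040040022022008018080000015203006008001200200802800001512250500080280020020a0000015218004a00003002000008a000015214f042080028004010028000013214c04002403008000a008000013204c0600080120040080a00000131ab605800002202000008c000013229604801002002101208000000e11b00420010300100080a000000e212806008001800100203000000e080405002002a00000009100000e283a0400a002201001800200000d21b305001002002200a08000000d182d04200203008000803000000d19b406800001202000009200000d000704200402808001003000000b202905008002002400a01000000b00050600100180040020a000000b000404802003200000009400000b1234040030022080018008000007184404808002002801201000000700010420080280100100a0000007000007000000a020000098000007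

def qE (i : ℕ) : ℕ := Nat.land (Nat.shiftRight qT (Nat.mul 112 i)) 0xffffffffffffffffffffffffffff
def qA (i : ℕ) : ℕ := Nat.land (qE i) 0xffffff
def qB (i : ℕ) : ℕ := Nat.land (Nat.shiftRight (qE i) 24) 0xffffff
def qC (i : ℕ) : ℕ := Nat.land (Nat.shiftRight (qE i) 48) 0xffffff
def qD (i : ℕ) : ℕ := Nat.land (Nat.shiftRight (qE i) 72) 0xffffff
def qP (i : ℕ) : ℕ := Nat.land (Nat.shiftRight (qE i) 96) 255
def qG (i : ℕ) : ℕ := Nat.land (Nat.shiftRight (qE i) 104) 7
def qH (i : ℕ) : ℕ := Nat.land (Nat.shiftRight (qE i) 107) 31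
def qK (i : ℕ) : ℕ := Nat.lor (qD i) (Nat.lor (Nat.shiftLeft (qC i) 24) (Nat.lor (Nat.shiftLeft (qB i) 48) (Nat.shiftLeft (qA i) 72)))

def gens : ℕ → ℕ
  | 0 => 0x75674580412246cb2917698ef2c650
  | 1 => 0xaa2975c2513d8664b26e128800bda5
  | _ => 0xa22c9988207b9a65b2f58a8b090ce4

def mem4 (m a b c d : ℕ) : Bool := or (or (Nat.beq m a) (Nat.beq m b)) (or (Nat.beq m c) (Nat.beq m d))

def tri (a : ℕ) : Bool := and (Nat.beq (pop a) 3) (Nat.beq (Nat.land a 0x7a0bf) a)

def qOk (i : ℕ) : Bool := and (and (and (tri (qA i)) (tri (qB i))) (and (tri (qC i)) (tri (qD i))))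
  (and (and (Nat.blt (qA i) (qB i)) (and (Nat.blt (qB i) (qC i)) (Nat.blt (qC i) (qD i))))
    (and (and (isHex (Nat.lor (qA i) (qB i))) (and (isHex (Nat.lor (qA i) (qC i))) (isHex (Nat.lor (qA i) (qD i)))))
      (and (isHex (Nat.lor (qB i) (qC i))) (and (isHex (Nat.lor (qB i) (qD i))) (isHex (Nat.lor (qC i) (qD i)))))))

def y4 (a b c d m : ℕ) : ℕ := Nat.add (Nat.add (z1 a m) (z1 b m)) (Nat.add (z1 c m) (z1 d m))

def qZ (i : ℕ) : ℕ := Nat.add (Nat.add (y4 (qA i) (qB i) (qC i) (qD i) 7) (y4 (qA i) (qB i) (qC i) (qD i) 0x98))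
  (Nat.add (y4 (qA i) (qB i) (qC i) (qD i) 0xa020) (y4 (qA i) (qB i) (qC i) (qD i) 0x70000))

def root : ℕ → ℕ
  | 12 => 0
  | 6 => 1
  | 8 => 4
  | 7 => 5
  | _ => 7

def im (P a i : ℕ) : Bool := mem4 (act P a) (qA i) (qB i) (qC i) (qD i)

def qStep (i : ℕ) : Bool := or (Nat.beq i (root (qZ i)))
  (and (and (Nat.blt (qP i) 220) (Nat.blt (qH (qP i)) (qH i)))
    (and (and (im (gens (qG i)) (qA (qP i)) i) (im (gens (qG i)) (qB (qP i)) i)) (and (im (gens (qG i)) (qC (qP i)) i) (im (gens (qG i)) (qD (qP i)) i))))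

theorem q_ok : allLt 220 qOk = true := by decide +kernel
theorem q_sorted : allLt 219 (fun i => Nat.blt (qK i) (qK (Nat.succ i))) = true := by decide +kernel
theorem q_step : allLt 220 qStep = true := by decide +kernel
theorem q_gens : allLt 3 (fun k => and (and (good (gens k)) (Nat.beq (act (gens k) 0x7a0bf) 0x7a0bf))
  ([7, 0x98, 0xa020, 0x70000].all fun m => mem4 (act (gens k) m) 7 0x98 0xa020 0x70000)) = true := by decide +kernel
theorem q_cnt : cntLt 220 (fun i => Nat.beq (qZ i) 12) = 1 ∧ cntLt 220 (fun i => Nat.beq (qZ i) 6) = 12 ∧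
    cntLt 220 (fun i => Nat.beq (qZ i) 8) = 27 ∧ cntLt 220 (fun i => Nat.beq (qZ i) 7) = 72 ∧
    cntLt 220 (fun i => Nat.beq (qZ i) 5) = 108 := by decide +kernel

def quad (a b c d : ℕ) : Finset (Finset Cfsg.GolayPt) := {toFS a, toFS b, toFS c, toFS d}

theorem mem_quad {s : Finset Cfsg.GolayPt} {a b c d : ℕ} (ha : a < 2 ^ 24) (hb : b < 2 ^ 24) (hc : c < 2 ^ 24) (hd : d < 2 ^ 24) :
    s ∈ quad a b c d ↔ mem4 (mask s) a b c d = true := by
  simp only [quad, Finset.mem_insert, Finset.mem_singleton, mem4, Bool.or_eq_true]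
  have key : ∀ {a : ℕ}, a < 2 ^ 24 → (s = toFS a ↔ Nat.beq (mask s) a = true) := by
    intro a ha
    rw [Nat.beq_eq]
    constructor
    · rintro rfl; exact mask_toFS ha
    · intro h; rw [← h, toFS_mask]
  rw [key ha, key hb, key hc, key hd]
  tauto

def qq (i : ℕ) : Finset (Finset Cfsg.GolayPt) := quad (qA i) (qB i) (qC i) (qD i)

theorem q_lt (i : ℕ) : qA i < 2 ^ 24 ∧ qB i < 2 ^ 24 ∧ qC i < 2 ^ 24 ∧ qD i < 2 ^ 24 := by
  have h1 : qA i ≤ 0xffffff := Nat.and_le_right
  have h2 : qB i ≤ 0xffffff := Nat.and_le_right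
  have h3 : qC i ≤ 0xffffff := Nat.and_le_right
  have h4 : qD i ≤ 0xffffff := Nat.and_le_right
  exact ⟨by omega, by omega, by omega, by omega⟩

theorem quad_card {a b c d : ℕ} (ha : a < 2 ^ 24) (hb : b < 2 ^ 24) (hc : c < 2 ^ 24) (hd : d < 2 ^ 24) (h1 : a < b) (h2 : b < c) (h3 : c < d) :
    (quad a b c d).card = 4 := by
  have inj : ∀ {a b : ℕ}, a < 2 ^ 24 → b < 2 ^ 24 → a ≠ b → toFS a ≠ toFS b := fun ha hb h h' => h (toFS_inj ha hb h')
  rw [quad, Finset.card_insert_of_notMem, Finset.card_insert_of_notMem, Finset.card_insert_of_notMem, Finset.card_singleton]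
  · simp only [Finset.mem_singleton]; exact inj hc hd (by omega)
  · simp only [Finset.mem_insert, Finset.mem_singleton, not_or]; exact ⟨inj hb hc (by omega), inj hb hd (by omega)⟩
  · simp only [Finset.mem_insert, Finset.mem_singleton, not_or]; exact ⟨inj ha hb (by omega), inj ha hc (by omega), inj ha hd (by omega)⟩

theorem q_ord {i : ℕ} (hi : i < 220) : qA i < qB i ∧ qB i < qC i ∧ qC i < qD i := by
  have h := allLt_spec q_ok i hi
  simp only [qOk, Bool.and_eq_true] at h
  exact ⟨Nat.le_of_ble_eq_true h.2.1.1, Nat.le_of_ble_eq_true h.2.1.2.1, Nat.le_of_ble_eq_true h.2.1.2.2⟩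

theorem qq_card {i : ℕ} (hi : i < 220) : (qq i).card = 4 := by
  obtain ⟨l1, l2, l3, l4⟩ := q_lt i
  obtain ⟨o1, o2, o3⟩ := q_ord hi
  exact quad_card l1 l2 l3 l4 o1 o2 o3

theorem qq_mem {i : ℕ} (hi : i < 220) : qq i ∈ Cfsg.quartets D0 := by
  obtain ⟨l1, l2, l3, l4⟩ := q_lt i
  have h := allLt_spec q_ok i hi
  simp only [qOk, Bool.and_eq_true] at h
  obtain ⟨⟨⟨tA, tB⟩, tC, tD⟩, -, ⟨hAB, hAC, hAD⟩, hBC, hBD, hCD⟩ := h
  have mem : ∀ t, t ∈ qq i ↔ t = toFS (qA i) ∨ t = toFS (qB i) ∨ t = toFS (qC i) ∨ t = toFS (qD i) := by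
    intro t; simp only [qq, quad, Finset.mem_insert, Finset.mem_singleton]
  have ht3 : ∀ {a : ℕ}, a < 2 ^ 24 → tri a = true → (toFS a).card = 3 ∧ toFS a ⊆ D0 := by
    intro a ha h
    rw [tri, Bool.and_eq_true] at h
    refine ⟨by rw [card_toFS ha]; exact Nat.eq_of_beq_eq_true h.1, ?_⟩
    have : a &&& 0x7a0bf = a := Nat.eq_of_beq_eq_true h.2
    rw [← Finset.inter_eq_left, D0, ← toFS_land, this]
  have hx : ∀ {a b : ℕ}, a < 2 ^ 24 → b < 2 ^ 24 → isHex (Nat.lor a b) = true → toFS a ∪ toFS b ∈ Cfsg.hexadsOn D0 := by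
    intro a b ha hb h
    rw [mem_hexads_iff, mask_union, mask_toFS ha, mask_toFS hb]; exact h
  refine ⟨qq_card hi, ?_, ?_⟩
  · intro t ht
    rcases (mem t).mp ht with rfl | rfl | rfl | rfl
    · exact ht3 l1 tA
    · exact ht3 l2 tB
    · exact ht3 l3 tC
    · exact ht3 l4 tD
  · intro t ht u hu hne
    rcases (mem t).mp ht with rfl | rfl | rfl | rfl <;> rcases (mem u).mp hu with rfl | rfl | rfl | rfl <;>
      first
      | exact absurd rfl hne
      | exact hx (by assumption) (by assumption) (by assumption)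
      | (rw [Finset.union_comm]; exact hx (by assumption) (by assumption) (by assumption))

theorem qk_inj {i j : ℕ} (hi : i < 220) (hj : j < 220) (h : qK i = qK j) : i = j := by
  have hm := strictMono_of_step (f := qK) (n := 220)
    (fun i hi => Nat.le_of_ble_eq_true (allLt_spec q_sorted i (by omega)))
  rcases lt_trichotomy i j with h1 | h1 | h1
  · exact absurd h (ne_of_lt (hm i j h1 hj))
  · exact h1
  · exact absurd h.symm (ne_of_lt (hm j i h1 hi))

theorem qq_inj {i j : ℕ} (hi : i < 220) (hj : j < 220) (h : qq i = qq j) : i = j := by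
  obtain ⟨l1, l2, l3, l4⟩ := q_lt i
  obtain ⟨k1, k2, k3, k4⟩ := q_lt j
  obtain ⟨o1, o2, o3⟩ := q_ord hi
  obtain ⟨p1, p2, p3⟩ := q_ord hj
  have mem : ∀ m, m < 2 ^ 24 → (m = qA i ∨ m = qB i ∨ m = qC i ∨ m = qD i ↔ m = qA j ∨ m = qB j ∨ m = qC j ∨ m = qD j) := by
    intro m hm
    have e1 := mem_quad (s := toFS m) l1 l2 l3 l4
    have e2 := mem_quad (s := toFS m) k1 k2 k3 k4
    simp only [mem4, mask_toFS hm, Bool.or_eq_true, Nat.beq_eq, or_assoc] at e1 e2
    rw [← e1, ← e2]
    show toFS m ∈ qq i ↔ toFS m ∈ qq j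
    rw [h]
  have a1 := (mem _ l1).mp (Or.inl rfl)
  have a2 := (mem _ l2).mp (Or.inr (Or.inl rfl))
  have a3 := (mem _ l3).mp (Or.inr (Or.inr (Or.inl rfl)))
  have a4 := (mem _ l4).mp (Or.inr (Or.inr (Or.inr rfl)))
  have b1 := (mem _ k1).mpr (Or.inl rfl)
  have b2 := (mem _ k2).mpr (Or.inr (Or.inl rfl))
  have b3 := (mem _ k3).mpr (Or.inr (Or.inr (Or.inl rfl)))
  have b4 := (mem _ k4).mpr (Or.inr (Or.inr (Or.inr rfl)))
  have e1 : qA i = qA j := by omega
  have e2 : qB i = qB j := by omega
  have e3 : qC i = qC j := by omega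
  have e4 : qD i = qD j := by omega
  exact qk_inj hi hj (by rw [qK, qK, e1, e2, e3, e4])

theorem exists_qq {X : Finset (Finset Cfsg.GolayPt)} (hX : X ∈ Cfsg.quartets D0) : ∃ i < 220, qq i = X := by
  have hbij : Function.Bijective (fun i : Fin 220 => (⟨qq i, qq_mem i.2⟩ : {X // X ∈ Cfsg.quartets D0})) := by
    haveI : Finite {X // X ∈ Cfsg.quartets D0} := by
      have : (Cfsg.quartets D0 : Set (Finset (Finset Cfsg.GolayPt))).Finite := Set.toFinite _
      exact this
    refine (Nat.bijective_iff_injective_and_card _).mpr ⟨?_, ?_⟩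
    · intro i j hij
      exact Fin.ext (qq_inj i.2 j.2 (congrArg Subtype.val hij))
    · rw [Nat.card_eq_fintype_card, Fintype.card_fin]
      exact ncard_quartets_base.symm
  obtain ⟨i, hi⟩ := hbij.2 ⟨X, hX⟩
  exact ⟨i, i.2, congrArg Subtype.val hi⟩

theorem quad_sum {a b c d : ℕ} (ha : a < 2 ^ 24) (hb : b < 2 ^ 24) (hc : c < 2 ^ 24) (hd : d < 2 ^ 24) (h1 : a < b) (h2 : b < c) (h3 : c < d)
    (f : Finset Cfsg.GolayPt → ℕ) : ∑ x ∈ quad a b c d, f x = f (toFS a) + (f (toFS b) + (f (toFS c) + f (toFS d))) := by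
  have inj : ∀ {a b : ℕ}, a < 2 ^ 24 → b < 2 ^ 24 → a ≠ b → toFS a ≠ toFS b := fun ha hb h h' => h (toFS_inj ha hb h')
  rw [quad, Finset.sum_insert, Finset.sum_insert, Finset.sum_insert, Finset.sum_singleton]
  · simp only [Finset.mem_singleton]; exact inj hc hd (by omega)
  · simp only [Finset.mem_insert, Finset.mem_singleton, not_or]; exact ⟨inj hb hc (by omega), inj hb hd (by omega)⟩
  · simp only [Finset.mem_insert, Finset.mem_singleton, not_or]; exact ⟨inj ha hb (by omega), inj ha hc (by omega), inj ha hd (by omega)⟩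

theorem Q0_quad : Q0 = quad 7 0x98 0xa020 0x70000 := rfl

theorem nInt_qq {i : ℕ} (hi : i < 220) : nInt 0 (qq i) Q0 = qZ i := by
  obtain ⟨l1, l2, l3, l4⟩ := q_lt i
  obtain ⟨o1, o2, o3⟩ := q_ord hi
  rw [nInt, Finset.sum_comm, Q0_quad, quad_sum (by norm_num) (by norm_num) (by norm_num) (by norm_num) (by norm_num) (by norm_num) (by norm_num)]
  simp only [qq]
  rw [quad_sum l1 l2 l3 l4 o1 o2 o3, quad_sum l1 l2 l3 l4 o1 o2 o3, quad_sum l1 l2 l3 l4 o1 o2 o3, quad_sum l1 l2 l3 l4 o1 o2 o3]
  have m1 : (7 : ℕ) < 2 ^ 24 := by norm_num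
  have m2 : (0x98 : ℕ) < 2 ^ 24 := by norm_num
  have m3 : (0xa020 : ℕ) < 2 ^ 24 := by norm_num
  have m4 : (0x70000 : ℕ) < 2 ^ 24 := by norm_num
  rw [z1_eq l1 m1, z1_eq l2 m1, z1_eq l3 m1, z1_eq l4 m1, z1_eq l1 m2, z1_eq l2 m2, z1_eq l3 m2, z1_eq l4 m2,
    z1_eq l1 m3, z1_eq l2 m3, z1_eq l3 m3, z1_eq l4 m3, z1_eq l1 m4, z1_eq l2 m4, z1_eq l3 m4, z1_eq l4 m4]
  simp only [qZ, y4, Nat.add_eq]
  omega

theorem gens_spec (k : ℕ) : ∃ g ∈ KQ, Packs (gens k) g := by
  have key : ∀ k < 3, ∃ g ∈ KQ, Packs (gens k) g := by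
    intro k hk
    have h := allLt_spec q_gens k hk
    simp only [Bool.and_eq_true] at h
    obtain ⟨⟨h1, h2⟩, h3⟩ := h
    obtain ⟨g, hg, hP⟩ := exists_of_good h1
    refine ⟨g, ⟨⟨hg, ?_, by simp⟩, ?_⟩, hP⟩
    · rw [D0, ← toFS_mask (g • toFS 0x7a0bf), hP.mask_smul, mask_toFS (by norm_num), Nat.eq_of_beq_eq_true h2]
    · show g • Q0 = Q0
      rw [Q0_quad]
      apply Finset.eq_of_subset_of_card_le
      · intro t ht
        rw [← smul_inv_smul g t, mem_smul_fam] at ht
        have h4 : ∀ m ∈ [7, 0x98, 0xa020, 0x70000], m < 2 ^ 24 ∧ g • toFS m ∈ quad 7 0x98 0xa020 0x70000 := by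
          intro m hm
          have lt : ∀ m ∈ [7, 0x98, 0xa020, 0x70000], m < 2 ^ 24 := by decide
          refine ⟨lt m hm, ?_⟩
          rw [mem_quad (by norm_num) (by norm_num) (by norm_num) (by norm_num), hP.mask_smul, mask_toFS (lt m hm)]
          exact List.all_eq_true.mp h3 m hm
        simp only [quad, Finset.mem_insert, Finset.mem_singleton] at ht
        rcases ht with h | h | h | h
        · rw [inv_smul_eq_iff.mp h]; exact (h4 _ (by simp)).2
        · rw [inv_smul_eq_iff.mp h]; exact (h4 _ (by simp)).2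
        · rw [inv_smul_eq_iff.mp h]; exact (h4 _ (by simp)).2
        · rw [inv_smul_eq_iff.mp h]; exact (h4 _ (by simp)).2
      · rw [Finset.card_smul_finset]
  match k with
  | 0 => exact key 0 (by norm_num)
  | 1 => exact key 1 (by norm_num)
  | k + 2 => exact key 2 (by norm_num)

theorem q_root : ∀ n i, i < 220 → qH i = n → ∃ g ∈ KQ, g • qq (root (qZ i)) = qq i := by
  intro n
  induction n using Nat.strong_induction_on with
  | _ n ih =>
    intro i hi hd
    have h := allLt_spec q_step i hi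
    simp only [qStep, Bool.or_eq_true, Bool.and_eq_true] at h
    rcases h with h | ⟨⟨h1, h2⟩, ⟨hA, hB⟩, hC, hD⟩
    · refine ⟨1, one_mem _, ?_⟩
      rw [one_smul, ← Nat.eq_of_beq_eq_true h]
    · have hp : qP i < 220 := Nat.le_of_ble_eq_true h1
      have hdp : qH (qP i) < qH i := Nat.le_of_ble_eq_true h2
      obtain ⟨g, hg, hgr⟩ := ih (qH (qP i)) (hd ▸ hdp) (qP i) hp rfl
      obtain ⟨k, hk, hkP⟩ := gens_spec (qG i)
      obtain ⟨l1, l2, l3, l4⟩ := q_lt i
      obtain ⟨k1, k2, k3, k4⟩ := q_lt (qP i)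
      have hstep : k • qq (qP i) = qq i := by
        apply Finset.eq_of_subset_of_card_le
        · intro t ht
          rw [← smul_inv_smul k t, mem_smul_fam] at ht
          have im' : ∀ {m : ℕ}, m < 2 ^ 24 → im (gens (qG i)) m i = true → k • toFS m ∈ qq i := by
            intro m hm h
            rw [qq, mem_quad l1 l2 l3 l4, hkP.mask_smul, mask_toFS hm]; exact h
          simp only [qq, quad, Finset.mem_insert, Finset.mem_singleton] at ht
          rcases ht with h | h | h | h
          · rw [inv_smul_eq_iff.mp h]; exact im' k1 hA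
          · rw [inv_smul_eq_iff.mp h]; exact im' k2 hB
          · rw [inv_smul_eq_iff.mp h]; exact im' k3 hC
          · rw [inv_smul_eq_iff.mp h]; exact im' k4 hD
        · rw [Finset.card_smul_finset, qq_card hi, qq_card hp]
      have hz : qZ (qP i) = qZ i := by
        rw [← nInt_qq hp, ← nInt_qq hi, ← hstep]
        have hkT : k • Q0 = Q0 := hk.2
        conv_rhs => rw [← hkT]
        rw [nInt_smul]
      refine ⟨k * g, mul_mem hk hg, ?_⟩
      rw [mul_smul, ← hz, hgr, hstep]

theorem pair_base {X Y : Finset (Finset Cfsg.GolayPt)} (hX : X ∈ Cfsg.quartets D0) (hY : Y ∈ Cfsg.quartets D0) (h : nInt 0 X Q0 = nInt 0 Y Q0) :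
    ∃ g ∈ KQ, g • X = Y := by
  obtain ⟨i, hi, rfl⟩ := exists_qq hX
  obtain ⟨j, hj, rfl⟩ := exists_qq hY
  rw [nInt_qq hi, nInt_qq hj] at h
  obtain ⟨g, hg, h2⟩ := q_root _ i hi rfl
  obtain ⟨k, hk, h4⟩ := q_root _ j hj rfl
  rw [h] at h2
  exact ⟨k * g⁻¹, mul_mem hk (inv_mem hg), by rw [mul_smul, inv_smul_eq_iff.mpr h2.symm, h4]⟩

theorem orb {d : Finset Cfsg.GolayPt} (hd : d ∈ Cfsg.dodecads) {Q X : Finset (Finset Cfsg.GolayPt)} (hQ : Q ∈ Cfsg.quartets d) (hX : X ∈ Cfsg.quartets d) :
    MulAction.orbit ↥(MulAction.stabilizer Cfsg.M24 d ⊓ MulAction.stabilizer Cfsg.M24 Q) X = {Y | Y ∈ Cfsg.quartets d ∧ nInt 0 Y Q = nInt 0 X Q} := by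
  ext Y
  rw [MulAction.mem_orbit_iff]
  constructor
  · rintro ⟨⟨⟨g, hg⟩, hgd, hgQ⟩, rfl⟩
    have hgd' : g • d = d := hgd
    have hgQ' : g • Q = Q := hgQ
    refine ⟨(mem_quartets_smul hg hgd').mpr hX, ?_⟩
    show nInt 0 (g • X) Q = _
    conv_lhs => rw [← hgQ']
    exact nInt_smul _ _ _ _
  · rintro ⟨hY, h⟩
    obtain ⟨k, hk, hkd, hkQ⟩ := norm_quartet' hd hQ
    obtain ⟨g, hg, h2⟩ := pair_base ((mem_quartets_smul hk hkd).mpr hX) ((mem_quartets_smul hk hkd).mpr hY) (by rw [← hkQ, nInt_smul, nInt_smul, h])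
    refine ⟨⟨⟨k⁻¹ * g * k, M24_mul (M24_mul (inv_mem hk) hg.1.1) hk⟩, ?_, ?_⟩, ?_⟩
    · show (k⁻¹ * g * k) • d = d
      rw [mul_smul, mul_smul, hkd, hg.1.2.1, inv_smul_eq_iff, hkd]
    · have hgQ : g • Q0 = Q0 := hg.2
      show (k⁻¹ * g * k) • Q = Q
      rw [mul_smul, mul_smul, hkQ, hgQ, inv_smul_eq_iff, hkQ]
    · show (k⁻¹ * g * k) • X = Y
      rw [mul_smul, mul_smul, h2, inv_smul_smul]

theorem count_base (z : ℕ) : {X | X ∈ Cfsg.quartets D0 ∧ nInt 0 X Q0 = z}.ncard = cntLt 220 (fun i => Nat.beq (qZ i) z) := by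
  rw [cntLt_spec, ← Set.ncard_coe_finset]
  symm
  apply Set.ncard_congr (fun i _ => qq i)
  · intro i hi
    rw [Finset.mem_coe, Finset.mem_filter, Finset.mem_range, Nat.beq_eq] at hi
    exact ⟨qq_mem hi.1, by rw [nInt_qq hi.1]; exact hi.2⟩
  · intro i j hi hj hij
    rw [Finset.mem_coe, Finset.mem_filter, Finset.mem_range] at hi hj
    exact qq_inj hi.1 hj.1 hij
  · rintro X ⟨hX, hz⟩
    obtain ⟨i, hi, rfl⟩ := exists_qq hX
    refine ⟨i, ?_, rfl⟩
    rw [Finset.mem_coe, Finset.mem_filter, Finset.mem_range, Nat.beq_eq]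
    exact ⟨hi, by rw [← nInt_qq hi]; exact hz⟩

theorem counts {d : Finset Cfsg.GolayPt} (hd : d ∈ Cfsg.dodecads) {Q : Finset (Finset Cfsg.GolayPt)} (hQ : Q ∈ Cfsg.quartets d) (z : ℕ) :
    {X | X ∈ Cfsg.quartets d ∧ nInt 0 X Q = z}.ncard = cntLt 220 (fun i => Nat.beq (qZ i) z) := by
  obtain ⟨k, hk, hkd, hkQ⟩ := norm_quartet' hd hQ
  rw [← count_base]
  apply ncard_fam_transfer k
  intro X
  rw [← hkQ, nInt_smul, mem_quartets_smul hk hkd]

theorem classes {d : Finset Cfsg.GolayPt} (hd : d ∈ Cfsg.dodecads) {Q X : Finset (Finset Cfsg.GolayPt)} (hQ : Q ∈ Cfsg.quartets d) (hX : X ∈ Cfsg.quartets d) :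
    nInt 0 X Q = 12 ∨ nInt 0 X Q = 6 ∨ nInt 0 X Q = 8 ∨ nInt 0 X Q = 7 ∨ nInt 0 X Q = 5 := by
  obtain ⟨k, hk, hkd, hkQ⟩ := norm_quartet' hd hQ
  obtain ⟨i, hi, hiX⟩ := exists_qq ((mem_quartets_smul hk hkd).mpr hX)
  have h1 : nInt 0 X Q = qZ i := by rw [← nInt_qq hi, hiX, ← hkQ, nInt_smul]
  rw [h1]
  have h2 : allLt 220 (fun i => or (Nat.beq (qZ i) 12) (or (Nat.beq (qZ i) 6) (or (Nat.beq (qZ i) 8) (or (Nat.beq (qZ i) 7) (Nat.beq (qZ i) 5))))) = true := by
    decide +kernel
  have h3 := allLt_spec h2 i hi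
  simpa only [Bool.or_eq_true, Nat.beq_eq] using h3

theorem qself {d : Finset Cfsg.GolayPt} (hd : d ∈ Cfsg.dodecads) {Q : Finset (Finset Cfsg.GolayPt)} (hQ : Q ∈ Cfsg.quartets d) : nInt 0 Q Q = 12 := by
  obtain ⟨k, hk, hkd, hkQ⟩ := norm_quartet' hd hQ
  rw [← nInt_smul k, hkQ]
  have e : Q0 = qq 0 := by
    have e : qA 0 = 7 ∧ qB 0 = 0x98 ∧ qC 0 = 0xa020 ∧ qD 0 = 0x70000 := by decide +kernel
    rw [qq, e.1, e.2.1, e.2.2.1, e.2.2.2, Q0_quad]
  conv_lhs => rw [show nInt 0 Q0 Q0 = nInt 0 (qq 0) Q0 by rw [← e]]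
  rw [nInt_qq (by norm_num)]
  decide +kernel

theorem qeq {d : Finset Cfsg.GolayPt} (hd : d ∈ Cfsg.dodecads) {Q X : Finset (Finset Cfsg.GolayPt)} (hQ : Q ∈ Cfsg.quartets d) (hX : X ∈ Cfsg.quartets d)
    (h : nInt 0 X Q = 12) : X = Q := by
  have h1 := counts hd hQ 12
  rw [q_cnt.1, Set.ncard_eq_one] at h1
  obtain ⟨Y, hY⟩ := h1
  have e1 : X ∈ ({Y} : Set (Finset (Finset Cfsg.GolayPt))) := by rw [← hY]; exact ⟨hX, h⟩
  have e2 : Q ∈ ({Y} : Set (Finset (Finset Cfsg.GolayPt))) := by rw [← hY]; exact ⟨hQ, qself hd hQ⟩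
  rw [Set.mem_singleton_iff] at e1 e2
  rw [e1, e2]

theorem aux (d : Finset Cfsg.GolayPt) (hd : d ∈ Cfsg.dodecads) (Q : Finset (Finset Cfsg.GolayPt)) (hQ : Q ∈ Cfsg.quartets d) : ∃ X₁ ∈ Cfsg.quartets d, ∃ X₂ ∈ Cfsg.quartets d, ∃ X₃ ∈ Cfsg.quartets d, ∃ X₄ ∈ Cfsg.quartets d, (MulAction.orbit ↥(MulAction.stabilizer Cfsg.M24 d ⊓ MulAction.stabilizer Cfsg.M24 Q) X₁).ncard = 12 ∧ (MulAction.orbit ↥(MulAction.stabilizer Cfsg.M24 d ⊓ MulAction.stabilizer Cfsg.M24 Q) X₂).ncard = 27 ∧ (MulAction.orbit ↥(MulAction.stabilizer Cfsg.M24 d ⊓ MulAction.stabilizer Cfsg.M24 Q) X₃).ncard = 72 ∧ (MulAction.orbit ↥(MulAction.stabilizer Cfsg.M24 d ⊓ MulAction.stabilizer Cfsg.M24 Q) X₄).ncard = 108 ∧ Cfsg.quartets d = {Q} ∪ MulAction.orbit ↥(MulAction.stabilizer Cfsg.M24 d ⊓ MulAction.stabilizer Cfsg.M24 Q) X₁ ∪ MulAction.orbit ↥(MulAction.stabilizer Cfsg.M24 d ⊓ MulAction.stabilizer Cfsg.M24 Q) X₂ ∪ MulAction.orbit ↥(MulAction.stabilizer Cfsg.M24 d ⊓ MulAction.stabilizer Cfsg.M24 Q) X₃ ∪ MulAction.orbit ↥(MulAction.stabilizer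 Cfsg.M24 d ⊓ MulAction.stabilizer Cfsg.M24 Q) X₄ := by
  obtain ⟨c0, c1, c2, c3, c4⟩ := q_cnt
  rw [← counts hd hQ] at c0 c1 c2 c3 c4
  obtain ⟨X1, hX1, h1⟩ := Set.nonempty_of_ncard_ne_zero (by rw [c1]; norm_num)
  obtain ⟨X2, hX2, h2⟩ := Set.nonempty_of_ncard_ne_zero (by rw [c2]; norm_num)
  obtain ⟨X3, hX3, h3⟩ := Set.nonempty_of_ncard_ne_zero (by rw [c3]; norm_num)
  obtain ⟨X4, hX4, h4⟩ := Set.nonempty_of_ncard_ne_zero (by rw [c4]; norm_num)
  refine ⟨X1, hX1, X2, hX2, X3, hX3, X4, hX4, ?_, ?_, ?_, ?_, ?_⟩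
  · rw [orb hd hQ hX1, h1]; exact c1
  · rw [orb hd hQ hX2, h2]; exact c2
  · rw [orb hd hQ hX3, h3]; exact c3
  · rw [orb hd hQ hX4, h4]; exact c4
  · rw [orb hd hQ hX1, orb hd hQ hX2, orb hd hQ hX3, orb hd hQ hX4, h1, h2, h3, h4]
    ext Y
    simp only [Set.mem_union, Set.mem_singleton_iff, Set.mem_setOf_eq]
    constructor
    · intro hY
      rcases classes hd hQ hY with a | a | a | a | a
      · exact Or.inl (Or.inl (Or.inl (Or.inl (qeq hd hQ hY a))))
      · exact Or.inl (Or.inl (Or.inl (Or.inr ⟨hY, a⟩)))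
      · exact Or.inl (Or.inl (Or.inr ⟨hY, a⟩))
      · exact Or.inl (Or.inr ⟨hY, a⟩)
      · exact Or.inr ⟨hY, a⟩
    · rintro ((((rfl | h) | h) | h) | h)
      · exact hQ
      · exact h.1
      · exact h.1
      · exact h.1
      · exact h.1
end


/-- A quartet stabiliser has five orbits on the quartets of its dodecad, of sizes 1, 12, 27, 72, 108. -/
theorem result (d : Finset Cfsg.GolayPt) (hd : d ∈ Cfsg.dodecads) (Q : Finset (Finset Cfsg.GolayPt)) (hQ : Q ∈ Cfsg.quartets d) : ∃ X₁ ∈ Cfsg.quartets d, ∃ X₂ ∈ Cfsg.quartets d, ∃ X₃ ∈ Cfsg.quartets d, ∃ X₄ ∈ Cfsg.quartets d, (MulAction.orbit ↥(MulAction.stabilizer Cfsg.M24 d ⊓ MulAction.stabilizer Cfsg.M24 Q) X₁).ncard = 12 ∧ (MulAction.orbit ↥(MulAction.stabilizer Cfsg.M24 d ⊓ MulAction.stabilizer Cfsg.M24 Q) X₂).ncard = 27 ∧ (MulAction.orbit ↥(MulAction.stabilizer Cfsg.M24 d ⊓ MulAction.stabilizer Cfsg.M24 Q) X₃).ncard = 72 ∧ (MulAction.orbit ↥(MulAction.stabilizer Cfsg.M24 d ⊓ MulAction.stabilizer Cfsg.M24 Q) X₄).ncard = 108 ∧ Cfsg.quartets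 d = {Q} ∪ MulAction.orbit ↥(MulAction.stabilizer Cfsg.M24 d ⊓ MulAction.stabilizer Cfsg.M24 Q) X₁ ∪ MulAction.orbit ↥(MulAction.stabilizer Cfsg.M24 d ⊓ MulAction.stabilizer Cfsg.M24 Q) X₂ ∪ MulAction.orbit ↥(MulAction.stabilizer Cfsg.M24 d ⊓ MulAction.stabilizer Cfsg.M24 Q) X₃ ∪ MulAction.orbit ↥(MulAction.stabilizer Cfsg.M24 d ⊓ MulAction.stabilizer Cfsg.M24 Q) X₄ := by
  exact aux d hd Q hQ

end Cfsg.Agent.S1599
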