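import Cfsg.Statements.S1683
import Cfsg.Agent.Lib.H5TC7
import Cfsg.Agent.Lib.H5TCHe2058H
import Cfsg.Agent.Lib.H5TCHe2058M
import Cfsg.Agent.Lib.H5TCHe2058O

set_option autoImplicit false
set_option linter.unusedSimpArgs false

namespace Cfsg.Agent.S1683

open Cfsg.Agent.H5TC Cfsg.Agent.H5TC.He2058

abbrev HH : Subgroup Cfsg.Spor.He := (((Subgroup.closure ({Cfsg.Spor.He.a, Cfsg.Spor.He.c, Cfsg.Spor.He.d, Cfsg.Spor.He.e, Cfsg.Spor.He.f, (Cfsg.Spor.He.a * Cfsg.Spor.He.b) ^ 2, (Cfsg.Spor.He.b * Cfsg.Spor.He.c * Cfsg.Spor.He.d * Cfsg.Spor.He.e) ^ 7} : Set (FreeGroup Cfsg.Spor.He.Gen))).map (PresentedGroup.mk (Cfsg.Spor.coxRelators Cfsg.Spor.He.edges ∪ {r | r ∈ Cfsg.Spor.He.extra}))))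

theorem wd5 : (PresentedGroup.mk (Cfsg.Spor.coxRelators Cfsg.Spor.He.edges ∪ {r | r ∈ Cfsg.Spor.He.extra})) ((Cfsg.Spor.He.a * Cfsg.Spor.He.b) ^ 2) = wd HeG.γ [0, 1, 0, 1] := by
  simp only [map_pow, map_mul, pow_succ, pow_zero, one_mul, mul_assoc, wd_cons, wd_nil, mul_one]
  rfl

theorem wd6 : (PresentedGroup.mk (Cfsg.Spor.coxRelators Cfsg.Spor.He.edges ∪ {r | r ∈ Cfsg.Spor.He.extra})) ((Cfsg.Spor.He.b * Cfsg.Spor.He.c * Cfsg.Spor.He.d * Cfsg.Spor.He.e) ^ 7) = wd HeG.γ [1, 2, 3, 4, 1, 2, 3, 4, 1, 2, 3, 4, 1, 2, 3, 4, 1, 2, 3, 4, 1, 2, 3, 4, 1, 2, 3, 4] := by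
  simp only [map_pow, map_mul, pow_succ, pow_zero, one_mul, mul_assoc, wd_cons, wd_nil, mul_one]
  rfl

theorem HH_eq : HH = Subgroup.closure {g | ∃ w ∈ subw, g = wd HeG.γ w} := by
  apply map_closure_eq
  · rintro s (rfl | rfl | rfl | rfl | rfl | rfl | rfl)
    · exact ⟨[0], by simp [subw], by rw [wd_cons, wd_nil, mul_one]; rfl⟩
    · exact ⟨[2], by simp [subw], by rw [wd_cons, wd_nil, mul_one]; rfl⟩
    · exact ⟨[3], by simp [subw], by rw [wd_cons, wd_nil, mul_one]; rfl⟩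
    · exact ⟨[4], by simp [subw], by rw [wd_cons, wd_nil, mul_one]; rfl⟩
    · exact ⟨[5], by simp [subw], by rw [wd_cons, wd_nil, mul_one]; rfl⟩
    · exact ⟨_, by simp [subw], wd5⟩
    · exact ⟨_, by simp [subw], wd6⟩
  · intro w hw
    simp only [subw, List.mem_cons, List.not_mem_nil, or_false] at hw
    rcases hw with rfl | rfl | rfl | rfl | rfl | rfl | rfl
    · exact ⟨Cfsg.Spor.He.a, by simp, by rw [wd_cons, wd_nil, mul_one]; rfl⟩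
    · exact ⟨Cfsg.Spor.He.c, by simp, by rw [wd_cons, wd_nil, mul_one]; rfl⟩
    · exact ⟨Cfsg.Spor.He.d, by simp, by rw [wd_cons, wd_nil, mul_one]; rfl⟩
    · exact ⟨Cfsg.Spor.He.e, by simp, by rw [wd_cons, wd_nil, mul_one]; rfl⟩
    · exact ⟨Cfsg.Spor.He.f, by simp, by rw [wd_cons, wd_nil, mul_one]; rfl⟩
    · exact ⟨_, by simp, wd5⟩
    · exact ⟨_, by simp, wd6⟩

theorem hinv : ∀ y < k, HeG.γ (inv y) = (HeG.γ y)⁻¹ := by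
  intro y hy
  rw [HeG.γ_inv y hy]
  have hy' : y < 7 := hy
  interval_cases y <;> rfl

theorem hr : ∀ r ∈ rels, wd HeG.γ r = 1 := by
  have : rels = HeG.fullrels := by decide +kernel
  rw [this]
  exact HeG.fullrels_spec

theorem subw_lt' : ∀ w ∈ subw, ∀ y ∈ w, y < k := ltOK_spec _ (by decide +kernel)

theorem core : HH.index = 2058 ∧ ∃ φ : Cfsg.Spor.He →* Equiv.Perm {c // Vc E n c}, ∃ p : ℕ → Cfsg.Spor.He ⧸ HH,
    p 0 = ((1 : Cfsg.Spor.He) : Cfsg.Spor.He ⧸ HH) ∧ (∀ y < k, φ (HeG.γ y) = tab.perm y) ∧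
      Function.Bijective (fun c : {c // Vc E n c} => p c) ∧
      ∀ (g : Cfsg.Spor.He) (c : {c // Vc E n c}), p (φ g c : {c // Vc E n c}) = g • p c := by
  obtain ⟨φ, hφ⟩ := hom
  obtain ⟨h1, p, hp0, h2, h3⟩ := full_thm HeG.γ tab (by norm_num) hinv HeG.gen_top φ hφ htree HH subw subw_lt' HH_eq (by decide +kernel)
    (main HeG.γ _ hinv hr (fix_words HeG.γ HH_eq))
  exact ⟨h1, φ, p, hp0, hφ, h2, h3⟩

theorem orb (φ : Cfsg.Spor.He →* Equiv.Perm {c // Vc E n c}) (p : ℕ → Cfsg.Spor.He ⧸ HH)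
    (hφ : ∀ y < k, φ (HeG.γ y) = tab.perm y)
    (h2 : Function.Bijective (fun c : {c // Vc E n c} => p c))
    (h3 : ∀ (g : Cfsg.Spor.He) (c : {c // Vc E n c}), p (φ g c : {c // Vc E n c}) = g • p c)
    (l : ℕ) (hroot : Vc E n (nthN O.roots l)) (hrl : O.Lab (nthN O.roots l) = l) :
    (MulAction.orbit HH (p (nthN O.roots l))) = p '' {c | Vc E n c ∧ O.Lab c = l} ∧
    (MulAction.orbit HH (p (nthN O.roots l))).ncard = {c | Vc E n c ∧ O.Lab c = l}.ncard :=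
  orbit_thm2 HeG.γ tab _ p h2.1 φ hφ h3 HH O.ws O.ws_lt HH_eq O.Lab O.RK O.OD O.OW O.roots O.ws2
    O.ws2_ws O.ws2_lt O.hLab O.hO l hroot hrl

/-- In the presented Held group, let H be the subgroup generated by the images of a, c, d, e, f, (ab)^2 and (bcde)^7. Then H has index 2058, there are four distinct H-orbits on the cosets of H other than H itself, of sizes 136, 136, 425 and 1360. -/
theorem result : (((Subgroup.closure ({Cfsg.Spor.He.a, Cfsg.Spor.He.c, Cfsg.Spor.He.d, Cfsg.Spor.He.e, Cfsg.Spor.He.f, (Cfsg.Spor.He.a * Cfsg.Spor.He.b) ^ 2, (Cfsg.Spor.He.b * Cfsg.Spor.He.c * Cfsg.Spor.He.d * Cfsg.Spor.He.e) ^ 7} : Set (FreeGroup Cfsg.Spor.He.Gen))).map (PresentedGroup.mk (Cfsg.Spor.coxRelators Cfsg.Spor.He.edges ∪ {r | r ∈ Cfsg.Spor.He.extra})))).index = 2058 ∧ ∃ q₁ q₂ q₃ q₄ : Cfsg.Spor.He ⧸ (((Subgroup.closure ({Cfsg.Spor.He.a,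 Cfsg.Spor.He.c, Cfsg.Spor.He.d, Cfsg.Spor.He.e, Cfsg.Spor.He.f, (Cfsg.Spor.He.a * Cfsg.Spor.He.b) ^ 2, (Cfsg.Spor.He.b * Cfsg.Spor.He.c * Cfsg.Spor.He.d * Cfsg.Spor.He.e) ^ 7} : Set (FreeGroup Cfsg.Spor.He.Gen))).map (PresentedGroup.mk (Cfsg.Spor.coxRelators Cfsg.Spor.He.edges ∪ {r | r ∈ Cfsg.Spor.He.extra})))), MulAction.orbit (((Subgroup.closure ({Cfsg.Spor.He.a, Cfsg.Spor.He.c, Cfsg.Spor.He.d, Cfsg.Spor.He.e, Cfsg.Spor.He.f, (Cfsg.Spor.He.a * Cfsg.Spor.He.b) ^ 2, (Cfsg.Spor.He.b * Cfsg.Spor.He.c * Cfsg.Spor.He.d * Cfsg.Spor.He.e) ^ 7} : Set (FreeGroup Cfsg.Spor.He.Gen))).map (PresentedGroup.mk (Cfsg.Spor.coxRelators Cfsg.Spor.He.edges ∪ {r | r ∈ Cfsg.Spor.He.extra})))) q₁ ≠ MulAction.orbit (((Subgroup.closure ({Cfsg.Spor.He.a, Cfsg.Spor.He.c, Cfsg.Spor.He.d, Cfsg.Spor.He.e, Cfsg.Spor.He.f, (Cfsg.Spor.He.a * Cfsg.Spor.He.b)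 ^ 2, (Cfsg.Spor.He.b * Cfsg.Spor.He.c * Cfsg.Spor.He.d * Cfsg.Spor.He.e) ^ 7} : Set (FreeGroup Cfsg.Spor.He.Gen))).map (PresentedGroup.mk (Cfsg.Spor.coxRelators Cfsg.Spor.He.edges ∪ {r | r ∈ Cfsg.Spor.He.extra})))) q₂ ∧ (MulAction.orbit (((Subgroup.closure ({Cfsg.Spor.He.a, Cfsg.Spor.He.c, Cfsg.Spor.He.d, Cfsg.Spor.He.e, Cfsg.Spor.He.f, (Cfsg.Spor.He.a * Cfsg.Spor.He.b) ^ 2, (Cfsg.Spor.He.b * Cfsg.Spor.He.c * Cfsg.Spor.He.d * Cfsg.Spor.He.e) ^ 7} : Set (FreeGroup Cfsg.Spor.He.Gen))).map (PresentedGroup.mk (Cfsg.Spor.coxRelators Cfsg.Spor.He.edges ∪ {r | r ∈ Cfsg.Spor.He.extra})))) q₁).ncard = 136 ∧ (MulAction.orbit (((Subgroup.closure ({Cfsg.Spor.He.a, Cfsg.Spor.He.c, Cfsg.Spor.He.d, Cfsg.Spor.He.e, Cfsg.Spor.He.f, (Cfsg.Spor.He.a * Cfsg.Spor.He.b) ^ 2, (Cfsg.Spor.He.b * Cfsg.Spor.He.c * Cfsg.Spor.He.d * Cfsg.Spor.He.e) ^ 7}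 : Set (FreeGroup Cfsg.Spor.He.Gen))).map (PresentedGroup.mk (Cfsg.Spor.coxRelators Cfsg.Spor.He.edges ∪ {r | r ∈ Cfsg.Spor.He.extra})))) q₂).ncard = 136 ∧ (MulAction.orbit (((Subgroup.closure ({Cfsg.Spor.He.a, Cfsg.Spor.He.c, Cfsg.Spor.He.d, Cfsg.Spor.He.e, Cfsg.Spor.He.f, (Cfsg.Spor.He.a * Cfsg.Spor.He.b) ^ 2, (Cfsg.Spor.He.b * Cfsg.Spor.He.c * Cfsg.Spor.He.d * Cfsg.Spor.He.e) ^ 7} : Set (FreeGroup Cfsg.Spor.He.Gen))).map (PresentedGroup.mk (Cfsg.Spor.coxRelators Cfsg.Spor.He.edges ∪ {r | r ∈ Cfsg.Spor.He.extra})))) q₃).ncard = 425 ∧ (MulAction.orbit (((Subgroup.closure ({Cfsg.Spor.He.a, Cfsg.Spor.He.c, Cfsg.Spor.He.d, Cfsg.Spor.He.e, Cfsg.Spor.He.f, (Cfsg.Spor.He.a * Cfsg.Spor.He.b) ^ 2, (Cfsg.Spor.He.b * Cfsg.Spor.He.c * Cfsg.Spor.He.d * Cfsg.Spor.He.e) ^ 7} : Set (FreeGroup Cfsg.Spor.He.Gen))).map (PresentedGroup.mk (Cfsg.Spor.coxRelators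 Cfsg.Spor.He.edges ∪ {r | r ∈ Cfsg.Spor.He.extra})))) q₄).ncard = 1360 := by
  obtain ⟨h1, φ, p, hp0, hφ, h2, h3⟩ := core
  refine ⟨h1, ?_⟩
  have o1 := orb φ p hφ h2 h3 1 O.root1 O.rlab1
  have o2 := orb φ p hφ h2 h3 2 O.root2 O.rlab2
  have o3 := orb φ p hφ h2 h3 3 O.root3 O.rlab3
  have o4 := orb φ p hφ h2 h3 4 O.root4 O.rlab4
  rw [O.card1] at o1
  rw [O.card2] at o2
  rw [O.card3] at o3
  rw [O.card4] at o4
  refine ⟨p (nthN O.roots 3), p (nthN O.roots 4), p (nthN O.roots 2), p (nthN O.roots 1), ?_, o3.2, o4.2, o2.2, o1.2⟩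
  intro he
  have hm : p (nthN O.roots 3) ∈ p '' {c | Vc E n c ∧ O.Lab c = 4} := by
    have hm0 := MulAction.mem_orbit_self (M := HH) (p (nthN O.roots 3))
    rw [he] at hm0
    exact o4.1 ▸ hm0
  obtain ⟨c, ⟨hc, hl⟩, hpc⟩ := hm
  have hinj := h2.1 (a₁ := ⟨c, hc⟩) (a₂ := ⟨_, O.root3⟩) hpc
  have : c = nthN O.roots 3 := congrArg Subtype.val hinj
  rw [this, O.rlab3] at hl
  exact absurd hl (by norm_num)

end Cfsg.Agent.S1683
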