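import Cfsg.Statements.S1939

set_option autoImplicit false
open Cfsg

namespace Cfsg.Agent.S1939

/-- Let S be a Sylow p-subgroup of the finite group G and a an element of S that is the only G-conjugate of a lying in S. Then every power of a has the same property: for every n, the only G-conjugate of a^n lying in S is a^n. -/
theorem result {G : Type*} [Group G] [Finite G] {p : ℕ} [Fact p.Prime] (S : Sylow p G) (a : G)
    (haS : a ∈ (S : Subgroup G)) (hwc : ∀ g : G, g * a * g⁻¹ ∈ (S : Subgroup G) → g * a * g⁻¹ = a) (n : ℕ) :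
    ∀ g : G, g * a ^ n * g⁻¹ ∈ (S : Subgroup G) → g * a ^ n * g⁻¹ = a ^ n := by
  intro g hg
  -- a is central in S
  have haZ : ∀ s ∈ (S : Subgroup G), s * a * s⁻¹ = a := fun s hs =>
    hwc s ((S : Subgroup G).mul_mem ((S : Subgroup G).mul_mem hs haS) ((S : Subgroup G).inv_mem hs))
  set y := g * a ^ n * g⁻¹ with hy
  set C : Subgroup G := Subgroup.centralizer ({y} : Set G) with hC
  have haC : a ∈ C := by
    rw [hC, Subgroup.mem_centralizer_singleton_iff]
    have := haZ y hg
    calc a * y = (y * a * y⁻¹) * y := by rw [this]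
      _ = y * a := by group
  have hgC : g * a * g⁻¹ ∈ C := by
    rw [hC, Subgroup.mem_centralizer_singleton_iff, hy]
    have : a * a ^ n = a ^ n * a := (pow_succ' a n).symm.trans (pow_succ a n)
    calc g * a * g⁻¹ * (g * a ^ n * g⁻¹) = g * (a * a ^ n) * g⁻¹ := by group
      _ = g * (a ^ n * a) * g⁻¹ := by rw [this]
      _ = _ := by group
  obtain ⟨k, hk⟩ := (IsPGroup.iff_orderOf.mp S.isPGroup') ⟨a, haS⟩
  have hk' : orderOf a = p ^ k := by rw [← hk]; simp
  have hp1 : IsPGroup p (Subgroup.zpowers (⟨a, haC⟩ : C)) := by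
    rw [IsPGroup.iff_card]
    exact ⟨k, by rw [Nat.card_zpowers, Subgroup.orderOf_mk, hk']⟩
  have hp2 : IsPGroup p (Subgroup.zpowers (⟨g * a * g⁻¹, hgC⟩ : C)) := by
    rw [IsPGroup.iff_card]
    refine ⟨k, ?_⟩
    rw [Nat.card_zpowers, Subgroup.orderOf_mk, ← hk']
    exact orderOf_injective (MulAut.conj g).toMonoidHom (MulAut.conj g).injective a
  obtain ⟨R₁, hR₁⟩ := hp1.exists_le_sylow
  obtain ⟨R₂, hR₂⟩ := hp2.exists_le_sylow
  obtain ⟨c, hc⟩ := MulAction.exists_smul_eq C R₂ R₁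
  have hR₁p : IsPGroup p ((R₁ : Subgroup C).map C.subtype) := R₁.isPGroup'.map _
  obtain ⟨S', hS'⟩ := hR₁p.exists_le_sylow
  obtain ⟨h, hh⟩ := MulAction.exists_smul_eq G S' S
  have e1 : ∀ x : C, x ∈ (R₁ : Subgroup C) → h * (x : G) * h⁻¹ ∈ (S : Subgroup G) := by
    intro x hx
    have h1 : (x : G) ∈ (S' : Subgroup G) := hS' ⟨x, hx, rfl⟩
    rw [← hh]
    rw [Sylow.coe_subgroup_smul, Subgroup.mem_pointwise_smul_iff_inv_smul_mem]
    simp only [← map_inv, MulAut.smul_def, MulAut.conj_apply, inv_inv]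
    convert h1 using 1; group
  have f1 := hwc h (by simpa using e1 ⟨a, haC⟩ (hR₁ (Subgroup.mem_zpowers _)))
  have hmem : c * ⟨g * a * g⁻¹, hgC⟩ * c⁻¹ ∈ (R₁ : Subgroup C) := by
    rw [← hc, Sylow.coe_subgroup_smul, Subgroup.mem_pointwise_smul_iff_inv_smul_mem]
    simp only [← map_inv, MulAut.smul_def, MulAut.conj_apply, inv_inv]
    convert hR₂ (Subgroup.mem_zpowers _) using 1; group
  have f2 := e1 _ hmem
  have f3 := hwc (h * c * g) (by convert f2 using 1; push_cast; group)
  have hcy : (c : G) * y = y * c := Subgroup.mem_centralizer_singleton_iff.mp c.2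
  -- h centralizes a, h c g centralizes a
  have g1 : h⁻¹ * a * h = a := by
    calc h⁻¹ * a * h = h⁻¹ * (h * a * h⁻¹) * h := by rw [f1]
      _ = a := by group
  have g2 : (c * g) * a * (c * g)⁻¹ = a := by
    calc (c * g) * a * (c * g)⁻¹ = h⁻¹ * (h * c * g * a * (h * c * g)⁻¹) * h := by group
      _ = a := by rw [f3, g1]
  have g3 : (c * g) * a ^ n * (c * g)⁻¹ = a ^ n := by rw [← conj_pow, g2]
  calc y = (c : G)⁻¹ * (c * y) := by group
    _ = (c : G)⁻¹ * (y * c) := by rw [hcy]
    _ = (c : G)⁻¹ * y * c := by group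
    _ = a ^ n := by
      have : y = c * y * (c : G)⁻¹ := by rw [hcy]; group
      have e : c * y * (c : G)⁻¹ = a ^ n := by rw [← g3, hy]; group
      rw [e] at this
      have h4 : (c : G)⁻¹ * y * c = y := by
        calc (c : G)⁻¹ * y * c = (c : G)⁻¹ * (y * c) := by group
          _ = (c : G)⁻¹ * (c * y) := by rw [hcy]
          _ = y := by group
      rw [h4, this]

end Cfsg.Agent.S1939
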