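import Cfsg.Statements.S2060
import Cfsg.Agent.Lib.GolayOutI
import Cfsg.Agent.Lib.GolayDod

set_option autoImplicit false
open Cfsg

open scoped Pointwise
namespace Cfsg.Agent.S2060

section
open Cfsg CfsgLib.Golay
open scoped Pointwise
def T : ℕ := 0x2be955ca26b39a49a9093c2ec18440
def ops : List (ℕ × ℕ × ℕ) := [(1, 1, 0xbcdeb38ed2728c2ac5a92869062080), (2, 1, 0x51e33b356ca94687d212726e130880), (1, 3, 0xbbcf671aad2d1849ac7250a290c100), (2, 3, 0xa396fa8ec19a8d03c52d2cae261100), (1, 5, 0xb9dd52b263544287d8cda117212600), (1, 6, 0xa2eb6998e92dd8873c615422d90880), (1, 7, 0xbb8b3505e6a2c503d5838a2cd24920), (1, 7, 0x896d5718f05dd8d9bc235268891040), (8, 9, 0x2d171b36683dc627d6467114983020), (10, 9, 0x51e33b356ca94687d212726e130880), (8, 0, 0xa397638de88dcd2acd8d2c14448820), (0, 0, 0xb5eae2a62d7d20359e465226460820), (0, 1, 0x75177531e68d909a94709b4e490820), (4, 14, 0x2aed338df272a01a45a8b8aa622580), (15, 0, 0x55aaf718ed2d1228ac70b926c44820),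 (6, 0, 0xad167b91c35464c9be082a6c233420), (0, 7, 0xb1e6ea4ae82d4cd52c89889f01b020), (0, 8, 0x7b95739a898d86c2ce42ac16443420), (1, 3, 0x59e65a8a267b88cba868b428d4c820), (1, 10, 0x5dcb470ce2abd0d8a8d0b12724b020), (2, 5, 0x9b951b42a35de4da1509790ec11820), (2, 12, 0xa16f1392a8b2d327cc507354333020), (1, 13, 0x3c69574ac97cc465aa04bb0a81b420), (13, 9, 0xbbcf671aad2d1849ac7250a290c100), (18, 0, 0xa154bbc2ac8d90d9ba46788e322420), (3, 0, 0x8aa6fa22f2a96093ac8db31c618820), (0, 0, 0xbae957b6289ba44b1cd0524ac18820), (0, 1, 0x89df3ac2eda150655992591c918820), (4, 14, 0x8cdee504a6a2da8b5592bc0e248c80), (27, 0, 0x5daa5a12e99bc723c50d531c281820), (13, 0, 0x51e6f742c4a14728dd265b6ac40820), (19, 0, 0x3a8afa36e474d898da485c2a330820), (1, 21, 0x796275a286b29b09ba43a92ec48820), (2, 2, 0xbadd4290ec7d510b292d88e7230820), (2, 3, 0xb2e8e991437d4cdb9e508b0a940820), (35, 36, 0x2d171b36683dc627d6467114983020), (27, 0, 0x545f3a0ec67160c3ada4ba6b240820), (4, 0, 0x752cb3a4a455cd0acdac7ca2818820),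 (12, 0, 0x2bd47b11c65c5929d209aa2ed18820), (12, 1, 0x75576518ac3dd28a3e449b63018820), (12, 2, 0x2ccea5b1c9b448d7d506a42f218820)]
def ch : List (ℕ × List (ℕ × ℕ)) := [(1, [(1, 0xbdab49ca307b9ac5a928398a418820), (2, 0x2be955ca26b39a49a9093c2ec18440), (3, 0xbbcf671aad2d1849ac7250a290c100), (4, 0x51e33b356ca94687d212726e130880), (6, 0xbcdeb38ed2728c2ac5a92869062080), (8, 0xa2eb6998e92dd8873c615422d90880), (9, 0x896d5718f05dd8d9bc235268891040), (12, 0xbd6717b56939461b52507314831040), (13, 0xb9dd52b263544287d8cda117212600), (16, 0xa396fa8ec19a8d03c52d2cae261100), (18, 0xbb8b3505e6a2c503d5838a2cd24920)]), (2, [(2, 0xbdab49ca307b9ac5a928398a418820), (3, 0x9b951b42a35de4da1509790ec11820), (4, 0xad167b91c35464c9be082a6c233420), (6, 0xb1e6ea4ae82d4cd52c89889f01b020), (8, 0x7b95739a898d86c2ce42ac16443420), (9, 0xa16f1392a8b2d327cc507354333020), (12, 0x2d171b36683dc627d6467114983020), (13, 0x3c69574ac97cc465aa04bb0a81b420), (16, 0x5dcb470ce2abd0d8a8d0b12724b020),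 (18, 0x59e65a8a267b88cba868b428d4c820)]), (3, [(3, 0xbdab49ca307b9ac5a928398a418820), (4, 0x3a8afa36e474d898da485c2a330820), (6, 0xbadd4290ec7d510b292d88e7230820), (8, 0x796275a286b29b09ba43a92ec48820), (9, 0x75177531e68d909a94709b4e490820), (12, 0xb5eae2a62d7d20359e465226460820), (13, 0x51e6f742c4a14728dd265b6ac40820), (16, 0xb2e8e991437d4cdb9e508b0a940820), (18, 0xa397638de88dcd2acd8d2c14448820)]), (4, [(4, 0xbdab49ca307b9ac5a928398a418820), (6, 0x89df3ac2eda150655992591c918820), (8, 0x75576518ac3dd28a3e449b63018820), (9, 0x8aa6fa22f2a96093ac8db31c618820), (12, 0xbae957b6289ba44b1cd0524ac18820), (13, 0x2ccea5b1c9b448d7d506a42f218820), (16, 0x752cb3a4a455cd0acdac7ca2818820), (18, 0x2bd47b11c65c5929d209aa2ed18820)])]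
def rels : List (List ℕ × ℕ) := [([1, 6, 4], 2)]
def sol : List (ℕ × ℕ) := [(1, 0x2be955ca26b39a49a9093c2ec18440)]
def memB (P : ℕ) : Bool := and (Nat.beq (img P 0) 0) (Nat.beq (act P 0x5335f) 0x5335f)
theorem goodT : good T = true := by decide +kernel
theorem memT : memB T = true := by decide +kernel
theorem memX : memB (XL11.getD 1 0) = true := by decide +kernel
theorem memY : memB Y11 = true := by decide +kernel
theorem slp : slpB [T, XL11.getD 1 0, idP] ops = true := by decide +kernel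
theorem chn : chainB (slpA [T, XL11.getD 1 0, idP] ops) [] ch = true := by decide +kernel
theorem relT : (rels.all fun r => relB XL11 11 1 T r) = true := by decide +kernel
theorem slv : solB memB XL11 11 cand11 rels sol = true := by decide +kernel
theorem sqD : Spor.squareDodecad = toFS 0x5335f := by
  rw [Spor.squareDodecad, support₂_qrWord]
  rfl
theorem mem_iff {P : ℕ} {g : Equiv.Perm GolayPt} (hg : g ∈ M24) (hP : Packs P g) : g ∈ Spor.M11 ↔ memB P = true := by
  have h0 : (some 0 : GolayPt) = pt 0 := by decide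
  have e : g ∈ Spor.M11 ↔ g ∈ M24 ∧ g • Spor.squareDodecad = Spor.squareDodecad ∧ g (some 0) = some 0 := by
    constructor
    · rintro ⟨⟨a, b⟩, c⟩; exact ⟨a, b, c⟩
    · rintro ⟨a, b, c⟩; exact ⟨⟨a, b⟩, c⟩
  rw [e, sqD, smul_toFS_iff hP (by norm_num) (by norm_num), memB, Bool.and_eq_true, Nat.beq_eq, Nat.beq_eq, h0]
  constructor
  · rintro ⟨-, h1, h2⟩
    refine ⟨?_, h1⟩
    have h3 := hP (pt 0)
    rw [h2, idx_pt (by norm_num)] at h3
    exact h3.symm
  · rintro ⟨h1, h2⟩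
    exact ⟨hg, h2, hP.apply (by norm_num) h1⟩
theorem cardG : Nat.card Spor.M11 = 7920 := by
  have e : Spor.M11 = PSd Spor.squareDodecad [pt 0] := by
    have h0 : (some 0 : GolayPt) = pt 0 := by decide
    ext g
    rw [mem_PSd]
    constructor
    · rintro ⟨⟨a, b⟩, c⟩
      refine ⟨a, b, fun p hp => ?_⟩
      rw [List.mem_singleton] at hp
      rw [hp, ← h0]; exact c
    · rintro ⟨a, b, c⟩
      exact ⟨⟨a, b⟩, by show g (some 0) = some 0; rw [h0]; exact c _ (List.mem_singleton_self _)⟩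
  rw [e]
  apply card_PSd_one Cfsg.Agent.S5522.sqD
  rw [sqD, mem_toFS]; decide
theorem cardG' : Nat.card Spor.M11 = chainN ch := by
  rw [cardG]; decide +kernel
end


/-- The outer automorphism group of the Mathieu group M₁₁ (the stabiliser of a dodecad and one of its points in the automorphism group of the length-24 binary code) is trivial: every automorphism is inner. -/
theorem result : Nat.card (Cfsg.Out ↥Cfsg.Spor.M11) = 1 := by
  classical
  have hle : Cfsg.Spor.M11 ≤ Cfsg.M24 := fun g hg => hg.1.1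
  obtain ⟨x, hx, hxP⟩ := CfsgLib.Golay.exists_of_good CfsgLib.Golay.good11
  obtain ⟨y, hy, hyP⟩ := CfsgLib.Golay.exists_of_good CfsgLib.Golay.goodY11
  obtain ⟨t, ht, htP⟩ := CfsgLib.Golay.exists_of_good goodT
  have hx' := (mem_iff hx hxP).mpr memX
  have hy' := (mem_iff hy hyP).mpr memY
  have ht' := (mem_iff ht htP).mpr memT
  have hxo : orderOf (⟨x, hx'⟩ : Cfsg.Spor.M11) = 11 := by
    rw [← Subgroup.orderOf_coe]
    exact CfsgLib.Golay.orderOf_packs (by norm_num) hxP (by decide +kernel) (by decide +kernel)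
  have hto : orderOf (⟨t, ht'⟩ : Cfsg.Spor.M11) = 2 := by
    rw [← Subgroup.orderOf_coe]
    exact CfsgLib.Golay.orderOf_packs (by norm_num) htP (by decide +kernel) (by decide +kernel)
  have hyx : (⟨y, hy'⟩ : Cfsg.Spor.M11) * ⟨x, hx'⟩ * (⟨y, hy'⟩)⁻¹ = (⟨x, hx'⟩ : Cfsg.Spor.M11) ^ 3 :=
    Subtype.ext (CfsgLib.Golay.conjB_spec CfsgLib.Golay.conjY11 hyP hxP (CfsgLib.Golay.powL_spec CfsgLib.Golay.pow11 hxP 3 (by norm_num)))
  have hgen := CfsgLib.Golay.gen_top (G := Cfsg.Spor.M11) (x := ⟨x, hx'⟩) (t := ⟨t, ht'⟩) hxP htP slp chn cardG'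
  apply CfsgLib.Golay.out_eq_one
  intro φ
  have hφ := CfsgLib.Golay.octad_of_fix hle (some 0) (fun g hg => hg.2) hto φ
  obtain ⟨g, kT, hkT, h1, h2⟩ := CfsgLib.Golay.aut_solve hle (by norm_num : Nat.Prime 11) (by rw [cardG]; norm_num) hxo hyx
    CfsgLib.Golay.hs11 hxP CfsgLib.Golay.pow11 CfsgLib.Golay.len11 htP (mem := memB)
    (fun P g hg hP => (mem_iff (hle hg) hP).mp hg) CfsgLib.Golay.cov11 CfsgLib.Golay.ok11 relT slv φ hφ
  simp only [sol, List.mem_singleton] at hkT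
  subst hkT
  refine CfsgLib.Golay.inner_of_fix hgen φ g ?_ ?_
  · rw [h1, pow_one]
  · apply Subtype.ext
    exact h2.eq htP

end Cfsg.Agent.S2060
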