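import Cfsg.Statements.S5620
import Cfsg.Agent.Lib.GolaySg2

set_option autoImplicit false
open scoped Pointwise
open Cfsg

open scoped Pointwise
namespace Cfsg.Agent.S5620

section
open CfsgLib.Golay
open scoped Pointwise

theorem sq_dod : Cfsg.Spor.squareDodecad ∈ Cfsg.dodecads := by
  unfold Cfsg.Spor.squareDodecad
  rw [support₂_qrWord, mem_dodecads_iff]
  rw [mask_toFS (qm_isCode 0).2]
  decide +kernel

theorem zero_mem : (some 0 : Cfsg.GolayPt) ∈ Cfsg.Spor.squareDodecad := by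
  unfold Cfsg.Spor.squareDodecad
  rw [support₂_qrWord, mem_toFS]
  decide +kernel

theorem none_not_mem : (none : Cfsg.GolayPt) ∉ Cfsg.Spor.squareDodecad := by
  unfold Cfsg.Spor.squareDodecad
  rw [support₂_qrWord, mem_toFS]
  decide +kernel

theorem mem_M12 {g : Equiv.Perm Cfsg.GolayPt} : g ∈ Cfsg.Spor.M12 ↔ g ∈ Cfsg.M24 ∧ g • Cfsg.Spor.squareDodecad = Cfsg.Spor.squareDodecad := by
  unfold Cfsg.Spor.M12
  rw [Subgroup.mem_inf]
  exact and_congr Iff.rfl MulAction.mem_stabilizer_iff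

theorem mem_M11 {g : Equiv.Perm Cfsg.GolayPt} : g ∈ Cfsg.Spor.M11 ↔ g ∈ Cfsg.M24 ∧ g • Cfsg.Spor.squareDodecad = Cfsg.Spor.squareDodecad ∧ g (some 0) = some 0 := by
  unfold Cfsg.Spor.M11
  rw [Subgroup.mem_inf, mem_M12, and_assoc]
  exact and_congr Iff.rfl (and_congr Iff.rfl MulAction.mem_stabilizer_iff)

theorem mem_M11' {g : Equiv.Perm Cfsg.GolayPt} : g ∈ Cfsg.Spor.M12 ⊓ MulAction.stabilizer (Equiv.Perm Cfsg.GolayPt) (none : Cfsg.GolayPt) ↔ g ∈ Cfsg.M24 ∧ g • Cfsg.Spor.squareDodecad = Cfsg.Spor.squareDodecad ∧ g none = none := by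
  rw [Subgroup.mem_inf, mem_M12, and_assoc]
  exact and_congr Iff.rfl (and_congr Iff.rfl MulAction.mem_stabilizer_iff)

end


/-- Inside the stabiliser of the dodecad of squares (a Mathieu group of degree 12), the stabiliser of the residue 0 (a point of the dodecad) and the stabiliser of the extra point (a point outside the dodecad) are isomorphic but not conjugate; conjugation by a suitable element of the code's group that maps the dodecad of squares onto its complement carries the first onto the second. -/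
theorem result : Nonempty (↥(Cfsg.Spor.M12 ⊓ MulAction.stabilizer (Equiv.Perm Cfsg.GolayPt) (none : Cfsg.GolayPt)) ≃* ↥Cfsg.Spor.M11) ∧ (¬ ∃ k ∈ Cfsg.Spor.M12, MulAut.conj k • Cfsg.Spor.M11 = Cfsg.Spor.M12 ⊓ MulAction.stabilizer (Equiv.Perm Cfsg.GolayPt) (none : Cfsg.GolayPt)) ∧ ∃ g ∈ Cfsg.M24, g • Cfsg.Spor.squareDodecad = Finset.univ \ Cfsg.Spor.squareDodecad ∧ MulAut.conj g • Cfsg.Spor.M11 = Cfsg.Spor.M12 ⊓ MulAction.stabilizer (Equiv.Perm Cfsg.GolayPt) (none : Cfsg.GolayPt) := by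
  obtain ⟨g, hg, hgd, hgl⟩ := CfsgLib.Golay.dod_trans (d := Cfsg.Spor.squareDodecad) (d' := Cfsg.Spor.squareDodecadᶜ) sq_dod
    (CfsgLib.Golay.compl_mem_dodecads sq_dod) (l := [some 0]) (l' := [none]) (by simp) (by simp) (by simpa using zero_mem)
    (by simpa using none_not_mem) rfl (by simp)
  have hg0 : g (some 0) = none := by simpa using hgl
  have hgi : g⁻¹ none = some 0 := by rw [← hg0]; exact g.symm_apply_apply _
  have hgc : g • Cfsg.Spor.squareDodecadᶜ = Cfsg.Spor.squareDodecad := by rw [CfsgLib.Golay.smul_compl, hgd, compl_compl]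
  have hgi1 : g⁻¹ • Cfsg.Spor.squareDodecad = Cfsg.Spor.squareDodecadᶜ := by rw [← hgc, inv_smul_smul, hgc]
  have hgi2 : g⁻¹ • Cfsg.Spor.squareDodecadᶜ = Cfsg.Spor.squareDodecad := by
    rw [CfsgLib.Golay.smul_compl, hgi1, compl_compl]
  have hconj : MulAut.conj g • Cfsg.Spor.M11 = Cfsg.Spor.M12 ⊓ MulAction.stabilizer (Equiv.Perm Cfsg.GolayPt) (none : Cfsg.GolayPt) := by
    ext x
    rw [Subgroup.mem_pointwise_smul_iff_inv_smul_mem, ← map_inv, MulAut.smul_def, MulAut.conj_apply, inv_inv, mem_M11, mem_M11']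
    constructor
    · rintro ⟨h1, h2, h3⟩
      have e : x = g * (g⁻¹ * x * g) * g⁻¹ := by group
      refine ⟨?_, ?_, ?_⟩
      · rw [e]; exact Cfsg.M24.mul_mem (Cfsg.M24.mul_mem hg h1) (Cfsg.M24.inv_mem hg)
      · rw [e, mul_smul, mul_smul, hgi1, CfsgLib.Golay.smul_compl, h2, hgc]
      · rw [e, Equiv.Perm.mul_apply, Equiv.Perm.mul_apply, hgi, h3, hg0]
    · rintro ⟨h1, h2, h3⟩
      refine ⟨Cfsg.M24.mul_mem (Cfsg.M24.mul_mem (Cfsg.M24.inv_mem hg) h1) hg, ?_, ?_⟩
      · rw [mul_smul, mul_smul, hgd, CfsgLib.Golay.smul_compl, h2, hgi2]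
      · rw [Equiv.Perm.mul_apply, Equiv.Perm.mul_apply, hg0, h3, hgi]
  refine ⟨?_, ?_, g, hg, ?_, hconj⟩
  · rw [← hconj]
    exact ⟨(Subgroup.equivSMul (MulAut.conj g) Cfsg.Spor.M11).symm⟩
  · rintro ⟨k, hk, hkc⟩
    -- the conjugate fixes `k 0`, but the stabilizer of `none` is transitive on the dodecad
    have h1 := mem_M12.mp hk
    have hk0 : k (some 0) ∈ Cfsg.Spor.squareDodecad := by
      have h2 : k (some 0) ∈ k • Cfsg.Spor.squareDodecad := CfsgLib.Golay.mem_smul_iff.mpr zero_mem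
      rwa [h1.2] at h2
    obtain ⟨q, hq, hqk⟩ : ∃ q ∈ Cfsg.Spor.squareDodecad, q ≠ k (some 0) := by
      have h12 : Cfsg.Spor.squareDodecad.card = 12 := (CfsgLib.Golay.mem_dodecads_iff.mp sq_dod).2 ▸ CfsgLib.Golay.card_eq_pop _
      exact Finset.exists_mem_ne (by rw [h12]; norm_num) _
    obtain ⟨l, hl, h3l, hld⟩ := CfsgLib.Golay.exists_list_of_le_card (s := Cfsg.Spor.squareDodecad \ {q, k (some 0)}) (n := 1) (by
      have h12 : Cfsg.Spor.squareDodecad.card = 12 := (CfsgLib.Golay.mem_dodecads_iff.mp sq_dod).2 ▸ CfsgLib.Golay.card_eq_pop _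
      have h13 := Finset.le_card_sdiff {q, k (some 0)} Cfsg.Spor.squareDodecad
      have h14 : ({q, k (some 0)} : Finset Cfsg.GolayPt).card ≤ 2 := Finset.card_le_two
      omega)
    match l, h3l with
    | [r], _ =>
      have hr := hld r (by simp)
      rw [Finset.mem_sdiff, Finset.mem_insert, Finset.mem_singleton, not_or] at hr
      obtain ⟨f, hf, hfd, hf1, hf2, hf3, hf4⟩ := CfsgLib.Golay.dod_trans3 sq_dod sq_dod hk0 hq hr.1 (by
        simp only [List.nodup_cons, List.mem_cons, List.not_mem_nil, or_false, not_or, not_false_iff, and_true, List.nodup_nil]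
        exact ⟨⟨hqk.symm, fun h => hr.2.2 h.symm⟩, fun h => hr.2.1 h.symm⟩) none_not_mem hq hk0 hr.1 (by
        simp only [List.nodup_cons, List.mem_cons, List.not_mem_nil, or_false, not_or, not_false_iff, and_true, List.nodup_nil]
        exact ⟨⟨hqk, fun h => hr.2.1 h.symm⟩, fun h => hr.2.2 h.symm⟩) none_not_mem
      have h3 : f ∈ Cfsg.Spor.M12 ⊓ MulAction.stabilizer (Equiv.Perm Cfsg.GolayPt) (none : Cfsg.GolayPt) := mem_M11'.mpr ⟨hf, hfd, hf4⟩
      rw [← hkc, Subgroup.mem_pointwise_smul_iff_inv_smul_mem, ← map_inv, MulAut.smul_def, MulAut.conj_apply, inv_inv, mem_M11] at h3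
      have h4 := h3.2.2
      rw [Equiv.Perm.mul_apply, Equiv.Perm.mul_apply, hf1] at h4
      apply hqk
      rw [← CfsgLib.Golay.app_inv k q, h4]
  · rw [hgd]; ext x; simp

end Cfsg.Agent.S5620
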