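import Cfsg.Statements.S2061
import Cfsg.Agent.Lib.GolayOutI
import Cfsg.Agent.Lib.GolayM
import Cfsg.Agent.Lib.GolayDod
import Cfsg.Agent.S5620

set_option autoImplicit false
open Cfsg

open scoped Pointwise
namespace Cfsg.Agent.S2061

section
open Cfsg CfsgLib.Golay
open scoped Pointwise
def T : ℕ := 0xb5cf15a2907b8069a872ab0a44882d
def ops : List (ℕ × ℕ × ℕ) := [(0, 1, 0xb1d7478263a9521bc510719526104d), (0, 2, 0xb2df3aa6e8729823d003286303488d), (1, 2, 0x3d9d3bc283a95a67c5805855241049), (1, 4, 0xb3eb7730e02c4c45cd2850a830c24d), (2, 4, 0x5d8b738e68729a1ad0c978a300488c), (2, 6, 0x3baf4ab5ec5a902b4e0329a200c889), (0, 7, 0x3deaf5a2d02c424751ac50a6330249), (0, 8, 0x3d576285cd54cd2bbd108928c10c09), (0, 9, 0x3acae51ae88d040ad82d9c9f023069), (0, 10, 0x3955788aa19bc835b8c8a02cd94189), (10, 11, 0xb1d7478263a9521bc510719526104d), (11, 0, 0xbd6717b56939461b52507314831040), (0, 0, 0xbcdeb38ed2728c2ac5a92869062080), (0, 1, 0xbbcf671aad2d1849ac7250a290c100),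 (0, 2, 0xb9dd52b263544287d8cda117212600), (0, 3, 0xbb8b3505e6a2c503d5838a2cd24920), (0, 4, 0xb954fa08ec8d88974c265c2a343640), (0, 5, 0xbaa87891c15d5122bc4cb266680da0), (0, 6, 0xbd22e5a0a2b4e0d51c81ac9ec49860), (0, 7, 0xbc565b4144abd23a39029b4e1930c0), (0, 8, 0xbaecaaa68899e468960478dc268580), (22, 10, 0xabad1381e69aa42bae092b28d0a083), (17, 0, 0x2aad37b1c23d0725d506886ed22600), (5, 0, 0x9bd515caa3b1e042d189736e830820), (0, 0, 0x5da952c9467b868bc48c3c26968820), (0, 1, 0x2be2abca8db1cc99d50470d6c80820), (15, 4, 0x594f3736a67c404b5c68506891424c), (18, 0, 0xabe6aa08b28dd3059c8db0dc1620c0), (15, 0, 0x7b8f15a283b5db2a96069b14412420), (0, 0, 0xb5e74a9a2273da83a86c5c8a44c020), (0, 1, 0x73d713b289bd9a699452aa14480c20), (9, 4, 0xbd0a754acc9bc6d754295923041802), (25, 0, 0x3be6aa22e4594c18d64d70ed060920), (16, 0, 0x5c69379ae3756123a844b20ac4b420), (4, 0, 0x3c69574ac97cc465aa04bb0a81b420), (36, 8, 0xb29cf28e6c3ac08adcd0a0a32225a1), (4,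 0, 0xa55f38a14d5b8492dc8c39ad280460), (23, 0, 0xb1caeac96c9d2038dd24509e66a020), (9, 0, 0x74d573a2b25c462a3e042a6cc69820), (1, 10, 0x9d14b891cd3da122bd82a8ee642420), (2, 6, 0x8add598acda159255d06391e34c020), (3, 3, 0x3a9f42ca23ab98d5d926ba26281020), (42, 6, 0xba9cf2a566acdb23d99088a8820c01), (35, 0, 0x3be6aa22e4594c18d64d70ed060920), (27, 0, 0x5c69379ae3756123a844b20ac4b420), (10, 0, 0x5daae7b0e39d132ba9a8890a680820), (22, 0, 0x2bd47b11c65c5929d209aa2ed18820), (0, 0, 0xbae957b6289ba44b1cd0524ac18820), (0, 1, 0x2ccea5b1c9b448d7d506a42f218820), (13, 6, 0xb5d6789aa271403a290c9a5f09102d), (50, 0, 0xbda75a30e2715a98aa4658df041020), (9, 0, 0x3a8afa36e474d898da485c2a330820), (26, 0, 0x75576518ac3dd28a3e449b63018820), (6, 0, 0x8aa6fa22f2a96093ac8db31c618820), (6, 1, 0x752cb3a4a455cd0acdac7ca2818820), (6, 2, 0x89df3ac2eda150655992591c918820), (6, 6, 0xbda93aa5642bdb23a9838a1c234020), (27, 0, 0xb5e9598ce42b9a65a9098b1f090820), (34, 0,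 0x7ce2a599c8b9e0d2d12ca92c390820), (33, 1, 0x79551bc1cc59cc39d488a26cd90820), (0, 36, 0xbaeae9c1522d18db4464399e848820), (0, 37, 0x9962ab42a959e487b9a3a32e430820)]
def ch : List (ℕ × List (ℕ × ℕ)) := [(0, [(0, 0xbdab49ca307b9ac5a928398a418820), (1, 0x3d576285cd54cd2bbd108928c10c09), (2, 0x3deaf5a2d02c424751ac50a6330249), (3, 0x5d8b738e68729a1ad0c978a300488c), (4, 0x3baf4ab5ec5a902b4e0329a200c889), (6, 0x3955788aa19bc835b8c8a02cd94189), (8, 0x3d9d3bc283a95a67c5805855241049), (9, 0xb2df3aa6e8729823d003286303488d), (12, 0x3acae51ae88d040ad82d9c9f023069), (13, 0xb5cf15a2907b8069a872ab0a44882d), (16, 0xb3eb7730e02c4c45cd2850a830c24d), (18, 0xb1d7478263a9521bc510719526104d)]), (1, [(1, 0xbdab49ca307b9ac5a928398a418820), (2, 0xbaecaaa68899e468960478dc268580), (3, 0xbbcf671aad2d1849ac7250a290c100), (4, 0xbc565b4144abd23a39029b4e1930c0), (6, 0xbcdeb38ed2728c2ac5a92869062080), (8, 0xbd22e5a0a2b4e0d51c81ac9ec49860), (9, 0xb954fa08ec8d88974c265c2a343640),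 (12, 0xbd6717b56939461b52507314831040), (13, 0xb9dd52b263544287d8cda117212600), (16, 0xbaa87891c15d5122bc4cb266680da0), (18, 0xbb8b3505e6a2c503d5838a2cd24920)]), (2, [(2, 0xbdab49ca307b9ac5a928398a418820), (3, 0x7b8f15a283b5db2a96069b14412420), (4, 0x3a9f42ca23ab98d5d926ba26281020), (6, 0xb1caeac96c9d2038dd24509e66a020), (8, 0x9d14b891cd3da122bd82a8ee642420), (9, 0x73d713b289bd9a699452aa14480c20), (12, 0x74d573a2b25c462a3e042a6cc69820), (13, 0x3c69574ac97cc465aa04bb0a81b420), (16, 0xb5e74a9a2273da83a86c5c8a44c020), (18, 0x8add598acda159255d06391e34c020)]), (3, [(3, 0xbdab49ca307b9ac5a928398a418820), (4, 0x7ce2a599c8b9e0d2d12ca92c390820), (6, 0x2be2abca8db1cc99d50470d6c80820), (8, 0x9962ab42a959e487b9a3a32e430820), (9, 0xbaeae9c1522d18db4464399e848820), (12, 0x79551bc1cc59cc39d488a26cd90820), (13, 0x5da952c9467b868bc48c3c26968820), (16, 0x9bd515caa3b1e042d189736e830820), (18, 0xb5e9598ce42b9a65a9098b1f090820)]), (4, [(4, 0xbdab49ca307b9ac5a928398a418820),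 (6, 0x89df3ac2eda150655992591c918820), (8, 0x75576518ac3dd28a3e449b63018820), (9, 0x8aa6fa22f2a96093ac8db31c618820), (12, 0xbae957b6289ba44b1cd0524ac18820), (13, 0x2ccea5b1c9b448d7d506a42f218820), (16, 0x752cb3a4a455cd0acdac7ca2818820), (18, 0x2bd47b11c65c5929d209aa2ed18820)])]
def rels : List (List ℕ × ℕ) := [([1, 7, 2], 3), ([2, 9], 2)]
def sol : List (ℕ × ℕ) := [(1, 0xb5cf15a2907b8069a872ab0a44882d), (10, 0xb5cf15a2907b8069a872ab0a44882d)]
def memB (P : ℕ) : Bool := Nat.beq (act P 0x5335f) 0x5335f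
theorem goodT : good T = true := by decide +kernel
theorem memT : memB T = true := by decide +kernel
theorem memX : memB (XL11.getD 1 0) = true := by decide +kernel
theorem memY : memB Y11 = true := by decide +kernel
theorem slp : slpB [T, XL11.getD 1 0, idP] ops = true := by decide +kernel
theorem chn : chainB (slpA [T, XL11.getD 1 0, idP] ops) [] ch = true := by decide +kernel
theorem relT : (rels.all fun r => relB XL11 11 1 T r) = true := by decide +kernel
theorem slv : solB memB XL11 11 cand11 rels sol = true := by decide +kernel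
theorem sqD : Spor.squareDodecad = toFS 0x5335f := by
  rw [Spor.squareDodecad, support₂_qrWord]
  rfl
theorem mem_iff {P : ℕ} {g : Equiv.Perm GolayPt} (hg : g ∈ M24) (hP : Packs P g) : g ∈ Spor.M12 ↔ memB P = true := by
  have e : g ∈ Spor.M12 ↔ g ∈ M24 ∧ g • Spor.squareDodecad = Spor.squareDodecad := Iff.rfl
  rw [e, sqD, smul_toFS_iff hP (by norm_num) (by norm_num), memB, Nat.beq_eq]
  exact ⟨fun h => h.2, fun h => ⟨hg, h⟩⟩
theorem exists_conj_aut {G : Subgroup (Equiv.Perm GolayPt)} (g : Equiv.Perm GolayPt) (hg : ∀ x ∈ G, g * x * g⁻¹ ∈ G)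
    (hn : ¬ ∃ h ∈ G, ∀ x ∈ G, g * x * g⁻¹ = h * x * h⁻¹) : ∃ α : MulAut G, α ∉ Cfsg.Inn G := by
  let f : G →* G := 
    { toFun := fun x => ⟨g * x * g⁻¹, hg x x.2⟩
      map_one' := Subtype.ext (by simp)
      map_mul' := fun a b => Subtype.ext (by simp) }
  have hinj : Function.Injective f := by
    intro a b h
    have h1 : g * (a : Equiv.Perm GolayPt) * g⁻¹ = g * b * g⁻¹ := congrArg Subtype.val h
    exact Subtype.ext (mul_left_cancel (mul_right_cancel h1))
  refine ⟨MulEquiv.ofBijective f ⟨hinj, Finite.surjective_of_injective hinj⟩, ?_⟩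
  rintro ⟨h, hh⟩
  apply hn
  refine ⟨h, h.2, fun x hx => ?_⟩
  have h1 := DFunLike.congr_fun hh ⟨x, hx⟩
  exact (congrArg Subtype.val h1).symm
def V5 : List ℕ := [0x71eef992d0ad02c2a8095a22d91862, 0xb9e71782a8a589272c29540ac188cd, 0xb1e937362cabcc4bae4250ca84c020, 0xbae657a54ca38433d8d08b6a824820]
theorem v5ok : (V5.all fun v => and (and (good v) (memB v)) (and (ordB 5 v) (ixs.any fun i => not (Nat.beq (img v i) i)))) = true := by
  decide +kernel
theorem v5tab : (ctab2.all fun e => or (not (memB e.1)) (or (ixs.any fun i => Nat.beq (img e.1 i) i) (V5.any fun v => conjB v e.1 e.1))) = true := by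
  decide +kernel
theorem hfpf : ∀ u ∈ Spor.M12, orderOf u = 2 → (∀ p, u p ≠ p) → ∃ v ∈ Spor.M12, orderOf v = 5 ∧ Commute u v := by
  classical
  intro u hu h2 hf
  have huu : ∀ x, u (u x) = x := fun x => by
    have h3 : u ^ 2 = 1 := by rw [← h2]; exact pow_orderOf_eq_one u
    have := congrArg (fun (f : Equiv.Perm GolayPt) => f x) h3
    simpa [pow_two] using this
  have hD : ∀ x ∈ Spor.squareDodecad, u x ∈ Spor.squareDodecad := by
    intro x hx
    have h3 : u • Spor.squareDodecad = Spor.squareDodecad := hu.2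
    rw [← h3]; exact mem_smul_iff.mpr hx
  have h12 : Spor.squareDodecad.card = 12 := Cfsg.Agent.S5522.sqD.2
  obtain ⟨a, haD⟩ : Spor.squareDodecad.Nonempty := by rw [← Finset.card_pos, h12]; norm_num
  obtain ⟨c, hc⟩ : (Spor.squareDodecad \ {a, u a}).Nonempty := by
    rw [← Finset.card_pos]
    have h13 := Finset.le_card_sdiff {a, u a} Spor.squareDodecad
    have h14 : ({a, u a} : Finset GolayPt).card ≤ 2 := Finset.card_le_two
    omega
  rw [Finset.mem_sdiff, Finset.mem_insert, Finset.mem_singleton, not_or] at hc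
  have hca : u c ≠ a := fun h => hc.2.2 (by rw [← h, huu])
  have hca' : u c ≠ u a := fun h => hc.2.1 (u.injective h)
  obtain ⟨m, hm, hmD, hml⟩ := dod_trans Cfsg.Agent.S5522.sqD Cfsg.Agent.S5522.sqD (l := [a, u a, c, u c]) (l' := [pt 0, pt 1, pt 2, pt 3])
    (by
      simp only [List.nodup_cons, List.mem_cons, List.not_mem_nil, or_false, not_or, List.nodup_nil, and_true,
        not_false_eq_true]
      exact ⟨⟨fun h => hf a h.symm, fun h => hc.2.1 h.symm, fun h => hca h.symm⟩, ⟨fun h => hc.2.2 h.symm, fun h => hca' h.symm⟩,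
        fun h => hf c h.symm⟩)
    (by decide)
    (by
      intro p hp
      simp only [List.mem_cons, List.not_mem_nil, or_false] at hp
      rcases hp with rfl | rfl | rfl | rfl
      exacts [haD, hD _ haD, hc.1, hD _ hc.1])
    (by
      intro p hp
      rw [sqD, mem_toFS]
      simp only [List.mem_cons, List.not_mem_nil, or_false] at hp
      rcases hp with rfl | rfl | rfl | rfl <;> decide)
    rfl (by simp)
  simp only [List.map_cons, List.map_nil, List.cons.injEq, and_true] at hml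
  obtain ⟨m0, m1, m2, m3⟩ := hml
  have hmM : m ∈ Spor.M12 := ⟨hm, hmD⟩
  set w := m * u * m⁻¹ with hw
  have hwM : w ∈ Spor.M12 := mul_mem (mul_mem hmM hu) (inv_mem hmM)
  have i0 : m⁻¹ (pt 0) = a := by rw [← m0]; exact m.symm_apply_apply _
  have i1 : m⁻¹ (pt 1) = u a := by rw [← m1]; exact m.symm_apply_apply _
  have i2 : m⁻¹ (pt 2) = c := by rw [← m2]; exact m.symm_apply_apply _
  have i3 : m⁻¹ (pt 3) = u c := by rw [← m3]; exact m.symm_apply_apply _
  have w0 : w (pt 0) = pt 1 := by rw [hw, Equiv.Perm.mul_apply, Equiv.Perm.mul_apply, i0, m1]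
  have w1 : w (pt 1) = pt 0 := by rw [hw, Equiv.Perm.mul_apply, Equiv.Perm.mul_apply, i1, huu, m0]
  have w2 : w (pt 2) = pt 3 := by rw [hw, Equiv.Perm.mul_apply, Equiv.Perm.mul_apply, i2, m3]
  have w3 : w (pt 3) = pt 2 := by rw [hw, Equiv.Perm.mul_apply, Equiv.Perm.mul_apply, i3, huu, m2]
  have hw2 : w ^ 2 = 1 := by
    rw [hw, conj_pow, ← h2, pow_orderOf_eq_one]; group
  obtain ⟨e, he, h3, -⟩ := classify s2_good (ordB 2) ctab2 cls2_ok ctab2_ok hwM.1 w0 w1 w2 w3 (fun T hT => ordB_spec hT hw2)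
  have h4 := List.all_eq_true.mp v5tab e he
  rw [(mem_iff hwM.1 h3).mp hwM, Bool.not_true, Bool.false_or, Bool.or_eq_true, List.any_eq_true, List.any_eq_true] at h4
  rcases h4 with ⟨i, hi, h5⟩ | ⟨V, hV, h5⟩
  · exfalso
    have h6 := h3.apply (mem_ixs.mp hi) (Nat.eq_of_beq_eq_true h5)
    rw [hw, Equiv.Perm.mul_apply, Equiv.Perm.mul_apply] at h6
    apply hf (m⁻¹ (pt i))
    apply m.injective
    rw [h6]; exact (m.apply_symm_apply _).symm
  · have h6 := List.all_eq_true.mp v5ok V hV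
    rw [Bool.and_eq_true, Bool.and_eq_true, Bool.and_eq_true] at h6
    obtain ⟨⟨h7, h8⟩, h9, h10⟩ := h6
    obtain ⟨v, hv, hvP⟩ := exists_of_good h7
    have hv5 : orderOf v = 5 := orderOf_packs (by norm_num) hvP h9 h10
    have hvM : v ∈ Spor.M12 := (mem_iff hv hvP).mpr h8
    have hcc : v * (m * u * m⁻¹) * v⁻¹ = m * u * m⁻¹ := conjB_spec h5 hvP h3 h3
    refine ⟨m⁻¹ * v * m, mul_mem (mul_mem (inv_mem hmM) hvM) hmM, ?_, ?_⟩
    · have e : m⁻¹ * v * m = m⁻¹ * v * (m⁻¹)⁻¹ := by rw [inv_inv]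
      rw [e, ← MulAut.conj_apply, MulEquiv.orderOf_eq, hv5]
    · have h3 : v * (m * u * m⁻¹) = m * u * m⁻¹ * v := by
        calc v * (m * u * m⁻¹) = v * (m * u * m⁻¹) * v⁻¹ * v := by group
          _ = _ := by rw [hcc]
      show u * (m⁻¹ * v * m) = m⁻¹ * v * m * u
      calc u * (m⁻¹ * v * m) = m⁻¹ * (m * u * m⁻¹ * v) * m := by group
        _ = m⁻¹ * (v * (m * u * m⁻¹)) * m := by rw [h3]
        _ = m⁻¹ * v * m * u := by group
def FT : ℕ := 0x1c436
theorem fixT {t : Equiv.Perm GolayPt} (ht : Packs T t) : (Finset.univ.filter fun q => t q = q) ∈ octads := by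
  rw [fix_eq (m := FT) (by decide +kernel) ht, mem_octads_iff, mask_toFS (by decide +kernel)]
  decide +kernel
def T2 : ℕ := 0xb5cf15a2907b8069a872ab0a44882d
theorem cardG : Nat.card Spor.M12 = 95040 := by
  have e : Spor.M12 = PSd Spor.squareDodecad [] := by
    ext g
    rw [mem_PSd]
    constructor
    · rintro ⟨a, b⟩
      exact ⟨a, b, by simp⟩
    · rintro ⟨a, b, c⟩
      exact ⟨a, b⟩
  rw [e]
  exact card_PSd_nil Cfsg.Agent.S5522.sqD
theorem cardG' : Nat.card Spor.M12 = chainN ch := by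
  rw [cardG]; decide +kernel
end


/-- The outer automorphism group of the Mathieu group M₁₂ (the stabiliser of a dodecad in the automorphism group of the length-24 binary code) has order 2. -/
theorem result : Nat.card (Cfsg.Out ↥Cfsg.Spor.M12) = 2 := by
  classical
  have hle : Cfsg.Spor.M12 ≤ Cfsg.M24 := fun g hg => hg.1
  obtain ⟨x, hx, hxP⟩ := CfsgLib.Golay.exists_of_good CfsgLib.Golay.good11
  obtain ⟨y, hy, hyP⟩ := CfsgLib.Golay.exists_of_good CfsgLib.Golay.goodY11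
  obtain ⟨t, ht, htP⟩ := CfsgLib.Golay.exists_of_good goodT
  have hx' := (mem_iff hx hxP).mpr memX
  have hy' := (mem_iff hy hyP).mpr memY
  have ht' := (mem_iff ht htP).mpr memT
  have hxo : orderOf (⟨x, hx'⟩ : Cfsg.Spor.M12) = 11 := by
    rw [← Subgroup.orderOf_coe]
    exact CfsgLib.Golay.orderOf_packs (by norm_num) hxP (by decide +kernel) (by decide +kernel)
  have hto : orderOf (⟨t, ht'⟩ : Cfsg.Spor.M12) = 2 := by
    rw [← Subgroup.orderOf_coe]
    exact CfsgLib.Golay.orderOf_packs (by norm_num) htP (by decide +kernel) (by decide +kernel)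
  have hyx : (⟨y, hy'⟩ : Cfsg.Spor.M12) * ⟨x, hx'⟩ * (⟨y, hy'⟩)⁻¹ = (⟨x, hx'⟩ : Cfsg.Spor.M12) ^ 3 :=
    Subtype.ext (CfsgLib.Golay.conjB_spec CfsgLib.Golay.conjY11 hyP hxP (CfsgLib.Golay.powL_spec CfsgLib.Golay.pow11 hxP 3 (by norm_num)))
  have hgen := CfsgLib.Golay.gen_top (G := Cfsg.Spor.M12) (x := ⟨x, hx'⟩) (t := ⟨t, ht'⟩) hxP htP slp chn cardG'
  have key : ∀ φ : MulAut Cfsg.Spor.M12, φ ∉ Cfsg.Inn Cfsg.Spor.M12 → ∃ g : Cfsg.Spor.M12,
      g * φ ⟨x, hx'⟩ * g⁻¹ = ⟨x, hx'⟩ ^ 10 ∧ CfsgLib.Golay.Packs T2 ((g * φ ⟨t, ht'⟩ * g⁻¹ : Cfsg.Spor.M12) : Equiv.Perm Cfsg.GolayPt) := by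
    intro φ hn
    have hφ := CfsgLib.Golay.octad_of_no5 hle hfpf hto (fixT htP) φ
    obtain ⟨g, kT, hkT, h1, h2⟩ := CfsgLib.Golay.aut_solve hle (by norm_num : Nat.Prime 11) (by rw [cardG]; norm_num) hxo hyx
      CfsgLib.Golay.hs11 hxP CfsgLib.Golay.pow11 CfsgLib.Golay.len11 htP (mem := memB)
      (fun P g hg hP => (mem_iff (hle hg) hP).mp hg) CfsgLib.Golay.cov11 CfsgLib.Golay.ok11 relT slv φ hφ
    simp only [sol, List.mem_cons, List.not_mem_nil, or_false] at hkT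
    rcases hkT with rfl | rfl
    · exfalso
      apply hn
      refine CfsgLib.Golay.inner_of_fix hgen φ g ?_ ?_
      · rw [h1, pow_one]
      · apply Subtype.ext
        exact h2.eq htP
    · exact ⟨g, h1, h2⟩
  obtain ⟨α, hα⟩ : ∃ α : MulAut Cfsg.Spor.M12, α ∉ Cfsg.Inn Cfsg.Spor.M12 := by
    obtain ⟨-, hnc, g, hg, hgD, hgc⟩ := Cfsg.Agent.S5620.result
    have hgD' : g • Cfsg.Spor.squareDodecad = Cfsg.Spor.squareDodecadᶜ := by rw [hgD]; ext q; simp
    have hgi : g⁻¹ • Cfsg.Spor.squareDodecad = Cfsg.Spor.squareDodecadᶜ := by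
      rw [inv_smul_eq_iff, CfsgLib.Golay.smul_compl, hgD', compl_compl]
    refine exists_conj_aut g (fun x hx => ?_) ?_
    · have hx2 : x • Cfsg.Spor.squareDodecad = Cfsg.Spor.squareDodecad := hx.2
      refine ⟨Cfsg.M24.mul_mem (Cfsg.M24.mul_mem hg hx.1) (Cfsg.M24.inv_mem hg), ?_⟩
      show (g * x * g⁻¹) • Cfsg.Spor.squareDodecad = Cfsg.Spor.squareDodecad
      rw [mul_smul, mul_smul, hgi, CfsgLib.Golay.smul_compl, hx2, CfsgLib.Golay.smul_compl, hgD', compl_compl]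
    · rintro ⟨h, hh, hall⟩
      apply hnc
      refine ⟨h, hh, ?_⟩
      rw [← hgc]
      ext z
      rw [Subgroup.mem_pointwise_smul_iff_inv_smul_mem, Subgroup.mem_pointwise_smul_iff_inv_smul_mem, ← map_inv, ← map_inv,
        MulAut.smul_def, MulAut.smul_def, MulAut.conj_apply, MulAut.conj_apply, inv_inv, inv_inv]
      constructor
      · intro hz
        have h3 := hall _ hz.1
        have h4 : g⁻¹ * z * g = h⁻¹ * z * h := by
          have h5 : z = g * (h⁻¹ * z * h) * g⁻¹ := by rw [h3]; group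
          calc g⁻¹ * z * g = g⁻¹ * (g * (h⁻¹ * z * h) * g⁻¹) * g := by rw [← h5]
            _ = _ := by group
        rw [h4]; exact hz
      · intro hz
        have h3 := hall _ hz.1
        have h4 : h⁻¹ * z * h = g⁻¹ * z * g := by
          have h5 : z = h * (g⁻¹ * z * g) * h⁻¹ := by rw [← h3]; group
          calc h⁻¹ * z * h = h⁻¹ * (h * (g⁻¹ * z * g) * h⁻¹) * h := by rw [← h5]
            _ = _ := by group
        rw [h4]; exact hz
  apply CfsgLib.Golay.out_eq_two α hα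
  intro φ ψ hφ hψ
  obtain ⟨g, h1, h2⟩ := key φ hφ
  obtain ⟨g', h1', h2'⟩ := key ψ hψ
  refine CfsgLib.Golay.inner_of_agree hgen φ ψ g g' ?_ ?_
  · rw [h1, h1']
  · apply Subtype.ext
    exact h2.eq h2'

end Cfsg.Agent.S2061
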