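import Cfsg.Statements.S2176
import Cfsg.Agent.Lib.ChevInE8b

set_option autoImplicit false
open Cfsg

namespace Cfsg.Agent.S2176

open CfsgLib.Chev Cfsg.Lie

def Y : List (List ℕ) := [[239], [232, 233], [228, 222, 218], [226, 220, 213, 216]]

def rk (R : List ℕ) : ℕ := if R = [239] then 58 else if R = [232, 233] then 92 else if R = [228, 222, 218] then 110 else 120

def pwF (Y : List (List ℕ)) : Prop := ∀ R ∈ Y, R.Pairwise fun r s => eq0Z (pF rcE8.get CLE8 r s) = true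

theorem pw : ∀ R ∈ Y, R.Pairwise fun r s => chevE8.pairing r s = 0 := by
  have h : ∀ R ∈ Y, R.Pairwise fun r s => eq0Z (pF rcE8.get CLE8 r s) = true := by decide +kernel
  have hlt : ∀ R ∈ Y, ∀ r ∈ R, r < 240 := by decide
  intro R hR
  refine List.Pairwise.imp_of_mem ?_ (h R hR)
  intro r s hr hs hrs
  rw [(cdE8 ℚ).pF_eq (hlt R hR r hr) (hlt R hR s hs)] at hrs
  exact eq0Z_iff.mp hrs

theorem main {F : Type*} [Field F] [Finite F] [CharP F 2] :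
    (∀ R ∈ Y, W1 chevE8 F R ∈ chevE8.group F ∧ orderOf (W1 chevE8 F R) = 2) ∧
    (∀ g ∈ chevE8.group F, orderOf g = 2 → ∃ R ∈ Y, ∃ h ∈ chevE8.group F, h * g * h⁻¹ = W1 chevE8 F R) ∧
    (∀ R ∈ Y, ∀ R' ∈ Y, (∃ h ∈ chevE8.group F, h * W1 chevE8 F R * h⁻¹ = W1 chevE8 F R') → R = R') := by
  let M : CG chevE8 F := mgE8 F
  refine M.classes_of ocE8 stsE8 (by decide) (mchE8 M) Y (by decide) pw ?_ rk ?_ (by decide) (by decide)
  · intro S hS
    unfold stsE8 at hS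
    simp only [List.mem_cons, List.not_mem_nil, or_false] at hS
    rcases hS with rfl | rfl | rfl | rfl | rfl
    · exact Or.inl rfl
    · exact Or.inr ⟨[239], by decide, wdE8_0.symm⟩
    · exact Or.inr ⟨[232, 233], by decide, wdE8_1.symm⟩
    · exact Or.inr ⟨[228, 222, 218], by decide, wdE8_2.symm⟩
    · exact Or.inr ⟨[226, 220, 213, 216], by decide, wdE8_3.symm⟩
  · intro R hR
    unfold Y at hR
    simp only [List.mem_cons, List.not_mem_nil, or_false] at hR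
    rcases hR with rfl | rfl | rfl | rfl
    · exact rkE8_0 F
    · exact rkE8_1 F
    · exact rkE8_2 F
    · exact rkE8_3 F

theorem mem_iff {F : Type*} [Field F] [CharP F 2] (y : GL chevE8.Idx F) :
    (y : Matrix chevE8.Idx chevE8.Idx F) ∈ [chevE8.x F 239 1, chevE8.x F 232 1 * chevE8.x F 233 1, chevE8.x F 228 1 * chevE8.x F 222 1 * chevE8.x F 218 1,
      chevE8.x F 226 1 * chevE8.x F 220 1 * chevE8.x F 213 1 * chevE8.x F 216 1] ↔
      ∃ R ∈ Y, y = W1 chevE8 F R := by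
  let M : CG chevE8 F := mgE8 F
  have h1 : ((W1 chevE8 F [239] : GL chevE8.Idx F) : Matrix chevE8.Idx chevE8.Idx F) = chevE8.x F 239 1 := by
    rw [W1_cons, W1_nil, mul_one, M.coe_xg]
  have h2 : ((W1 chevE8 F [232, 233] : GL chevE8.Idx F) : Matrix chevE8.Idx chevE8.Idx F) = chevE8.x F 232 1 * chevE8.x F 233 1 := by
    rw [W1_cons, W1_cons, W1_nil, mul_one, Units.val_mul, M.coe_xg, M.coe_xg]
  have h3 : ((W1 chevE8 F [228, 222, 218] : GL chevE8.Idx F) : Matrix chevE8.Idx chevE8.Idx F) = chevE8.x F 228 1 * chevE8.x F 222 1 * chevE8.x F 218 1 := by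
    rw [W1_cons, W1_cons, W1_cons, W1_nil, mul_one, Units.val_mul, Units.val_mul, M.coe_xg, M.coe_xg, M.coe_xg, mul_assoc]
  have h4 : ((W1 chevE8 F [226, 220, 213, 216] : GL chevE8.Idx F) : Matrix chevE8.Idx chevE8.Idx F) =
      chevE8.x F 226 1 * chevE8.x F 220 1 * chevE8.x F 213 1 * chevE8.x F 216 1 := by
    rw [W1_cons, W1_cons, W1_cons, W1_cons, W1_nil, mul_one, Units.val_mul, Units.val_mul, Units.val_mul, M.coe_xg, M.coe_xg, M.coe_xg, M.coe_xg,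
      mul_assoc, mul_assoc]
  unfold Y
  simp only [List.mem_cons, List.not_mem_nil, or_false]
  constructor
  · rintro (h | h | h | h)
    · exact ⟨_, Or.inl rfl, Units.ext (h.trans h1.symm)⟩
    · exact ⟨_, Or.inr (Or.inl rfl), Units.ext (h.trans h2.symm)⟩
    · exact ⟨_, Or.inr (Or.inr (Or.inl rfl)), Units.ext (h.trans h3.symm)⟩
    · exact ⟨_, Or.inr (Or.inr (Or.inr rfl)), Units.ext (h.trans h4.symm)⟩
  · rintro ⟨R, rfl | rfl | rfl | rfl, rfl⟩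
    · exact Or.inl h1
    · exact Or.inr (Or.inl h2)
    · exact Or.inr (Or.inr (Or.inl h3))
    · exact Or.inr (Or.inr (Or.inr h4))

/-- Conjugacy classes of involutions in the Chevalley group of type E₈ over a finite field F of characteristic two (the matrix group generated by the root elements x_r(t)). In this problem's root numbering for type E₈ (the Chevalley data module; fundamental roots numbered so that p₁–p₃–p₄–p₅–p₆–p₇–p₈ is the long chain of the diagram and p₂ is joined to p₄; roots indexed by their coefficient vectors in increasing order) let r = 239 be the highest root (2,3,4,6,5,4,3,2), α = 232 = (2,2,4,5,4,3,2,1), β = 233 = (2,3,3,5,4,3,2,1), γ = 228 = (2,2,3,4,3,2,2,1), δ = 222 = (1,2,3,4,3,3,2,1), ε = 218 = (1,2,2,4,4,3,2,1), φ = 226 = (2,2,3,4,3,2,1,0), ψ = 220 = (1,2,3,4,3,2,1,1), θ = 213 = (1,2,2,3,3,3,2,1), ω = 216 = (1,2,2,4,3,2,2,1) (the roots within each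 of {α, β}, {γ, δ, ε}, {φ, ψ, θ, ω} pairwise orthogonal); consider x_r(1), x_α(1)x_β(1), x_γ(1)x_δ(1)x_ε(1) and x_φ(1)x_ψ(1)x_θ(1)x_ω(1). Then: each invertible matrix equal to one of these four products lies in the group and has order 2; every element of order 2 of the group is conjugate in the group to one of them; and no two of them are conjugate in the group (so, the four matrices being distinct, the group has exactly four conjugacy classes of involutions). -/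
theorem result {F : Type*} [Field F] [Fintype F] [CharP F 2] :
    (∀ y : GL Cfsg.Lie.chevE8.Idx F, ((y : GL Cfsg.Lie.chevE8.Idx F) : Matrix Cfsg.Lie.chevE8.Idx Cfsg.Lie.chevE8.Idx F) ∈ [Cfsg.Lie.chevE8.x F 239 1, Cfsg.Lie.chevE8.x F 232 1 * Cfsg.Lie.chevE8.x F 233 1, Cfsg.Lie.chevE8.x F 228 1 * Cfsg.Lie.chevE8.x F 222 1 * Cfsg.Lie.chevE8.x F 218 1, Cfsg.Lie.chevE8.x F 226 1 * Cfsg.Lie.chevE8.x F 220 1 * Cfsg.Lie.chevE8.x F 213 1 * Cfsg.Lie.chevE8.x F 216 1] → y ∈ Cfsg.Lie.chevE8.group F ∧ orderOf y = 2) ∧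
    (∀ g ∈ Cfsg.Lie.chevE8.group F, orderOf g = 2 → ∃ y ∈ Cfsg.Lie.chevE8.group F, ((y : GL Cfsg.Lie.chevE8.Idx F) : Matrix Cfsg.Lie.chevE8.Idx Cfsg.Lie.chevE8.Idx F) ∈ [Cfsg.Lie.chevE8.x F 239 1, Cfsg.Lie.chevE8.x F 232 1 * Cfsg.Lie.chevE8.x F 233 1, Cfsg.Lie.chevE8.x F 228 1 * Cfsg.Lie.chevE8.x F 222 1 * Cfsg.Lie.chevE8.x F 218 1, Cfsg.Lie.chevE8.x F 226 1 * Cfsg.Lie.chevE8.x F 220 1 * Cfsg.Lie.chevE8.x F 213 1 * Cfsg.Lie.chevE8.x F 216 1] ∧ ∃ h ∈ Cfsg.Lie.chevE8.group F, h * g * h⁻¹ = y) ∧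
    (∀ y₁ ∈ Cfsg.Lie.chevE8.group F, ∀ y₂ ∈ Cfsg.Lie.chevE8.group F, ((y₁ : GL Cfsg.Lie.chevE8.Idx F) : Matrix Cfsg.Lie.chevE8.Idx Cfsg.Lie.chevE8.Idx F) ∈ [Cfsg.Lie.chevE8.x F 239 1, Cfsg.Lie.chevE8.x F 232 1 * Cfsg.Lie.chevE8.x F 233 1, Cfsg.Lie.chevE8.x F 228 1 * Cfsg.Lie.chevE8.x F 222 1 * Cfsg.Lie.chevE8.x F 218 1, Cfsg.Lie.chevE8.x F 226 1 * Cfsg.Lie.chevE8.x F 220 1 * Cfsg.Lie.chevE8.x F 213 1 * Cfsg.Lie.chevE8.x F 216 1] → ((y₂ : GL Cfsg.Lie.chevE8.Idx F) : Matrix Cfsg.Lie.chevE8.Idx Cfsg.Lie.chevE8.Idx F) ∈ [Cfsg.Lie.chevE8.x F 239 1, Cfsg.Lie.chevE8.x F 232 1 * Cfsg.Lie.chevE8.x F 233 1, Cfsg.Lie.chevE8.x F 228 1 * Cfsg.Lie.chevE8.x F 222 1 * Cfsg.Lie.chevE8.x F 218 1, Cfsg.Lie.chevE8.x F 226 1 * Cfsg.Lie.chevE8.x F 220 1 * Cfsg.Lie.chevE8.x F 213 1 * Cfsg.Lie.chevE8.x F 216 1] →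
      (∃ h ∈ Cfsg.Lie.chevE8.group F, h * y₁ * h⁻¹ = y₂) → ((y₁ : GL Cfsg.Lie.chevE8.Idx F) : Matrix Cfsg.Lie.chevE8.Idx Cfsg.Lie.chevE8.Idx F) = ((y₂ : GL Cfsg.Lie.chevE8.Idx F) : Matrix Cfsg.Lie.chevE8.Idx Cfsg.Lie.chevE8.Idx F)) := by
  obtain ⟨m1, m2, m3⟩ := main (F := F)
  refine ⟨fun y hy => ?_, fun g hg h2 => ?_, fun y₁ _ y₂ _ hy₁ hy₂ hc => ?_⟩
  · obtain ⟨R, hR, rfl⟩ := (mem_iff y).mp hy
    exact m1 R hR
  · obtain ⟨R, hR, h, hh, he⟩ := m2 g hg h2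
    exact ⟨W1 _ F R, (m1 R hR).1, (mem_iff _).mpr ⟨R, hR, rfl⟩, h, hh, he⟩
  · obtain ⟨R, hR, rfl⟩ := (mem_iff y₁).mp hy₁
    obtain ⟨R', hR', rfl⟩ := (mem_iff y₂).mp hy₂
    rw [m3 R hR R' hR' hc]

end Cfsg.Agent.S2176
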