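import Cfsg.Statements.S2247
import Mathlib
import Cfsg.Agent.Lib.H7SG

set_option autoImplicit false
open Cfsg

namespace Cfsg.Agent.S2247

open CfsgLib.H7S MulAction


/-- In the Suzuki group with q = 2^(2m+1), m ≥ 1 (realised as the stabiliser in SL₄ of the Suzuki–Tits ovoid), the normalizer of a Sylow 2-subgroup P is a maximal subgroup and is the only maximal subgroup containing P. -/
theorem result {F : Type*} [Field F] [Fintype F] {m : ℕ} (hm : 1 ≤ m) (hF : Fintype.card F = 2 ^ (2 * m + 1)) (P : Sylow 2 ↥(Cfsg.Sz F m)) :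
    IsCoatom (Subgroup.normalizer ((P : Subgroup ↥(Cfsg.Sz F m)) : Set ↥(Cfsg.Sz F m))) ∧
    ∀ M : Subgroup ↥(Cfsg.Sz F m), IsCoatom M → (P : Subgroup ↥(Cfsg.Sz F m)) ≤ M → M = Subgroup.normalizer ((P : Subgroup ↥(Cfsg.Sz F m)) : Set ↥(Cfsg.Sz F m)) := by
  obtain ⟨c, hQc, hcard, hfix⟩ := sylow_point hm hF P
  rw [normalizer_sylow hm hF hQc hcard hfix]
  refine ⟨stab_coatom hm hF c, ?_⟩
  intro M hM hPM
  by_cases h : M ≤ stabilizer (Sz F m) c
  · by_contra hne
    exact (stab_coatom hm hF c).1 (hM.2 _ (lt_of_le_of_ne h hne))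
  · exfalso
    obtain ⟨y, hy, hyc⟩ := SetLike.not_le_iff_exists.mp h
    exact hM.1 (top_of_sylow hm hF hQc hcard hfix hPM hy hyc)

end Cfsg.Agent.S2247
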