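import Cfsg.Statements.S2530
import Cfsg.Agent.Lib.COX9

set_option autoImplicit false
open Cfsg

namespace Cfsg.Agent.S2530

open CfsgLib.BNP

/-- the Cartan matrix of type A -/
def AA (n : ℕ) : Matrix (Fin n) (Fin n) ℤ :=
  Matrix.of fun i j => if i = j then 2 else if (j : ℕ) + 1 = i ∨ (i : ℕ) + 1 = j then -1 else 0

theorem AA_apply (n : ℕ) (i j : Fin n) :
    AA n i j = if i = j then 2 else if (j : ℕ) + 1 = i ∨ (i : ℕ) + 1 = j then -1 else 0 := rfl

theorem MA_apply (n : ℕ) (i j : Fin n) :
    (CoxeterMatrix.A n) i j = if i = j then 1 else if (j : ℕ) + 1 = i ∨ (i : ℕ) + 1 = j then 3 else 2 := rfl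

theorem dA (n : ℕ) (i : Fin n) : AA n i i = 2 := by simp [AA_apply]

theorem tA (n : ℕ) (i j : Fin n) (h : i ≠ j) : CType (AA n i j) (AA n j i) ((CoxeterMatrix.A n) i j) := by
  unfold CType
  rw [AA_apply, AA_apply, MA_apply, if_neg h, if_neg h, if_neg h.symm]
  by_cases h1 : (j : ℕ) + 1 = i ∨ (i : ℕ) + 1 = j
  · have h2 : (i : ℕ) + 1 = j ∨ (j : ℕ) + 1 = i := h1.symm
    rw [if_pos h1, if_pos h2, if_pos h1]
    right; left; exact ⟨rfl, rfl, rfl⟩
  · have h2 : ¬ ((i : ℕ) + 1 = j ∨ (j : ℕ) + 1 = i) := fun h => h1 h.symm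
    rw [if_neg h1, if_neg h2, if_neg h1]
    left; exact ⟨rfl, rfl, rfl⟩

/-- the reflection representation of type A -/
noncomputable def KA (n : ℕ) : Cox (CoxeterMatrix.A n).toCoxeterSystem.simple (AA n) :=
  Cox.ofSystem (CoxeterMatrix.A n).toCoxeterSystem (dA n) (tA n)

/-- simple roots in the permutation lattice -/
def rt {n : ℕ} (i : Fin n) : Fin (n + 1) → ℤ := Pi.single i.castSucc 1 - Pi.single i.succ 1

/-- the embedding of the root lattice -/
def ph {n : ℕ} (v : Fin n → ℤ) : Fin (n + 1) → ℤ := ∑ i, v i • rt i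

theorem swap_fn {m : ℕ} (f : Fin m → ℤ) (a b : Fin m) :
    f ∘ (Equiv.swap a b) = f - (f a - f b) • (Pi.single a 1 - Pi.single b 1 : Fin m → ℤ) := by
  funext x
  simp only [Function.comp_apply, Pi.sub_apply, Pi.smul_apply, smul_eq_mul, Pi.single_apply]
  by_cases h1 : x = a
  · subst h1
    rw [Equiv.swap_apply_left]
    by_cases h2 : x = b
    · subst h2; simp
    · simp [h2]
  · by_cases h2 : x = b
    · subst h2
      rw [Equiv.swap_apply_right]
      simp [h1]
    · rw [Equiv.swap_apply_of_ne_of_ne h1 h2]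
      simp [h1, h2]

theorem cof_ph {n : ℕ} (i : Fin n) (v : Fin n → ℤ) : cof (AA n) i v = ph v i.castSucc - ph v i.succ := by
  rw [cof_apply]
  unfold ph
  rw [Finset.sum_apply, Finset.sum_apply, ← Finset.sum_sub_distrib]
  apply Finset.sum_congr rfl
  intro j _
  unfold rt
  simp only [Pi.sub_apply, Pi.smul_apply, smul_eq_mul, Pi.single_apply, AA_apply, Fin.ext_iff,
    Fin.val_castSucc, Fin.val_succ]
  by_cases h1 : (i : ℕ) = j
  · have h2 : ¬ ((i : ℕ) = j + 1) := by omega
    have h3 : ¬ ((i : ℕ) + 1 = j) := by omega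
    have h4 : (i : ℕ) + 1 = j + 1 := by omega
    simp [h1]
    ring
  · by_cases h2 : (i : ℕ) = j + 1
    · have h3 : ¬ ((i : ℕ) + 1 = j) := by omega
      simp only [if_neg h1, if_pos h2, if_neg h3]
      have h5 : ¬ ((i : ℕ) + 1 = j + 1) := by omega
      rw [if_neg h5, if_pos (Or.inl h2.symm)]
      ring
    · by_cases h3 : (i : ℕ) + 1 = j
      · have h5 : ¬ ((i : ℕ) + 1 = j + 1) := by omega
        rw [if_neg h1, if_neg h1, if_neg h2, if_pos h3, if_neg h5, if_pos (Or.inr h3)]
        ring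
      · have h5 : ¬ ((i : ℕ) + 1 = j + 1) := by omega
        have h6 : ¬ ((j : ℕ) + 1 = i ∨ (i : ℕ) + 1 = j) := by omega
        rw [if_neg h1, if_neg h1, if_neg h2, if_neg h3, if_neg h5, if_neg h6]
        ring

theorem ph_sub {n : ℕ} (v w : Fin n → ℤ) : ph (v - w) = ph v - ph w := by
  unfold ph
  rw [← Finset.sum_sub_distrib]
  apply Finset.sum_congr rfl
  intro i _
  rw [Pi.sub_apply, sub_smul]

theorem ph_smul {n : ℕ} (c : ℤ) (v : Fin n → ℤ) : ph (c • v) = c • ph v := by
  unfold ph
  rw [Finset.smul_sum]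
  apply Finset.sum_congr rfl
  intro i _
  rw [Pi.smul_apply, smul_assoc]

theorem ph_sr {n : ℕ} (i : Fin n) : ph (sr i) = rt i := by
  unfold ph sr
  rw [Finset.sum_eq_single i]
  · rw [Pi.single_eq_same, one_smul]
  · intro j _ hj
    rw [Pi.single_eq_of_ne hj, zero_smul]
  · intro h
    exact absurd (Finset.mem_univ i) h

theorem ph_rf {n : ℕ} (i : Fin n) (v : Fin n → ℤ) :
    ph (rf (AA n) i v) = ph v ∘ (Equiv.swap i.castSucc i.succ) := by
  rw [rf_apply, ph_sub, ph_smul, ph_sr, swap_fn, cof_ph]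
  rfl

theorem ph_inj {n : ℕ} {v w : Fin n → ℤ} (h : ph v = ph w) : v = w := by
  have key : ∀ v : Fin n → ℤ, ∀ k : Fin n, ∑ m ∈ Finset.univ.filter (fun m : Fin (n + 1) => (m : ℕ) ≤ k), ph v m = v k := by
    intro v k
    unfold ph
    simp only [Finset.sum_apply]
    rw [Finset.sum_comm, Finset.sum_eq_single k]
    · simp only [Pi.smul_apply, smul_eq_mul, ← Finset.mul_sum]
      have h1 : ∑ m ∈ Finset.univ.filter (fun m : Fin (n + 1) => (m : ℕ) ≤ k), rt k m = 1 := by
        unfold rt
        simp only [Pi.sub_apply, Finset.sum_sub_distrib]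
        rw [Finset.sum_pi_single', Finset.sum_pi_single']
        simp
      rw [h1, mul_one]
    · intro j _ hj
      simp only [Pi.smul_apply, smul_eq_mul, ← Finset.mul_sum]
      have h1 : ∑ m ∈ Finset.univ.filter (fun m : Fin (n + 1) => (m : ℕ) ≤ k), rt j m = 0 := by
        unfold rt
        simp only [Pi.sub_apply, Finset.sum_sub_distrib]
        rw [Finset.sum_pi_single', Finset.sum_pi_single']
        simp only [Finset.mem_filter, Finset.mem_univ, true_and, Fin.val_castSucc, Fin.val_succ]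
        have h2 : (j : ℕ) ≠ k := fun h => hj (Fin.ext h)
        by_cases h3 : (j : ℕ) ≤ k
        · have h4 : (j : ℕ) + 1 ≤ k := by omega
          rw [if_pos h3, if_pos h4, sub_self]
        · have h4 : ¬ ((j : ℕ) + 1 ≤ k) := by omega
          rw [if_neg h3, if_neg h4, sub_self]
      rw [h1, mul_zero]
    · intro h
      exact absurd (Finset.mem_univ k) h
  funext k
  rw [← key v k, ← key w k, h]

theorem lift_ok (n : ℕ) : (CoxeterMatrix.A n).IsLiftable (fun i : Fin n => Equiv.swap i.castSucc i.succ) := by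
  have adj : ∀ i j : Fin n, (i : ℕ) + 1 = j →
      ((Equiv.swap i.castSucc i.succ : Equiv.Perm (Fin (n + 1))) * Equiv.swap j.castSucc j.succ) ^ 3 = 1 := by
    intro i j hij
    have h1 : j.castSucc = i.succ := Fin.ext (by simp [hij])
    rw [h1]
    have h2 : i.succ ≠ i.castSucc := by
      intro h
      have := congrArg Fin.val h
      simp at this
    have h3 : i.succ ≠ j.succ := by
      intro h
      have := congrArg Fin.val h
      simp only [Fin.val_succ] at this
      omega
    have h4 : i.castSucc ≠ j.succ := by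
      intro h
      have := congrArg Fin.val h
      simp only [Fin.val_succ, Fin.val_castSucc] at this
      omega
    have h5 := Equiv.Perm.isThreeCycle_swap_mul_swap_same h2 h3 h4
    rw [Equiv.swap_comm i.succ i.castSucc] at h5
    rw [← h5.orderOf]
    exact pow_orderOf_eq_one _
  intro i j
  rw [MA_apply]
  by_cases hij : i = j
  · subst hij
    rw [if_pos rfl, pow_one]
    exact Equiv.swap_mul_self _ _
  rw [if_neg hij]
  by_cases h1 : (j : ℕ) + 1 = i ∨ (i : ℕ) + 1 = j
  · rw [if_pos h1]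
    rcases h1 with h1 | h1
    · have h2 := adj j i h1
      have h3 : (Equiv.swap i.castSucc i.succ : Equiv.Perm (Fin (n + 1))) * Equiv.swap j.castSucc j.succ =
          ((Equiv.swap j.castSucc j.succ : Equiv.Perm (Fin (n + 1))) * Equiv.swap i.castSucc i.succ)⁻¹ := by
        rw [mul_inv_rev, Equiv.swap_inv, Equiv.swap_inv]
      rw [h3, inv_pow, h2, inv_one]
    · exact adj i j h1
  · rw [if_neg h1]
    have h0 : (i : ℕ) ≠ j := fun h => hij (Fin.ext h)
    have h2 : Equiv.Perm.Disjoint (Equiv.swap i.castSucc i.succ) (Equiv.swap j.castSucc j.succ) := by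
      apply Equiv.Perm.disjoint_swap_swap
      simp only [List.nodup_cons, List.mem_cons, List.not_mem_nil, or_false, not_or, Fin.ext_iff,
        Fin.val_castSucc, Fin.val_succ]
      refine ⟨⟨by omega, by omega, by omega⟩, ⟨by omega, by omega⟩, by omega, ?_⟩
      simp
    rw [h2.commute.mul_pow, pow_two, pow_two, Equiv.swap_mul_self, Equiv.swap_mul_self, mul_one]

theorem wd_rel (n : ℕ) (l : List (Fin n)) (v : Fin n → ℤ) :
    ph ((KA n).ρ (wd (CoxeterMatrix.A n).toCoxeterSystem.simple l) v) =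
      ph v ∘ ⇑(((CoxeterMatrix.A n).toCoxeterSystem.lift ⟨_, lift_ok n⟩
        (wd (CoxeterMatrix.A n).toCoxeterSystem.simple l))⁻¹ : Equiv.Perm (Fin (n + 1))) := by
  induction l with
  | nil =>
    rw [wd_nil, map_one, map_one, Module.End.one_apply]
    rfl
  | cons i l ih =>
    rw [wd_cons, map_mul, map_mul, Module.End.mul_apply, (KA n).ρ_σ, ph_rf, ih,
      CoxeterSystem.lift_apply_simple, mul_inv_rev, Equiv.swap_inv]
    rfl

/-- The Coxeter presentation of the symmetric group: for every n, the symmetric group on n+1 letters is the Coxeter group of type A_n with the adjacent transpositions (i, i+1) as simple reflections; that is, it is presented by generators r_1, …, r_n subject to r_i² = 1, (r_i r_j)² = 1 for |i − j| > 1 and (r_i r_{i+1})³ = 1, with r_i mapping to (i, i+1). -/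
theorem result (n : ℕ) :
    ∃ cs : CoxeterSystem (CoxeterMatrix.A n) (Equiv.Perm (Fin (n + 1))), ∀ i : Fin n, cs.simple i = Equiv.swap i.castSucc i.succ := by
  classical
  obtain ⟨π, hπ⟩ : ∃ π, π = (CoxeterMatrix.A n).toCoxeterSystem.lift ⟨_, lift_ok n⟩ := ⟨_, rfl⟩
  have hs : ∀ i, π ((CoxeterMatrix.A n).toCoxeterSystem.simple i) = Equiv.swap i.castSucc i.succ := by
    intro i
    rw [hπ]
    exact CoxeterSystem.lift_apply_simple _ (lift_ok n) i
  have hinj : Function.Injective π := by
    rw [injective_iff_map_eq_one]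
    intro w hw
    obtain ⟨l, rfl⟩ := (KA n).inv.gen w
    apply (KA n).ρ_injective
    rw [map_one]
    apply LinearMap.ext
    intro v
    rw [Module.End.one_apply]
    apply ph_inj
    rw [wd_rel, ← hπ, hw, inv_one]
    rfl
  have hsurj : Function.Surjective π := by
    rw [← MonoidHom.range_eq_top, eq_top_iff]
    intro g _
    have h1 : g ∈ Submonoid.closure (Set.range fun i : Fin n => Equiv.swap i.castSucc i.succ) := by
      rw [Equiv.Perm.mclosure_swap_castSucc_succ]
      trivial
    have h2 : Submonoid.closure (Set.range fun i : Fin n => Equiv.swap i.castSucc i.succ) ≤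
        π.range.toSubmonoid := by
      rw [Submonoid.closure_le]
      rintro _ ⟨i, rfl⟩
      exact ⟨_, hs i⟩
    exact h2 h1
  refine ⟨⟨(MulEquiv.ofBijective π ⟨hinj, hsurj⟩).symm⟩, fun i => ?_⟩
  exact hs i

end Cfsg.Agent.S2530
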