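import Cfsg.Statements.S2809
import Mathlib
import Cfsg.Agent.Lib.H7Sm1

set_option autoImplicit false
open Cfsg

open scoped commutatorElement
namespace Cfsg.Agent.S2809

open Subgroup
open scoped commutatorElement


/-- Let H be a finite group, p a prime, R a p-subgroup of H with C_H(R) ≤ R, and L a subgroup of N_H(R) acting nilpotently on R (some iterated commutator [R, L, …, L] is trivial). Then L is a p-group. -/
theorem result {H : Type*} [Group H] [Finite H] {p : ℕ} [Fact p.Prime] (R : Subgroup H) (hR : IsPGroup p ↥R) (hC : Subgroup.centralizer (R : Set H) ≤ R) (L : Subgroup H) (hL : L ≤ Subgroup.normalizer (R : Set H)) (hnil : ∃ n : ℕ, Cfsg.iterCommutator R L n = ⊥) : IsPGroup p ↥L := by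
  classical
  obtain ⟨n, hn⟩ := hnil
  apply CfsgLib.H7Sm1.isPGroup_of
  intro x hx hxp
  have hc := CfsgLib.H7Sm1.zcop hR hxp (hL hx)
  have hxR : zpowers x ≤ Subgroup.normalizer (R : Set H) := hc.1
  have hle : ∀ i, ⁅R, zpowers x⁆ ≤ ⁅Cfsg.iterCommutator R L i, zpowers x⁆ := by
    intro i
    induction i with
    | zero => exact le_refl _
    | succ i ih =>
      have h1 : ⁅⁅R, zpowers x⁆, zpowers x⁆ = ⁅R, zpowers x⁆ := hc.commutator_commutator
      rw [← h1]
      refine Subgroup.commutator_mono ?_ le_rfl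
      refine ih.trans ?_
      show _ ≤ ⁅Cfsg.iterCommutator R L i, L⁆
      exact Subgroup.commutator_mono le_rfl (by rwa [Subgroup.zpowers_le])
  have h1 : ⁅R, zpowers x⁆ = ⊥ := by
    rw [eq_bot_iff]
    refine (hle n).trans ?_
    rw [hn]
    simp
  have h2 : x ∈ R := by
    apply hC
    rw [Subgroup.mem_centralizer_iff]
    intro r hr
    have h3 : ⁅r, x⁆ ∈ ⁅R, zpowers x⁆ := Subgroup.commutator_mem_commutator hr (mem_zpowers x)
    rw [h1, Subgroup.mem_bot] at h3
    exact commutatorElement_eq_one_iff_mul_comm.mp h3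
  obtain ⟨k, hk⟩ := IsPGroup.iff_orderOf.mp hR ⟨x, h2⟩
  rw [Subgroup.orderOf_mk] at hk
  rw [hk] at hxp
  rw [← orderOf_eq_one_iff, hk]
  rcases Nat.eq_zero_or_pos k with h | h
  · rw [h, pow_zero]
  · exfalso
    have := Nat.Coprime.eq_one_of_dvd (Nat.Coprime.symm hxp) (dvd_pow_self p h.ne')
    exact (Fact.out : p.Prime).one_lt.ne' this

end Cfsg.Agent.S2809
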