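import Cfsg.Statements.S2810
import Mathlib
import Cfsg.Agent.Lib.H7Sm1
import Cfsg.Agent.Lib.Core

set_option autoImplicit false
open Cfsg

open scoped commutatorElement
set_option linter.style.haveILetI false
namespace Cfsg.Agent.S2810

open Subgroup
open scoped commutatorElement


/-- Let H be a finite group of characteristic p and L a subgroup of H centralizing every factor of some H-invariant chain 1 = A₀ ≤ A₁ ≤ … ≤ Aₙ = O_p(H) of normal subgroups (that is, [A_{i+1}, L] ≤ Aᵢ for each i). Then L ≤ O_p(H). -/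
theorem result {H : Type*} [Group H] [Finite H] {p : ℕ} [Fact p.Prime] (hchar : Subgroup.centralizer (Cfsg.pCore p H : Set H) ≤ Cfsg.pCore p H) (L : Subgroup H) (n : ℕ) (A : Fin (n + 1) → Subgroup H) (h0 : A 0 = ⊥) (hn : A (Fin.last n) = Cfsg.pCore p H) (hmono : Monotone A) (hnorm : ∀ i, (A i).Normal) (hcent : ∀ i : Fin n, ⁅A i.succ, L⁆ ≤ A i.castSucc) : L ≤ Cfsg.pCore p H := by
  classical
  -- the stabiliser of the chain
  let S : Subgroup H :=
    { carrier := {h | ∀ i : Fin n, ∀ a ∈ A i.succ, h * a * h⁻¹ * a⁻¹ ∈ A i.castSucc}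
      one_mem' := fun i a _ => by simp [(A i.castSucc).one_mem]
      mul_mem' := fun {x y} hx hy i a ha => by
        have h1 := (hnorm i.castSucc).conj_mem _ (hy i a ha) x
        have e : x * y * a * (x * y)⁻¹ * a⁻¹ = (x * (y * a * y⁻¹ * a⁻¹) * x⁻¹) * (x * a * x⁻¹ * a⁻¹) := by group
        rw [e]
        exact (A i.castSucc).mul_mem h1 (hx i a ha)
      inv_mem' := fun {x} hx i a ha => by
        have h1 := (hnorm i.castSucc).conj_mem _ ((A i.castSucc).inv_mem (hx i a ha)) x⁻¹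
        have e : x⁻¹ * (x * a * x⁻¹ * a⁻¹)⁻¹ * x⁻¹⁻¹ = x⁻¹ * a * x⁻¹⁻¹ * a⁻¹ := by group
        rw [e] at h1
        exact h1 }
  have hSn : S.Normal := by
    refine ⟨fun s hs g i a ha => ?_⟩
    have h1 : g⁻¹ * a * g⁻¹⁻¹ ∈ A i.succ := (hnorm i.succ).conj_mem a ha g⁻¹
    have h2 := (hnorm i.castSucc).conj_mem _ (hs i _ h1) g
    have e : g * (s * (g⁻¹ * a * g⁻¹⁻¹) * s⁻¹ * (g⁻¹ * a * g⁻¹⁻¹)⁻¹) * g⁻¹ =
      (g * s * g⁻¹) * a * (g * s * g⁻¹)⁻¹ * a⁻¹ := by group
    rw [e] at h2
    exact h2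
  have hLS : L ≤ S := by
    intro l hl i a ha
    have h1 : ⁅a, l⁆ ∈ ⁅A i.succ, L⁆ := Subgroup.commutator_mem_commutator ha hl
    have h2 := (A i.castSucc).inv_mem (hcent i h1)
    have e : ⁅a, l⁆⁻¹ = l * a * l⁻¹ * a⁻¹ := by rw [commutatorElement_def]; group
    rwa [e] at h2
  have hOp : IsPGroup p (Cfsg.pCore p H) := CfsgLib.Core.pCore_isPGroup p H
  have hSp : IsPGroup p S := by
    apply CfsgLib.H7Sm1.isPGroup_of
    intro x hx hxp
    have hAle : ∀ i, A i ≤ Cfsg.pCore p H := fun i => by rw [← hn]; exact hmono (Fin.le_last i)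
    have hAp : ∀ i, IsPGroup p (A i) := fun i => hOp.to_le (hAle i)
    have key : ∀ i : Fin (n + 1), zpowers x ≤ Subgroup.centralizer (A i : Set H) := by
      intro i
      induction i using Fin.induction with
      | zero => rw [h0]; intro y _; rw [Subgroup.mem_centralizer_iff]; intro z hz; rw [Subgroup.mem_bot.mp hz]; simp
      | succ i ih =>
        have hc := CfsgLib.H7Sm1.zcop (hAp i.succ) hxp (by
          haveI := hnorm i.succ
          rw [Subgroup.normalizer_eq_top]; exact Subgroup.mem_top x)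
        apply hc.le_centralizer_of_quotient ih
        have hzS : zpowers x ≤ S := by rwa [Subgroup.zpowers_le]
        rw [Subgroup.commutator_le]
        intro a ha y hy
        have h2 := (A i.castSucc).inv_mem (hzS hy i a ha)
        have e : (y * a * y⁻¹ * a⁻¹)⁻¹ = ⁅a, y⁆ := by rw [commutatorElement_def]; group
        rwa [e] at h2
    have h1 := key (Fin.last n)
    rw [hn] at h1
    have h2 : x ∈ Cfsg.pCore p H := hchar (h1 (mem_zpowers x))
    obtain ⟨k, hk⟩ := IsPGroup.iff_orderOf.mp hOp ⟨x, h2⟩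
    rw [Subgroup.orderOf_mk] at hk
    rw [hk] at hxp
    rw [← orderOf_eq_one_iff, hk]
    rcases Nat.eq_zero_or_pos k with h | h
    · rw [h, pow_zero]
    · exfalso
      have := Nat.Coprime.eq_one_of_dvd (Nat.Coprime.symm hxp) (dvd_pow_self p h.ne')
      exact (Fact.out : p.Prime).one_lt.ne' this
  exact hLS.trans (CfsgLib.Core.le_pCore hSn hSp)

end Cfsg.Agent.S2810
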