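import Cfsg.Statements.S2813
import Mathlib
import Cfsg.Agent.Lib.Core
import Cfsg.Agent.Lib.H6CP5

set_option autoImplicit false
open Cfsg

open scoped commutatorElement
namespace Cfsg.Agent.S2813

open Subgroup
open scoped commutatorElement


/-- Let K be a subgroup of the finite group H with O_p(K) = 1 and Y a p-subgroup of N_H(K) with [K, Y, Y] = 1. Then [K, Y] = 1. -/
theorem result {H : Type*} [Group H] [Finite H] {p : ℕ} [Fact p.Prime] (K : Subgroup H) (hO : Cfsg.pCore p ↥K = ⊥) (Y : Subgroup H) (hY : IsPGroup p ↥Y) (hYK : Y ≤ Subgroup.normalizer (K : Set H)) (hq : ⁅⁅K, Y⁆, Y⁆ = ⊥) : ⁅K, Y⁆ = ⊥ := by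
  classical
  set D := ⁅K, Y⁆ with hD
  have hDK : D ≤ K := CfsgLib.Coprime.commutator_le_of_le_normalizer hYK
  have hDY : ∀ d ∈ D, ∀ y ∈ Y, d * y = y * d := by
    intro d hd y hy
    have h1 : ⁅d, y⁆ ∈ ⁅D, Y⁆ := Subgroup.commutator_mem_commutator hd hy
    rw [hq, Subgroup.mem_bot] at h1
    exact commutatorElement_eq_one_iff_mul_comm.mp h1
  have hKD : K ≤ Subgroup.normalizer (D : Set H) := by
    rw [hD, Subgroup.commutator_comm]
    exact CfsgLib.H6CP.comm_norm_right
  have hconj : ∀ d ∈ D, ∀ k ∈ K, k⁻¹ * d * k ∈ D := by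
    intro d hd k hk
    have := (Subgroup.mem_normalizer_iff.mp (hKD (K.inv_mem hk)) d).mp hd
    rwa [inv_inv] at this
  have hgen : ∀ k ∈ K, ∀ y ∈ Y, ∀ d ∈ D, d * ⁅k, y⁆ = ⁅k, y⁆ * d := by
    intro k hk y hy d hd
    have h1 : Commute d y := hDY d hd y hy
    have h2 : Commute (k⁻¹ * d * k) y := hDY _ (hconj d hd k hk) y hy
    have h3 : Commute d (k * y * k⁻¹) := by
      have e : d = k * (k⁻¹ * d * k) * k⁻¹ := by group
      have h4 : d * (k * y * k⁻¹) = (k * y * k⁻¹) * d := by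
        have e1 : d * (k * y * k⁻¹) = k * ((k⁻¹ * d * k) * y) * k⁻¹ := by group
        have e2 : (k * y * k⁻¹) * d = k * (y * (k⁻¹ * d * k)) * k⁻¹ := by group
        rw [e1, e2, h2.eq]
      exact h4
    have h5 := h3.mul_right h1.inv_right
    rw [commutatorElement_def]
    exact h5
  have hab : ∀ a ∈ D, ∀ b ∈ D, a * b = b * a := by
    intro a ha b hb
    have : b ∈ Subgroup.centralizer ({a} : Set H) := by
      have hle : D ≤ Subgroup.centralizer ({a} : Set H) := by
        rw [hD, Subgroup.commutator_le]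
        intro k hk y hy
        rw [Subgroup.mem_centralizer_singleton_iff]
        exact (hgen k hk y hy a ha).symm
      exact hle hb
    exact (Subgroup.mem_centralizer_singleton_iff.mp this).symm
  have hpow : ∀ k ∈ K, ∀ y ∈ Y, ⁅k, y⁆ ^ Nat.card Y = 1 := by
    intro k hk y hy
    have h0 : ⁅k, y⁆ ∈ D := Subgroup.commutator_mem_commutator hk hy
    have h1 : Commute ⁅k, y⁆ y := hDY _ h0 y hy
    have h2 : k * y * k⁻¹ = ⁅k, y⁆ * y := by rw [commutatorElement_def]; group
    have h3 : y ^ Nat.card Y = 1 := by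
      have : (⟨y, hy⟩ : Y) ^ Nat.card Y = 1 := pow_card_eq_one'
      exact congrArg Subtype.val this
    have h4 : (k * y * k⁻¹) ^ Nat.card Y = 1 := by rw [conj_pow, h3]; simp
    rw [h2, h1.mul_pow, h3, mul_one] at h4
    exact h4
  have hDp : ∀ d ∈ D, d ^ Nat.card Y = 1 := by
    let E : Subgroup H :=
      { carrier := {d | d ∈ D ∧ d ^ Nat.card Y = 1}
        one_mem' := ⟨D.one_mem, one_pow _⟩
        mul_mem' := fun {x y} hx hy => ⟨D.mul_mem hx.1 hy.1, by
          rw [(show Commute x y from hab x hx.1 y hy.1).mul_pow, hx.2, hy.2, one_mul]⟩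
        inv_mem' := fun {x} hx => ⟨D.inv_mem hx.1, by rw [inv_pow, hx.2, inv_one]⟩ }
    have hle : D ≤ E := by
      rw [hD, Subgroup.commutator_le]
      intro k hk y hy
      exact ⟨Subgroup.commutator_mem_commutator hk hy, hpow k hk y hy⟩
    intro d hd
    exact (hle hd).2
  have hDP : IsPGroup p D := by
    obtain ⟨n, hn⟩ := hY.exists_card_eq
    intro d
    exact ⟨n, Subtype.ext (by rw [← hn]; exact hDp d d.2)⟩
  have h1 : D.subgroupOf K ≤ Cfsg.pCore p K := by
    apply CfsgLib.Core.le_pCore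
    · exact (Subgroup.normal_subgroupOf_iff_le_normalizer hDK).mpr hKD
    · exact hDP.of_equiv (Subgroup.subgroupOfEquivOfLe hDK).symm
  rw [hO, le_bot_iff, Subgroup.subgroupOf_eq_bot] at h1
  exact h1.eq_bot_of_le hDK

end Cfsg.Agent.S2813
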