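import Cfsg.Statements.S2968
import Cfsg.Agent.S1939
import Cfsg.Agent.Lib.SylowIn
import Cfsg.Agent.Lib.Coprime

set_option autoImplicit false
open Cfsg

namespace Cfsg.Agent.S2968

/-- Let G be a finite group, p a prime, P a Sylow p-subgroup of G and x ∈ P an element of p-power order which is isolated in G (the only conjugate of x commuting with x is x itself). Then x lies in the centre of P, and the subgroup generated by x is both strongly closed and weakly closed in P with respect to G. -/
theorem result {G : Type*} [Group G] [Finite G] {p : ℕ} [Fact p.Prime] (P : Sylow p G) (x : G) (hxP : x ∈ (P : Subgroup G)) (hx : ∃ k : ℕ, orderOf x = p ^ k) (hiso : Cfsg.IsIsolated x) : x ∈ (P : Subgroup G) ⊓ Subgroup.centralizer ((P : Subgroup G) : Set G) ∧ Cfsg.IsStronglyClosed (Subgroup.zpowers x) (P : Subgroup G) ∧ Cfsg.IsWeaklyClosed (Subgroup.zpowers x) (P : Subgroup G) := by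
  classical
  -- x is central in P
  have hZ : (P : Subgroup G) ≤ Subgroup.centralizer ({x} : Set G) := by
    by_contra hcon
    have hlt : (P : Subgroup G) ⊓ Subgroup.centralizer ({x} : Set G) < (P : Subgroup G) :=
      lt_of_le_of_ne inf_le_left fun h => hcon (inf_eq_left.mp h)
    have h1 := CfsgLib.Coprime.exists_normalizer_gt P.isPGroup' hlt
    obtain ⟨s, hs, hsn⟩ := SetLike.exists_of_lt h1
    apply hsn
    refine Subgroup.mem_inf.mpr ⟨hs.1, ?_⟩
    have hxD : x ∈ (P : Subgroup G) ⊓ Subgroup.centralizer ({x} : Set G) :=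
      Subgroup.mem_inf.mpr ⟨hxP, Subgroup.mem_centralizer_singleton_iff.mpr rfl⟩
    have h2 := (Subgroup.mem_normalizer_iff.mp hs.2 x).mp hxD
    have h3 : s * x * s⁻¹ = x := hiso s (Subgroup.mem_centralizer_singleton_iff.mp h2.2).symm
    rw [Subgroup.mem_centralizer_singleton_iff]
    calc s * x = (s * x * s⁻¹) * s := by group
      _ = x * s := by rw [h3]
  have hwc : ∀ g : G, g * x * g⁻¹ ∈ (P : Subgroup G) → g * x * g⁻¹ = x := fun g hg =>
    hiso g (Subgroup.mem_centralizer_singleton_iff.mp (hZ hg)).symm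
  have hpow := fun n : ℕ => Cfsg.Agent.S1939.result P x hxP hwc n
  have hfix : ∀ y ∈ Subgroup.zpowers x, ∀ g : G, g * y * g⁻¹ ∈ (P : Subgroup G) → g * y * g⁻¹ = y := by
    intro y hy g hg
    obtain ⟨n, rfl⟩ := (mem_powers_iff_mem_zpowers.mpr hy)
    exact hpow n g hg
  have hxle : Subgroup.zpowers x ≤ (P : Subgroup G) := by rwa [Subgroup.zpowers_le]
  refine ⟨Subgroup.mem_inf.mpr ⟨hxP, ?_⟩, ⟨hxle, fun y hy g hg => by rw [hfix y hy g hg]; exact hy⟩, hxle, fun g hg => ?_⟩
  · rw [Subgroup.mem_centralizer_iff]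
    intro y hy
    exact Subgroup.mem_centralizer_singleton_iff.mp (hZ hy)
  · ext y
    constructor
    · rintro ⟨z, hz, rfl⟩
      have h1 := hg ⟨z, hz, rfl⟩
      have h2 := hfix z hz g (by simpa using h1)
      simpa [h2] using hz
    · intro hy
      have h1 := hg ⟨y, hy, rfl⟩
      have h2 := hfix y hy g (by simpa using h1)
      exact ⟨y, hy, by simpa using h2⟩

end Cfsg.Agent.S2968
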