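import Cfsg.Statements.S2971
import Cfsg.Agent.Lib.H8Isol
import Cfsg.Agent.S0126

set_option autoImplicit false
open Cfsg

set_option linter.style.haveILetI false
namespace Cfsg.Agent.S2971

/-- Let G be a finite group and p an odd prime such that G has p-rank at most 1 (no elementary abelian subgroup of order p²). If x ∈ G is an isolated element of order p, then x is central modulo the largest normal subgroup of G of order prime to p. -/
theorem result {G : Type*} [Group G] [Finite G] {p : ℕ} [Fact p.Prime] (hp : p ≠ 2) (hrk : Cfsg.PRankLE p 1 G) (x : G) (hx : orderOf x = p) (hiso : Cfsg.IsIsolated x) : Cfsg.InZStar p x := by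
  have hcyc : ∀ P : Sylow p G, IsCyclic ↥(P : Subgroup G) := by
    intro P
    by_contra hnc
    obtain ⟨A, hA, hAe, hAc⟩ := Cfsg.Agent.S0126.result hp P.isPGroup' hnc
    have h1 := hrk (A.map (P : Subgroup G).subtype) (by
      have := hAe.1
      exact Subgroup.map_isMulCommutative A _) (by
      rintro _ ⟨a, ha, rfl⟩
      rw [← map_pow, hAe.2 a ha, map_one])
    have h2 : Nat.card (A.map (P : Subgroup G).subtype) = Nat.card A :=
      (Nat.card_congr (Subgroup.equivMapOfInjective _ (P : Subgroup G).subtype (P : Subgroup G).subtype_injective).toEquiv).symm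
    rw [h2, hAc] at h1
    have h3 := (Fact.out : p.Prime).one_lt
    nlinarith
  have hx1 : x ≠ 1 := by
    intro h
    rw [h, orderOf_one] at hx
    exact (Fact.out : p.Prime).one_lt.ne hx
  have hnpc := CfsgLib.Isol.npc_of_cyclic ⟨1, by rw [hx, pow_one]⟩ hiso hx1 hcyc
  obtain ⟨P, N, hN, hc⟩ := hnpc
  have h1 := CfsgLib.Core.le_pPrimeCore hN (CfsgLib.NPC.of_isComplement' hc).1
  intro g
  apply h1
  have h2 : ∀ g : G, ∃ y ∈ (P : Subgroup G), (QuotientGroup.mk' N g) = QuotientGroup.mk' N y := by
    intro g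
    have h3 : g ∈ N ⊔ (P : Subgroup G) := by rw [hc.sup_eq_top]; exact Subgroup.mem_top g
    obtain ⟨n, hn, y, hy, rfl⟩ := Subgroup.mem_sup_of_normal_left.mp h3
    refine ⟨y, hy, ?_⟩
    have h4 : QuotientGroup.mk' N n = 1 := (QuotientGroup.eq_one_iff _).mpr hn
    rw [map_mul, h4, one_mul]
  have hPc : IsMulCommutative (P : Subgroup G) := by
    haveI := hcyc P
    infer_instance
  obtain ⟨a, ha, hga⟩ := h2 g
  obtain ⟨b, hb, hxb⟩ := h2 x
  rw [← QuotientGroup.eq_one_iff, ← QuotientGroup.mk'_apply, map_mul, map_mul, map_mul, map_inv, map_inv, hga, hxb]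
  have h5 : a * b = b * a := congrArg Subtype.val (hPc.is_comm.comm (⟨a, ha⟩ : (P : Subgroup G)) ⟨b, hb⟩)
  rw [← map_mul, h5, map_mul, mul_inv_cancel_right, mul_inv_cancel]

end Cfsg.Agent.S2971
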