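import Cfsg.Statements.S2975
import Cfsg.Agent.Lib.H8IsolSyl

set_option autoImplicit false
open Cfsg

set_option linter.style.haveILetI false
namespace Cfsg.Agent.S2975

/-- Let G be a finite group, p a prime and x ∈ G an isolated element of order p (the only conjugate of x commuting with x is x) which is not central modulo the largest normal subgroup of order prime to p, while x is central modulo the largest normal subgroup of order prime to p in every proper subgroup containing x, and the image of x is so in every quotient of G by a nontrivial normal subgroup (a minimal counterexample to the Z*_p statement). Then for every prime q, every q-subgroup of G that is normalized by x and maximal among the q-subgroups normalized by x is either trivial or a Sylow q-subgroup of G; and C_G(x) permutes the x-invariant Sylow q-subgroups of G transitively by conjugation. -/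
theorem result {G : Type*} [Group G] [Finite G] {p : ℕ} [Fact p.Prime] (x : G) (hx : orderOf x = p) (hiso : Cfsg.IsIsolated x) (hnz : ¬ Cfsg.InZStar p x) (hmin : ∀ (H : Subgroup G) (hxH : x ∈ H), H ≠ ⊤ → Cfsg.InZStar p (⟨x, hxH⟩ : ↥H)) (hquot : ∀ (N : Subgroup G) [N.Normal], N ≠ ⊥ → Cfsg.InZStar p (QuotientGroup.mk x : G ⧸ N)) (q : ℕ) [Fact q.Prime] : (∀ Q : Subgroup G, IsPGroup q ↥Q → x ∈ Subgroup.normalizer (Q : Set G) → (∀ R : Subgroup G, IsPGroup q ↥R → x ∈ Subgroup.normalizer (R : Set G) → Q ≤ R → R = Q) → Q = ⊥ ∨ ∃ S : Sylow q G, (S : Subgroup G) = Q) ∧ (∀ S₁ S₂ : Sylow q G, x ∈ Subgroup.normalizer ((S₁ : Subgroup G) : Set G) → x ∈ Subgroup.normalizer ((S₂ : Subgroup G) : Set G) → ∃ c ∈ Subgroup.centralizer ({x} : Set G), (S₁ : Subgroup G).map (MulAut.conj c).toMonoidHom = (S₂ : Subgroup G)) := by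
  have hx' : ∃ k : ℕ, orderOf x = p ^ k := ⟨1, by rw [hx, pow_one]⟩
  refine ⟨fun Q hQ hxQ hmax => ?_, fun S₁ S₂ h1 h2 => ?_⟩
  · by_cases hQb : Q = ⊥
    · exact Or.inl hQb
    right
    have hne : Subgroup.normalizer (Q : Set G) ≠ ⊤ := by
      intro htop
      haveI hn : Q.Normal := Subgroup.normalizer_eq_top_iff.mp htop
      by_cases hqp : q = p
      · subst hqp
        exact hQb (CfsgLib.Isol.not_normal_isPGroup hx hiso hnz hmin hquot hQ)
      · apply hQb
        have h1 : (Nat.card Q).Coprime p := by
          obtain ⟨k, hk⟩ := (IsPGroup.iff_card).mp hQ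
          rw [hk]
          exact Nat.Coprime.pow_left k ((Nat.coprime_primes Fact.out Fact.out).mpr hqp)
        have h2 := CfsgLib.Core.le_pPrimeCore hn h1
        rw [CfsgLib.Isol.core_bot hnz hquot, le_bot_iff] at h2
        exact h2
    exact CfsgLib.Isol.isSylow_of_max hx' hQ hxQ (hmin _ hxQ hne) hmax
  · obtain ⟨c, hc, hcP⟩ := CfsgLib.Isol.conj_sylow hx' hiso S₁ S₂ h1 h2
    refine ⟨c, Subgroup.mem_centralizer_singleton_iff.mpr hc, ?_⟩
    rw [← hcP, ← CfsgLib.Core.smul_eq_map_conj]
    rfl

end Cfsg.Agent.S2975
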