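import Cfsg.Statements.S3224
import Mathlib
import Cfsg.Agent.Lib.H3Max
import Cfsg.Agent.Lib.H9Na

set_option autoImplicit false
open Cfsg

set_option linter.style.haveILetI false
namespace Cfsg.Agent.S3224

open Subgroup in
theorem quat_central {S : Type*} [Group S] [Finite S] {m : ℕ} (e : S ≃* QuaternionGroup m) {x : S}
    (hx : orderOf x = 2) : x ∈ Subgroup.center S := by
  have hm : m ≠ 0 := by
    rintro rfl
    have : Finite (QuaternionGroup 0) := Finite.of_equiv S e.toEquiv
    have hinj : Function.Injective (fun i : ZMod (2 * 0) => (QuaternionGroup.a i : QuaternionGroup 0)) := by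
      intro i j h
      simpa using h
    have h2 : Finite (ZMod (2 * 0)) := Finite.of_injective _ hinj
    have h3 : Finite ℤ := h2
    exact not_finite ℤ
  haveI : NeZero m := ⟨hm⟩
  have hex : orderOf (e x) = 2 := by rw [MulEquiv.orderOf_eq, hx]
  have hc : ∀ g : QuaternionGroup m, g * e x = e x * g := by
    rcases h : e x with i | i
    · have h2 : (QuaternionGroup.a i : QuaternionGroup m) * QuaternionGroup.a i = 1 := by
        rw [← h, ← pow_two, ← hex, pow_orderOf_eq_one]
      rw [QuaternionGroup.a_mul_a, QuaternionGroup.one_def] at h2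
      have h3 : i + i = 0 := QuaternionGroup.a.inj h2
      have h4 : -i = i := by rw [neg_eq_iff_add_eq_zero]; exact h3
      rintro (j | j)
      · rw [QuaternionGroup.a_mul_a, QuaternionGroup.a_mul_a, add_comm]
      · rw [QuaternionGroup.xa_mul_a, QuaternionGroup.a_mul_xa, sub_eq_add_neg, h4]
    · rw [h, QuaternionGroup.orderOf_xa] at hex
      omega
  rw [Subgroup.mem_center_iff]
  intro g
  apply e.injective
  rw [map_mul, map_mul]
  exact hc _


/-- A finite 2-group containing an involution whose centralizer has order 4 is dihedral, quasi-dihedral (semidihedral), or of order 4. -/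
theorem result {S : Type*} [Group S] [Finite S] (hS : IsPGroup 2 S)
    (x : S) (hx : orderOf x = 2) (hC : Nat.card ↥(Subgroup.centralizer ({x} : Set S)) = 4) :
    (∃ n : ℕ, Nonempty (S ≃* DihedralGroup n)) ∨ Cfsg.IsQuasiDihedral S ∨ Nat.card S = 4 := by
  obtain ⟨n, hn⟩ := hS.exists_card_eq
  set A : Subgroup S := Subgroup.centralizer ({x} : Set S) with hA
  have hxA : x ∈ A := by
    rw [hA, Subgroup.mem_centralizer_singleton_iff]
  have hcA : Subgroup.centralizer (A : Set S) ≤ A := by
    intro g hg
    rw [hA, Subgroup.mem_centralizer_singleton_iff]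
    exact ((Subgroup.mem_centralizer_iff.1 hg) x hxA).symm
  have hA4 : Nat.card A = 2 ^ 2 := hC
  have hcl := CfsgLib.H3Max.suzuki n S A hn hA4 hcA
  have hdvd : Nat.card A ∣ Nat.card S := Subgroup.card_subgroup_dvd_card A
  rw [hA4, hn] at hdvd
  have hn2 : 2 ≤ n := (Nat.pow_dvd_pow_iff_le_right (by norm_num)).1 hdvd
  rcases Nat.eq_or_lt_of_le hn2 with h2 | h3
  · right; right
    rw [hn, ← h2]; norm_num
  · rcases CfsgLib.H9M.excl (by omega) hn hcl with h | h | h
    · left; exact h
    · exfalso
      obtain ⟨m, ⟨e⟩⟩ := h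
      have hxc := quat_central e hx
      have htop : A = ⊤ := by
        rw [eq_top_iff]
        intro g _
        rw [hA, Subgroup.mem_centralizer_singleton_iff]
        exact (Subgroup.mem_center_iff.1 hxc g)
      rw [htop, Subgroup.card_top, hn] at hA4
      have := Nat.pow_right_injective (le_refl 2) hA4
      omega
    · right; left; exact h

end Cfsg.Agent.S3224
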