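import Cfsg.Statements.S3494
import Cfsg.Agent.Lib.H5Ext4

set_option autoImplicit false
open Cfsg

namespace Cfsg.Agent.S3494

open MulAction CfsgLib.H5Ext
open scoped Pointwise

section
variable {G : Type*} [Group G] {Ω : Type*} [MulAction G Ω] (α ω : Ω)

def Arc (G : Type*) [Group G] {Ω : Type*} [MulAction G Ω] (α ω : Ω) (x y : Ω) : Prop := ∃ g : G, g • α = x ∧ g • ω = y

theorem arc_smul {x y : Ω} (h : Arc G α ω x y) (k : G) : Arc G α ω (k • x) (k • y) := by
  obtain ⟨g, rfl, rfl⟩ := h
  exact ⟨k * g, mul_smul _ _ _, mul_smul _ _ _⟩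

theorem arc_smul_iff {x y : Ω} (k : G) : Arc G α ω (k • x) (k • y) ↔ Arc G α ω x y := by
  constructor
  · intro h
    have := arc_smul α ω h k⁻¹
    rwa [inv_smul_smul, inv_smul_smul] at this
  · intro h; exact arc_smul α ω h k

def Ker (x : Ω) : Subgroup G where
  carrier := {k | k • x = x ∧ ∀ y, Arc G α ω x y → k • y = y}
  one_mem' := ⟨one_smul _ _, fun y _ => one_smul _ _⟩
  mul_mem' := by
    rintro a b ⟨ha, ha'⟩ ⟨hb, hb'⟩
    exact ⟨by rw [mul_smul, hb, ha], fun y hy => by rw [mul_smul, hb' y hy, ha' y hy]⟩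
  inv_mem' := by
    rintro a ⟨ha, ha'⟩
    exact ⟨by rw [inv_smul_eq_iff, ha], fun y hy => by rw [inv_smul_eq_iff, ha' y hy]⟩

theorem mem_ker {x : Ω} {k : G} : k ∈ Ker (G := G) α ω x ↔ k • x = x ∧ ∀ y, Arc G α ω x y → k • y = y := Iff.rfl

theorem ker_smul (x : Ω) (g : G) : Ker (G := G) α ω (g • x) = (Ker (G := G) α ω x).map (MulAut.conj g).toMonoidHom := by
  ext k
  constructor
  · rintro ⟨h1, h2⟩
    refine ⟨g⁻¹ * k * g, ⟨?_, ?_⟩, ?_⟩
    · rw [mul_smul, mul_smul, h1, inv_smul_smul]
    · intro y hy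
      rw [mul_smul, mul_smul, h2 _ (arc_smul α ω hy g), inv_smul_smul]
    · simp; group
  · rintro ⟨k, ⟨h1, h2⟩, rfl⟩
    refine ⟨?_, ?_⟩
    · change (g * k * g⁻¹) • g • x = g • x
      rw [mul_smul, mul_smul, inv_smul_smul, h1]
    · intro y hy
      change (g * k * g⁻¹) • y = y
      have := arc_smul α ω hy g⁻¹
      rw [inv_smul_smul] at this
      rw [mul_smul, mul_smul, h2 _ this, smul_inv_smul]

theorem card_fibers [Finite G] [Finite Ω] (htr : IsPretransitive G Ω) (x y : Ω) :
    Nat.card {b // Arc G α ω x b} = Nat.card {a // Arc G α ω a y} := by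
  classical
  have := Fintype.ofFinite Ω
  have h1 : ∀ x x' : Ω, Nat.card {b // Arc G α ω x b} = Nat.card {b // Arc G α ω x' b} := by
    intro x x'
    obtain ⟨g, rfl⟩ := htr.exists_smul_eq x x'
    exact Nat.card_congr ((MulAction.toPerm g).subtypeEquiv fun b => (arc_smul_iff α ω g).symm)
  have h2 : ∀ y y' : Ω, Nat.card {a // Arc G α ω a y} = Nat.card {a // Arc G α ω a y'} := by
    intro y y'
    obtain ⟨g, rfl⟩ := htr.exists_smul_eq y y'
    exact Nat.card_congr ((MulAction.toPerm g).subtypeEquiv fun b => (arc_smul_iff α ω g).symm)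
  have e : (Σ a, {b // Arc G α ω a b}) ≃ (Σ b, {a // Arc G α ω a b}) :=
    { toFun := fun p => ⟨p.2.1, p.1, p.2.2⟩
      invFun := fun p => ⟨p.2.1, p.1, p.2.2⟩
      left_inv := fun _ => rfl
      right_inv := fun _ => rfl }
  have h3 := Nat.card_congr e
  rw [Nat.card_sigma, Nat.card_sigma, Finset.sum_congr rfl (fun a _ => h1 a x),
    Finset.sum_congr rfl (fun b _ => h2 b y), Finset.sum_const, Finset.sum_const, smul_eq_mul, smul_eq_mul] at h3
  have h4 : 0 < (Finset.univ : Finset Ω).card := Finset.card_pos.mpr ⟨x, Finset.mem_univ _⟩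
  exact Nat.eq_of_mul_eq_mul_left h4 h3

end

/-- Manning's Theorem on extremely primitive groups. Let a finite group G act faithfully and primitively on a finite set Ω with non-trivial point stabilizers, and suppose every point stabilizer G_α acts primitively on each of its orbits. Then G_α acts faithfully on each of its orbits other than {α}: an element of G_α fixing every point of one such orbit is the identity. -/
theorem result {G : Type*} [Group G] [Finite G] {Ω : Type*} [Fintype Ω] [MulAction G Ω] [FaithfulSMul G Ω] (hprim : MulAction.IsPreprimitive G Ω) (hH : ∀ α : Ω, MulAction.stabilizer G α ≠ ⊥) (hep : ∀ (α : Ω) (ω : Ω), MulAction.IsPreprimitive (MulAction.stabilizer G α) (MulAction.orbit (MulAction.stabilizer G α) ω))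
    (α ω : Ω) (hω : ω ≠ α) (h : MulAction.stabilizer G α) (hfix : ∀ x ∈ MulAction.orbit (MulAction.stabilizer G α) ω, h • x = x) : h = 1 := by
  classical
  have hnt : Nontrivial Ω := ⟨⟨ω, α, hω⟩⟩
  have htrG : IsPretransitive G Ω := inferInstance
  have hcoH : IsCoatom (stabilizer G α) := (isCoatom_stabilizer_iff_preprimitive (G := G) (X := Ω) α).mpr hprim
  have hAαω : Arc G α ω α ω := ⟨1, one_smul _ _, one_smul _ _⟩
  have hHK : ∀ k ∈ stabilizer G α, ∀ y, Arc G α ω α y → Arc G α ω α (k • y) := by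
    intro k hk y hy
    have := arc_smul α ω hy k
    rwa [show k • α = α from hk] at this
  have hKH : Ker (G := G) α ω α ≤ stabilizer G α := fun k hk => hk.1
  have hKn : ∀ k ∈ Ker (G := G) α ω α, ∀ g ∈ stabilizer G α, g * k * g⁻¹ ∈ Ker (G := G) α ω α := by
    intro k hk g hg
    have h1 := ker_smul α ω α g
    rw [show g • α = α from hg] at h1
    rw [h1]
    exact ⟨k, hk, rfl⟩
  have hnorm : stabilizer G α ≤ Subgroup.normalizer (Ker (G := G) α ω α : Set G) := by
    intro g hg
    rw [← CfsgLib.Core.map_conj_eq_iff, ← ker_smul, show g • α = α from hg]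
  suffices hK : Ker (G := G) α ω α = ⊥ by
    have h1 : (h : G) ∈ Ker (G := G) α ω α := by
      refine ⟨h.2, ?_⟩
      rintro y ⟨g, hg, rfl⟩
      exact hfix _ ⟨⟨g, hg⟩, rfl⟩
    rw [hK, Subgroup.mem_bot] at h1
    exact Subtype.ext h1
  by_contra hK
  -- the normaliser of `K`
  have hbig : ∀ g ∈ Subgroup.normalizer (Ker (G := G) α ω α : Set G), g • α = α := by
    intro g hg
    by_contra hne
    have h1 : stabilizer G α < Subgroup.normalizer (Ker (G := G) α ω α : Set G) := by
      refine lt_of_le_of_ne hnorm ?_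
      intro h; rw [← h] at hg; exact hne hg
    have h2 := hcoH.2 _ h1
    have h3 : (Ker (G := G) α ω α).Normal := Subgroup.normalizer_eq_top_iff.mp h2
    apply hK
    rw [eq_bot_iff]
    intro k hk
    rw [Subgroup.mem_bot]
    apply FaithfulSMul.eq_of_smul_eq_smul (α := Ω)
    intro x
    obtain ⟨g, rfl⟩ := htrG.exists_smul_eq α x
    have h4 := hKH (h3.conj_mem k hk g⁻¹)
    rw [inv_inv] at h4
    have h5 : (g⁻¹ * k * g) • α = α := h4
    rw [mul_smul, mul_smul, inv_smul_eq_iff] at h5
    rw [h5, one_smul]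
  obtain ⟨β, γ, hβ, hγ, k, hk, hkγ⟩ : ∃ β γ, Arc G α ω α β ∧ Arc G α ω β γ ∧ ∃ k ∈ Ker (G := G) α ω α, k • γ ≠ γ := by
    by_contra hc
    push Not at hc
    obtain ⟨g, hg⟩ := htrG.exists_smul_eq α ω
    have h1 : Ker (G := G) α ω α ≤ Ker (G := G) α ω ω := fun k hk => ⟨hk.2 ω hAαω, fun y hy => hc ω y hAαω hy k hk⟩
    have h2 : Ker (G := G) α ω α = (Ker (G := G) α ω α).map (MulAut.conj g).toMonoidHom := by
      rw [← ker_smul, hg]
      apply Subgroup.eq_of_le_of_card_ge h1
      rw [← hg, ker_smul, Subgroup.card_map_of_injective (MulAut.conj g).injective]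
    have h3 := hbig g (CfsgLib.Core.map_conj_eq_iff.mp h2.symm)
    exact hω (hg.symm.trans h3)
  -- `K` is transitive on the orbit of `γ`
  have htrans : ∀ h ∈ stabilizer G α, ∃ k ∈ Ker (G := G) α ω α, h • γ = k • γ := by
    have hn : ((Ker (G := G) α ω α).subgroupOf (stabilizer G α)).Normal :=
      Subgroup.normal_subgroupOf_of_le_normalizer hnorm
    have hpr := hep α γ
    have hq : IsPretransitive ((Ker (G := G) α ω α).subgroupOf (stabilizer G α)) (orbit (stabilizer G α) γ) := by
      have hq : IsQuasiPreprimitive (stabilizer G α) (orbit (stabilizer G α) γ) := inferInstance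
      apply hq.isPretransitive_of_normal
      intro hfx
      have h1 : (⟨γ, mem_orbit_self γ⟩ : orbit (stabilizer G α) γ) ∈
          fixedPoints ((Ker (G := G) α ω α).subgroupOf (stabilizer G α)) (orbit (stabilizer G α) γ) := by
        rw [hfx]; trivial
      have h2 := h1 ⟨⟨k, hKH hk⟩, hk⟩
      exact hkγ (congrArg Subtype.val h2)
    intro h hh
    obtain ⟨⟨k, hk⟩, e⟩ := hq.exists_smul_eq ⟨γ, mem_orbit_self γ⟩ ⟨h • γ, ⟨⟨h, hh⟩, rfl⟩⟩
    exact ⟨k, hk, (congrArg Subtype.val e).symm⟩
  have hall : ∀ b, Arc G α ω α b → Arc G α ω b γ := by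
    intro b hb
    obtain ⟨g, hg, rfl⟩ := hb
    obtain ⟨g', hg', rfl⟩ := hβ
    -- `g • ω = h⁻¹ • (g' • ω)` with `h = g' g⁻¹`
    have hh : g' * g⁻¹ ∈ stabilizer G α := by
      rw [mem_stabilizer_iff, mul_smul]
      have : g⁻¹ • α = α := by rw [inv_smul_eq_iff]; exact hg.symm
      rw [this, hg']
    obtain ⟨m, hm, e⟩ := htrans _ hh
    have h1 : Arc G α ω (g' • ω) ((g' * g⁻¹) • γ) := by
      rw [e]
      have := arc_smul α ω hγ m
      rwa [hm.2 _ ⟨g', hg', rfl⟩] at this
    have h2 := arc_smul α ω h1 (g' * g⁻¹)⁻¹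
    rw [inv_smul_smul, ← mul_smul] at h2
    have : (g' * g⁻¹)⁻¹ * g' = g := by group
    rwa [this] at h2
  have hiff : ∀ b, Arc G α ω b γ ↔ Arc G α ω α b := by
    have h1 : {b | Arc G α ω α b} = {b | Arc G α ω b γ} := by
      apply Set.eq_of_subset_of_ncard_le
      · intro b hb; exact hall b hb
      · have := card_fibers (G := G) α ω htrG α γ
        exact this.ge
      · exact Set.toFinite _
    intro b
    exact (Set.ext_iff.mp h1 b).symm
  let S : Subgroup G :=
    { carrier := {g | ∀ x, Arc G α ω α x ↔ Arc G α ω α (g • x)}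
      one_mem' := fun x => by rw [one_smul]
      mul_mem' := fun {a b} ha hb x => by rw [mul_smul]; exact (hb x).trans (ha (b • x))
      inv_mem' := fun {a} ha x => by
        have := ha (a⁻¹ • x)
        rw [smul_inv_smul] at this
        exact this.symm }
  have hHS : stabilizer G α ≤ S := by
    intro g hg x
    have := arc_smul_iff (x := α) (y := x) α ω g
    rw [show g • α = α from hg] at this
    exact this.symm
  have hγS : stabilizer G γ ≤ S := by
    intro g hg x
    rw [← hiff, ← hiff]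
    have := arc_smul_iff (x := x) (y := γ) α ω g
    rw [show g • γ = γ from hg] at this
    exact this.symm
  rcases hcoH.le_iff.mp hHS with h1 | h1
  · obtain ⟨g, hg⟩ := htrG.exists_smul_eq ω α
    have h2 : g ∈ S := by rw [h1]; trivial
    have h3 := (h2 ω).mp hAαω
    rw [hg] at h3
    obtain ⟨g', e1, e2⟩ := h3
    exact hω (smul_left_cancel g' (e2.trans e1.symm))
  · rw [h1] at hγS
    obtain ⟨g, hg⟩ := htrG.exists_smul_eq α γ
    have h2 : stabilizer G γ = stabilizer G α := by
      apply Subgroup.eq_of_le_of_card_ge hγS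
      rw [← hg, stabilizer_smul_eq_stabilizer_map_conj, Subgroup.card_map_of_injective (MulAut.conj g).injective]
    have h3 : k ∈ stabilizer G γ := by rw [h2]; exact hKH hk
    exact hkγ h3

end Cfsg.Agent.S3494
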