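import Cfsg.Statements.S3495
import Cfsg.Agent.S3494

set_option autoImplicit false
open Cfsg

namespace Cfsg.Agent.S3495

open MulAction CfsgLib
open scoped Pointwise

/-- Let a finite group G act faithfully and primitively on a finite set Ω with non-trivial point stabilizers, each acting primitively on every one of its orbits (an extremely primitive group), and suppose G has an elementary abelian normal p-subgroup N acting regularly on Ω (affine type). Then every non-trivial subgroup M of a point stabilizer G_α that is normal in G_α has the same orbits on Ω as G_α, and normalizes no subgroup of N other than 1 and N. -/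
theorem result {G : Type*} [Group G] [Finite G] {Ω : Type*} [Fintype Ω] [MulAction G Ω] [FaithfulSMul G Ω] (hprim : MulAction.IsPreprimitive G Ω) (hH : ∀ α : Ω, MulAction.stabilizer G α ≠ ⊥) (hep : ∀ (α : Ω) (ω : Ω), MulAction.IsPreprimitive (MulAction.stabilizer G α) (MulAction.orbit (MulAction.stabilizer G α) ω))
    (N : Subgroup G) [N.Normal] (hNc : IsMulCommutative N) (p : ℕ) (hp : p.Prime) (hNp : ∀ n ∈ N, n ^ p = 1)
    (hNtr : MulAction.IsPretransitive N Ω) (hNreg : ∀ ω : Ω, MulAction.stabilizer N ω = ⊥) (α : Ω) (M : Subgroup G) (hM : M ≠ ⊥) (hMle : M ≤ MulAction.stabilizer G α)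
    (hMn : MulAction.stabilizer G α ≤ Subgroup.normalizer (M : Set G)) :
    (∀ ω : Ω, MulAction.orbit M ω = MulAction.orbit (MulAction.stabilizer G α) ω) ∧
    (∀ L : Subgroup G, L ≤ N → M ≤ Subgroup.normalizer (L : Set G) → L = ⊥ ∨ L = N) := by
  classical
  have htr : IsPretransitive G Ω := inferInstance
  have key : ∀ ω : Ω, MulAction.orbit M ω = MulAction.orbit (MulAction.stabilizer G α) ω := by
    intro ω
    apply Set.Subset.antisymm
    · rintro _ ⟨m, rfl⟩
      exact ⟨⟨m, hMle m.2⟩, rfl⟩
    · by_cases hω : ω = α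
      · subst hω
        rintro _ ⟨g, rfl⟩
        have : (g : G) • ω = ω := g.2
        exact ⟨1, (one_smul _ _).trans this.symm⟩
      · have hn : (M.subgroupOf (stabilizer G α)).Normal := Subgroup.normal_subgroupOf_of_le_normalizer hMn
        have hq : IsPretransitive (M.subgroupOf (stabilizer G α)) (orbit (stabilizer G α) ω) := by
          have hpr := hep α ω
          have hq : IsQuasiPreprimitive (stabilizer G α) (orbit (stabilizer G α) ω) := inferInstance
          apply hq.isPretransitive_of_normal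
          intro hfx
          apply hM
          rw [eq_bot_iff]
          intro m hm
          rw [Subgroup.mem_bot]
          have h1 := Cfsg.Agent.S3494.result hprim hH hep α ω hω ⟨m, hMle hm⟩ (by
            intro x hx
            have h2 : (⟨x, hx⟩ : orbit (stabilizer G α) ω) ∈
                fixedPoints (M.subgroupOf (stabilizer G α)) (orbit (stabilizer G α) ω) := by rw [hfx]; trivial
            exact congrArg Subtype.val (h2 ⟨⟨m, hMle hm⟩, hm⟩))
          exact congrArg Subtype.val h1
        intro x hx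
        obtain ⟨m, hm⟩ := hq.exists_smul_eq ⟨ω, mem_orbit_self ω⟩ ⟨x, hx⟩
        exact ⟨⟨m, m.2⟩, congrArg Subtype.val hm⟩
  refine ⟨key, ?_⟩
  intro L hLN hML
  by_cases hL : L = ⊥
  · exact Or.inl hL
  right
  have hreg : ∀ n ∈ N, n • α = α → n = 1 := by
    intro n hn h
    have h1 : (⟨n, hn⟩ : N) ∈ stabilizer N α := h
    rw [hNreg α, Subgroup.mem_bot] at h1
    exact congrArg Subtype.val h1
  have huniq : ∀ a ∈ N, ∀ b ∈ N, a • α = b • α → a = b := by
    intro a ha b hb h
    have : b⁻¹ * a = 1 := hreg _ (N.mul_mem (N.inv_mem hb) ha) (by rw [mul_smul, h, inv_smul_smul])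
    exact (inv_mul_eq_one.mp this).symm
  have hHL : ∀ h ∈ stabilizer G α, ∀ l ∈ L, h * l * h⁻¹ ∈ L := by
    intro h hh l hl
    have h1 : h • l • α ∈ MulAction.orbit (MulAction.stabilizer G α) (l • α) := ⟨⟨h, hh⟩, rfl⟩
    rw [← key] at h1
    obtain ⟨m, hm⟩ := h1
    have hm' : (m : G) • l • α = h • l • α := hm
    have hinv : ∀ g ∈ stabilizer G α, g⁻¹ • α = α := fun g hg => (stabilizer G α).inv_mem hg
    have h2 : ((m : G) * l * (m : G)⁻¹) • α = (h * l * h⁻¹) • α := by
      rw [mul_smul, mul_smul, hinv _ (hMle m.2), hm', mul_smul, mul_smul, hinv h hh]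
    have hNn : N.Normal := inferInstance
    have h3 := huniq _ (hNn.conj_mem l (hLN hl) m) _ (hNn.conj_mem l (hLN hl) h) h2
    rw [← h3]
    exact (Subgroup.mem_normalizer_iff.mp (hML m.2) l).mp hl
  have hLn : L.Normal := by
    constructor
    intro l hl g
    obtain ⟨n, hn⟩ := hNtr.exists_smul_eq α (g • α)
    have hn' : (n : G) • α = g • α := hn
    have h1 : (n : G)⁻¹ * g ∈ stabilizer G α := by
      rw [mem_stabilizer_iff, mul_smul, ← hn', inv_smul_smul]
    have h2 := hHL _ h1 l hl
    have h3 : g * l * g⁻¹ = n * ((n : G)⁻¹ * g * l * ((n : G)⁻¹ * g)⁻¹) * (n : G)⁻¹ := by group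
    rw [h3]
    have h4 : (n : G) * ((n : G)⁻¹ * g * l * ((n : G)⁻¹ * g)⁻¹) = ((n : G)⁻¹ * g * l * ((n : G)⁻¹ * g)⁻¹) * n :=
      congrArg Subtype.val (hNc.is_comm.comm n ⟨_, hLN h2⟩)
    rw [h4, mul_inv_cancel_right]
    exact h2
  have hLtr := H5Perm2.transitive_of_normal hprim L hLn hL
  apply le_antisymm hLN
  intro n hn
  obtain ⟨l, hl⟩ := hLtr.exists_smul_eq α (n • α)
  have hl' : (l : G) • α = n • α := hl
  rw [← huniq _ (hLN l.2) n hn hl']
  exact l.2

end Cfsg.Agent.S3495
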