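import Cfsg.Statements.S3496
import Cfsg.Agent.Lib.H5Semilin
import Cfsg.Agent.Lib.H5Prim
import Cfsg.Agent.Lib.Solv
import Cfsg.Agent.S3494

set_option autoImplicit false
open Cfsg

namespace Cfsg.Agent.S3496

open MulAction

theorem fitting_ne_bot {G : Type*} [Group G] [Finite G] (hs : Group.IsSolvable G) (hnt : Nontrivial G) :
    Cfsg.fittingSubgroup G ≠ ⊥ := by
  intro h
  have h1 := CfsgLib.Solv.centralizer_fitting_le hs
  rw [h] at h1
  obtain ⟨x, hx⟩ := exists_ne (1 : G)
  apply hx
  have : x ∈ Subgroup.centralizer ((⊥ : Subgroup G) : Set G) := by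
    rw [Subgroup.mem_centralizer_iff]
    intro y hy
    rw [Subgroup.coe_bot, Set.mem_singleton_iff] at hy
    rw [hy]; simp
  exact Subgroup.mem_bot.mp (h1 this)

/-- The soluble extremely primitive groups. Let a finite solvable group G act faithfully and primitively on a finite set Ω with p ^ d points (p prime), with non-trivial point stabilizers each acting primitively on every one of its orbits. Then there is a prime q such that every orbit of a point stabilizer G_α other than {α} has exactly q points, q divides p ^ d − 1 but no p ^ i − 1 with 0 < i < d, and G_α has a normal subgroup T of order q with G_α generated by T and one further element and the order of G_α dividing q·d (so G_α is cyclic of order q, or an extension of T by a cyclic group of order dividing d). -/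
theorem result {G : Type*} [Group G] [Finite G] {Ω : Type*} [Fintype Ω] [MulAction G Ω] [FaithfulSMul G Ω] [Group.IsSolvable G] (p d : ℕ) (hp : p.Prime) (hcard : Fintype.card Ω = p ^ d)
    (hprim : MulAction.IsPreprimitive G Ω) (hH : ∀ α : Ω, MulAction.stabilizer G α ≠ ⊥) (hep : ∀ (α : Ω) (ω : Ω), MulAction.IsPreprimitive (MulAction.stabilizer G α) (MulAction.orbit (MulAction.stabilizer G α) ω)) (α : Ω) :
    ∃ q : ℕ, q.Prime ∧ (∀ ω : Ω, ω ≠ α → Nat.card (MulAction.orbit (MulAction.stabilizer G α) ω) = q) ∧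
      q ∣ p ^ d - 1 ∧ (∀ i : ℕ, 0 < i → i < d → ¬ q ∣ p ^ i - 1) ∧
      ∃ T : Subgroup G, T ≤ MulAction.stabilizer G α ∧ MulAction.stabilizer G α ≤ Subgroup.normalizer (T : Set G) ∧ Nat.card T = q ∧
        (∃ h : G, MulAction.stabilizer G α = T ⊔ Subgroup.zpowers h) ∧ Nat.card (MulAction.stabilizer G α) ∣ q * d := by
  classical
  haveI : Fact p.Prime := ⟨hp⟩
  have htrG : IsPretransitive G Ω := inferInstance
  -- the stabilizer
  obtain ⟨H, hHdef⟩ : ∃ H, H = stabilizer G α := ⟨_, rfl⟩
  have hHnt : Nontrivial H := (Subgroup.nontrivial_iff_ne_bot H).mpr (hHdef ▸ hH α)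
  have hGnt : Nontrivial G := by
    obtain ⟨x, y, hxy⟩ := hHnt
    exact ⟨⟨x, y, fun h => hxy (Subtype.ext h)⟩⟩
  have hGs : Group.IsSolvable G := inferInstance
  have hHs : Group.IsSolvable H := inferInstance
  -- the socle of `G`
  obtain ⟨N, hNdef⟩ : ∃ N, N = Cfsg.fittingSubgroup G := ⟨_, rfl⟩
  obtain ⟨hNab, ⟨p', hp', hNexp, e', hNcard'⟩, hNcen, hNtr, hNcard⟩ := CfsgLib.H5Prim.prim_fitting hprim (fitting_ne_bot hGs hGnt) α
  rw [← hNdef] at hNab hNexp hNcard' hNcen hNtr hNcard
  have hNn : N.Normal := hNdef ▸ CfsgLib.Core.fitting_normal G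
  rw [Nat.card_eq_fintype_card (α := Ω), hcard] at hNcard
  have hd : 0 < d := by
    rcases Nat.eq_zero_or_pos d with rfl | h
    · exfalso
      rw [pow_zero, Subgroup.card_eq_one] at hNcard
      exact fitting_ne_bot hGs hGnt (hNdef ▸ hNcard)
    · exact h
  have hpp : p' = p := by
    have h1 : p ∣ p' ^ e' := by rw [← hNcard', hNcard]; exact dvd_pow_self p hd.ne'
    exact ((Nat.prime_dvd_prime_iff_eq hp hp').mp (hp.dvd_of_dvd_pow h1)).symm
  subst hpp
  have hΩnt : Nontrivial Ω := by
    rw [← Fintype.one_lt_card_iff_nontrivial, hcard]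
    exact Nat.one_lt_pow hd.ne' hp.one_lt
  -- regularity
  have hreg : ∀ n ∈ N, n • α = α → n = 1 := by
    intro n hn h
    exact CfsgLib.H5Perm2.eq_one_of_comm N hNtr (fun a ha => hNab a ha n hn) h
  have hreg2 : ∀ n ∈ N, ∀ n' ∈ N, n • α = n' • α → n = n' := by
    intro n hn n' hn' h
    have := hreg (n'⁻¹ * n) (N.mul_mem (N.inv_mem hn') hn) (by rw [mul_smul, h, inv_smul_smul])
    exact (inv_mul_eq_one.mp this).symm
  have hNsurj : ∀ ω : Ω, ∃ n ∈ N, n • α = ω := by
    intro ω
    obtain ⟨n, hn⟩ := hNtr.exists_smul_eq α ω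
    exact ⟨n, n.2, hn⟩
  -- the Fitting subgroup of `H`
  have hfaithful : ∀ ω : Ω, ω ≠ α → FaithfulSMul (stabilizer G α) (orbit (stabilizer G α) ω) := by
    intro ω hω
    constructor
    intro a b hab
    have := Cfsg.Agent.S3494.result hprim hH hep α ω hω (b⁻¹ * a) (by
      intro x hx
      have h1 := congrArg Subtype.val (hab ⟨x, hx⟩)
      change (a : stabilizer G α) • x = b • x at h1
      rw [mul_smul, h1, inv_smul_smul])
    exact (inv_mul_eq_one.mp this).symm
  obtain ⟨M, hMdef⟩ : ∃ M, M = Cfsg.fittingSubgroup (stabilizer G α) := ⟨_, rfl⟩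
  subst hHdef
  have hMb : M ≠ ⊥ := hMdef ▸ fitting_ne_bot hHs hHnt
  have hMn : M.Normal := hMdef ▸ CfsgLib.Core.fitting_normal _
  have key : ∀ ω : Ω, ω ≠ α → (∀ x ∈ M, ∀ y ∈ M, x * y = y * x) ∧
    (∃ p : ℕ, p.Prime ∧ (∀ x ∈ M, x ^ p = 1) ∧ ∃ e, Nat.card M = p ^ e) ∧
    Subgroup.centralizer (M : Set (stabilizer G α)) = M ∧
    IsPretransitive M (orbit (stabilizer G α) ω) ∧ Nat.card M = Nat.card (orbit (stabilizer G α) ω) := by
    intro ω hω
    rw [hMdef]
    haveI := hfaithful ω hω
    exact CfsgLib.H5Prim.prim_fitting (hep α ω) (fitting_ne_bot hHs hHnt) ⟨ω, mem_orbit_self ω⟩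
  obtain ⟨ω0, hω0⟩ := exists_ne α
  obtain ⟨hMab, ⟨q, hq, hMexp, e, hMcard⟩, hMcen, -, -⟩ := key ω0 hω0
  -- the action on `N`
  letI : CommGroup N := { (inferInstance : Group N) with mul_comm := fun a b => Subtype.ext (hNab a a.2 b b.2) }
  let f : stabilizer G α →* AddMonoid.End (Additive N) :=
    { toFun := fun h => MonoidHom.toAdditive
        { toFun := fun v : N => (⟨(h : G) * v * (h : G)⁻¹, hNn.conj_mem v v.2 h⟩ : N)
          map_one' := Subtype.ext (by simp)
          map_mul' := fun v w => Subtype.ext (by simp) }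
      map_one' := AddMonoidHom.ext fun v => Additive.toMul.injective (Subtype.ext (by
        change (1 : G) * ((Additive.toMul v : N) : G) * (1 : G)⁻¹ = ((Additive.toMul v : N) : G)
        rw [one_mul, inv_one, mul_one]))
      map_mul' := fun g h => AddMonoidHom.ext fun v => Additive.toMul.injective (Subtype.ext (by
        change ((g : G) * h) * ((Additive.toMul v : N) : G) * ((g : G) * h)⁻¹ = g * (h * ((Additive.toMul v : N) : G) * (h : G)⁻¹) * (g : G)⁻¹
        group)) }
  have hf : ∀ (h : stabilizer G α) (v : Additive N), ((Additive.toMul ((f h : Additive N →+ Additive N) v) : N) : G) = (h : G) * (Additive.toMul v : N) * (h : G)⁻¹ := fun h v => rfl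
  have hfinj : Function.Injective f := by
    rw [injective_iff_map_eq_one]
    intro h hh
    have h1 : (h : G) ∈ N := by
      rw [← hNcen, Subgroup.mem_centralizer_iff]
      intro x hx
      have h5 : (h : G) * x * (h : G)⁻¹ = x := congrArg (fun f : AddMonoid.End (Additive N) =>
        ((Additive.toMul ((f : Additive N →+ Additive N) (Additive.ofMul ⟨x, hx⟩)) : N) : G)) hh
      exact (mul_inv_eq_iff_eq_mul.mp h5).symm
    exact Subtype.ext (hreg _ h1 h.2)
  have hfirr : ∀ W : AddSubgroup (Additive N), (∀ m ∈ M, ∀ w ∈ W, (f m : Additive N →+ Additive N) w ∈ W) → W = ⊥ ∨ W = ⊤ := by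
    intro W hW
    obtain ⟨X, hX⟩ : ∃ X : Subgroup G, ∀ g, g ∈ X ↔ ∃ w ∈ W, ((Additive.toMul w : N) : G) = g := by
      refine ⟨(AddSubgroup.toSubgroup' W).map N.subtype, ?_⟩
      intro g
      constructor
      · rintro ⟨w, hw, rfl⟩
        exact ⟨Additive.ofMul w, hw, rfl⟩
      · rintro ⟨w, hw, rfl⟩
        exact ⟨Additive.toMul w, hw, rfl⟩
    have hXN : X ≤ N := by
      intro g hg
      obtain ⟨w, hw, rfl⟩ := (hX g).mp hg
      exact (Additive.toMul w : N).2
    have hXn : X.Normal := by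
      constructor
      intro x hx g
      -- `g = n * h`
      obtain ⟨n, hn, hng⟩ := hNsurj (g • α)
      have hst : n⁻¹ * g ∈ stabilizer G α := by
        rw [mem_stabilizer_iff, mul_smul, ← hng, inv_smul_smul]
      obtain ⟨h, hh⟩ : ∃ h : stabilizer G α, (h : G) = n⁻¹ * g := ⟨⟨_, hst⟩, rfl⟩
      have hg : g = n * h := by rw [hh]; group
      have h1 : (h : G) * x * (h : G)⁻¹ ∈ X := by
        by_cases hx1 : x = 1
        · rw [hx1, mul_one, mul_inv_cancel]; exact X.one_mem
        · have hxα : x • α ≠ α := fun h' => hx1 (hreg x (hXN hx) h')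
          obtain ⟨-, -, -, htr, -⟩ := key (x • α) hxα
          obtain ⟨m, hm⟩ := htr.exists_smul_eq (⟨x • α, mem_orbit_self _⟩ : orbit (stabilizer G α) (x • α)) ⟨h • x • α, ⟨h, rfl⟩⟩
          have hm' : ((m : stabilizer G α) : G) • x • α = (h : G) • x • α := congrArg Subtype.val hm
          have h2 : ((m : stabilizer G α) : G) * x * ((m : stabilizer G α) : G)⁻¹ = (h : G) * x * (h : G)⁻¹ := by
            apply hreg2 _ (hNn.conj_mem _ (hXN hx) _) _ (hNn.conj_mem _ (hXN hx) _)
            have e1 : ((m : stabilizer G α) : G)⁻¹ • α = α := by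
              rw [inv_smul_eq_iff]; exact (m : stabilizer G α).2.symm
            have e2 : (h : G)⁻¹ • α = α := by
              rw [inv_smul_eq_iff]; exact h.2.symm
            rw [mul_smul, mul_smul, e1, mul_smul, mul_smul, e2, hm']
          rw [← h2]
          obtain ⟨w, hw, hwx⟩ := (hX x).mp hx
          rw [hX]
          refine ⟨_, hW m m.2 w hw, ?_⟩
          rw [hf, hwx]
      have h2 : g * x * g⁻¹ = (h : G) * x * (h : G)⁻¹ := by
        rw [hg]
        have h3 := hNab n hn _ (hXN h1)
        calc n * (h : G) * x * (n * (h : G))⁻¹ = n * ((h : G) * x * (h : G)⁻¹) * n⁻¹ := by group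
          _ = _ := by rw [h3]; group
      rw [h2]; exact h1
    by_cases hXb : X = ⊥
    · left
      rw [AddSubgroup.eq_bot_iff_forall]
      intro w hw
      have : ((Additive.toMul w : N) : G) ∈ X := (hX _).mpr ⟨w, hw, rfl⟩
      rw [hXb, Subgroup.mem_bot] at this
      exact Additive.toMul.injective (Subtype.ext this)
    · right
      have htrX := CfsgLib.H5Perm2.transitive_of_normal hprim X hXn hXb
      rw [eq_top_iff]
      intro w _
      obtain ⟨x, hx⟩ := htrX.exists_smul_eq α (((Additive.toMul w : N) : G) • α)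
      have h1 := hreg2 _ (hXN x.2) _ (Additive.toMul w : N).2 hx
      obtain ⟨w', hw', hww⟩ := (hX x).mp x.2
      have : w' = w := Additive.toMul.injective (Subtype.ext (hww.trans h1))
      rw [← this]; exact hw'
  have hVcard : Nat.card (Additive N) = p' ^ d := hNcard
  haveI : Finite (Additive N) := inferInstanceAs (Finite N)
  obtain ⟨h1, h2, h3, h4, h, h5⟩ := CfsgLib.H5Semilin.main_add (p := p') f (by
    intro v
    apply Additive.toMul.injective
    apply Subtype.ext
    change ((Additive.toMul v : N) ^ p' : N).val = 1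
    rw [Subgroup.coe_pow]; exact hNexp _ (Additive.toMul v : N).2) hVcard hd hfinj M hMn hMab hMb q hq hMexp hMcen hfirr
  refine ⟨q, hq, ?_, h2, h3, M.map (stabilizer G α).subtype, ?_, ?_, ?_, ⟨h, ?_⟩, h4⟩
  · intro ω hω
    rw [← (key ω hω).2.2.2.2, h1]
  · rintro _ ⟨m, -, rfl⟩
    exact m.2
  · intro g hg
    rw [Subgroup.mem_normalizer_iff]
    have hfw : ∀ g : stabilizer G α, ∀ x : G, x ∈ M.map (stabilizer G α).subtype → (g : G) * x * (g : G)⁻¹ ∈ M.map (stabilizer G α).subtype := by
      rintro g _ ⟨m, hm, rfl⟩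
      exact ⟨g * m * g⁻¹, hMn.conj_mem m hm g, rfl⟩
    intro x
    constructor
    · intro hx; exact hfw ⟨g, hg⟩ x hx
    · intro hx
      have := hfw ⟨g, hg⟩⁻¹ _ hx
      change g⁻¹ * (g * x * g⁻¹) * g⁻¹⁻¹ ∈ _ at this
      have e1 : g⁻¹ * (g * x * g⁻¹) * g⁻¹⁻¹ = x := by group
      rwa [e1] at this
  · rw [Subgroup.card_map_of_injective (Subgroup.subtype_injective _), h1]
  · have := congrArg (Subgroup.map (stabilizer G α).subtype) h5
    rw [Subgroup.map_sup, MonoidHom.map_zpowers, ← MonoidHom.range_eq_map, Subgroup.range_subtype] at this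
    exact this.symm

end Cfsg.Agent.S3496
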