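import Cfsg.Statements.S3497
import Cfsg.Agent.S3494
import Cfsg.Agent.Lib.H5Prim

set_option autoImplicit false
open Cfsg

namespace Cfsg.Agent.S3497

open MulAction CfsgLib.H5Ext CfsgLib.H5Prim CfsgLib
open scoped Pointwise

theorem faithful_orbit {G : Type*} [Group G] [Finite G] {Ω : Type*} [Fintype Ω] [MulAction G Ω] [FaithfulSMul G Ω] (hprim : MulAction.IsPreprimitive G Ω) (hH : ∀ α : Ω, MulAction.stabilizer G α ≠ ⊥) (hep : ∀ (α : Ω) (ω : Ω), MulAction.IsPreprimitive (MulAction.stabilizer G α) (MulAction.orbit (MulAction.stabilizer G α) ω))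
    (α ω : Ω) (hω : ω ≠ α) : FaithfulSMul (stabilizer G α) (orbit (stabilizer G α) ω) := by
  constructor
  intro a b h
  have h1 := Cfsg.Agent.S3494.result hprim hH hep α ω hω (b⁻¹ * a) (by
    intro x hx
    have h2 : a • x = b • x := congrArg Subtype.val (h ⟨x, hx⟩)
    rw [mul_smul, h2, inv_smul_smul])
  exact (inv_mul_eq_one.mp h1).symm

theorem stab_ne {G : Type*} [Group G] {Ω : Type*} [MulAction G Ω] (htr : IsPretransitive G Ω)
    (α : Ω) (h : stabilizer G α ≠ ⊥) : ∀ β : Ω, stabilizer G β ≠ ⊥ := by
  intro β hβ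
  apply h
  obtain ⟨g, rfl⟩ := htr.exists_smul_eq α β
  rw [stabilizer_smul_eq_stabilizer_map_conj] at hβ
  exact (Subgroup.map_eq_bot_iff_of_injective _ (MulAut.conj g).injective).mp hβ

/-- Restrictions on the point stabilizer of an extremely primitive group. Let a finite group G act faithfully and primitively on a finite set Ω with point stabilizers H = G_α whose order is neither 1 nor a prime, each acting primitively on every one of its orbits. Then H has trivial center, the Fitting subgroup F(H) is an elementary abelian p-group for some prime p, and if F(H) ≠ 1 has order p ^ e then p ^ e divides the number of points minus one and H / F(H) embeds in GL_e(p) (there is a homomorphism from H to GL_e(p) with kernel exactly F(H)). -/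
theorem result {G : Type*} [Group G] [Finite G] {Ω : Type*} [Fintype Ω] [MulAction G Ω] [FaithfulSMul G Ω] (hprim : MulAction.IsPreprimitive G Ω) (hep : ∀ (α : Ω) (ω : Ω), MulAction.IsPreprimitive (MulAction.stabilizer G α) (MulAction.orbit (MulAction.stabilizer G α) ω)) (α : Ω)
    (hH1 : MulAction.stabilizer G α ≠ ⊥) (hHp : ¬ (Nat.card (MulAction.stabilizer G α)).Prime) :
    Subgroup.center (MulAction.stabilizer G α) = ⊥ ∧
    IsMulCommutative (Cfsg.fittingSubgroup (MulAction.stabilizer G α)) ∧
    ∃ p e : ℕ, p.Prime ∧ Nat.card (Cfsg.fittingSubgroup (MulAction.stabilizer G α)) = p ^ e ∧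
      (∀ x ∈ Cfsg.fittingSubgroup (MulAction.stabilizer G α), x ^ p = 1) ∧
      (Cfsg.fittingSubgroup (MulAction.stabilizer G α) ≠ ⊥ →
        p ^ e ∣ Fintype.card Ω - 1 ∧
        ∃ φ : MulAction.stabilizer G α →* GL (Fin e) (ZMod p), φ.ker = Cfsg.fittingSubgroup (MulAction.stabilizer G α)) := by
  classical
  have htr : IsPretransitive G Ω := inferInstance
  have hH := stab_ne htr α hH1
  obtain ⟨ω, hω⟩ : ∃ ω : Ω, ω ≠ α := by
    by_contra hc
    push Not at hc
    apply hH1
    rw [eq_bot_iff]
    intro g _
    rw [Subgroup.mem_bot]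
    apply FaithfulSMul.eq_of_smul_eq_smul (α := Ω)
    intro x
    rw [hc x, hc (g • α), hc ((1 : G) • α)]
  have hFc : ∀ ω : Ω, ω ≠ α → FaithfulSMul (stabilizer G α) (orbit (stabilizer G α) ω) :=
    fun ω hω => faithful_orbit hprim hH hep α ω hω
  by_cases hF : Cfsg.fittingSubgroup (stabilizer G α) = ⊥
  · have hZF : Subgroup.center (stabilizer G α) ≤ Cfsg.fittingSubgroup (stabilizer G α) :=
      Core.le_fitting inferInstance (by
        let _ : CommGroup (Subgroup.center (stabilizer G α)) :=
          { (inferInstance : Group (Subgroup.center (stabilizer G α))) with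
            mul_comm := fun a b => Subtype.ext (Subgroup.mem_center_iff.mp b.2 a) }
        exact CommGroup.isNilpotent)
    refine ⟨le_bot_iff.mp (hF ▸ hZF), ?_, 2, 0, Nat.prime_two, ?_, ?_, ?_⟩
    · rw [hF]; infer_instance
    · rw [hF]; simp
    · intro x hx
      rw [hF, Subgroup.mem_bot] at hx
      rw [hx, one_pow]
    · intro h; exact absurd hF h
  · have hfaith := hFc ω hω
    obtain ⟨h1, ⟨p, hp, hexp, e, he⟩, h3, h4, h5⟩ := prim_fitting (hep α ω) hF ⟨ω, mem_orbit_self ω⟩
    have : Fact p.Prime := ⟨hp⟩
    refine ⟨?_, ⟨⟨fun a b => Subtype.ext (h1 a a.2 b b.2)⟩⟩, p, e, hp, he, hexp, fun _ => ⟨?_, ?_⟩⟩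
    · -- trivial center
      by_contra hZ
      have hZn : (Subgroup.center (stabilizer G α)).Normal := inferInstance
      have hZtr := H5Perm2.transitive_of_normal (hep α ω) _ hZn hZ
      -- everything commutes with the centre hence is determined by action on `ω`
      have hZtop : Subgroup.center (stabilizer G α) = ⊤ := by
        rw [eq_top_iff]
        intro g _
        obtain ⟨z, hz⟩ := hZtr.exists_smul_eq ⟨ω, mem_orbit_self ω⟩ (g • ⟨ω, mem_orbit_self ω⟩)
        have h6 : (z : stabilizer G α)⁻¹ * g = 1 := by
          apply H5Perm2.eq_one_of_comm _ hZtr (ω := (⟨ω, mem_orbit_self ω⟩ : orbit (stabilizer G α) ω))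
          · intro a ha
            exact (Subgroup.mem_center_iff.mp ha _).symm
          · have e1 : (z : stabilizer G α) • (⟨ω, mem_orbit_self ω⟩ : orbit (stabilizer G α) ω) =
              g • ⟨ω, mem_orbit_self ω⟩ := hz
            rw [mul_smul, ← e1, inv_smul_smul]
        rw [← inv_mul_eq_one.mp h6]
        exact z.2
      -- so `H` is abelian and regular; point stabilisers are maximal
      apply hHp
      have hcomm : ∀ a b : stabilizer G α, a * b = b * a := by
        intro a b
        have : b ∈ Subgroup.center (stabilizer G α) := by rw [hZtop]; trivial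
        exact Subgroup.mem_center_iff.mp this a
      have hnt : Nontrivial (orbit (stabilizer G α) ω) := by
        obtain ⟨g, hg⟩ := (Subgroup.ne_bot_iff_exists_ne_one.mp hH1)
        by_contra hc
        rw [not_nontrivial_iff_subsingleton] at hc
        apply hg
        apply FaithfulSMul.eq_of_smul_eq_smul (α := orbit (stabilizer G α) ω)
        intro x
        exact Subsingleton.elim _ _
      have hco : IsCoatom (stabilizer (stabilizer G α) (⟨ω, mem_orbit_self ω⟩ : orbit (stabilizer G α) ω)) :=
        (isCoatom_stabilizer_iff_preprimitive (G := stabilizer G α) (X := orbit (stabilizer G α) ω) _).mpr (hep α ω)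
      have hb : stabilizer (stabilizer G α) (⟨ω, mem_orbit_self ω⟩ : orbit (stabilizer G α) ω) = ⊥ := by
        rw [eq_bot_iff]
        intro g hg
        rw [Subgroup.mem_bot]
        apply H5Perm2.eq_one_of_comm (⊤ : Subgroup (stabilizer G α)) ?_ (fun a _ => hcomm a g) hg
        constructor
        intro x y
        obtain ⟨g, hg⟩ := (hep α ω).exists_smul_eq x y
        exact ⟨⟨g, trivial⟩, hg⟩
      rw [hb] at hco
      -- `⊥` is a coatom : prime order
      have hcard : Nat.card (stabilizer G α) ≠ 1 := by rwa [Ne, Subgroup.card_eq_one]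
      obtain ⟨r, hr, hrd⟩ := Nat.exists_prime_and_dvd hcard
      have : Fact r.Prime := ⟨hr⟩
      obtain ⟨g, hg⟩ := exists_prime_orderOf_dvd_card' r hrd
      have h7 : Subgroup.zpowers g = ⊤ := hco.2 _ (by
        rw [bot_lt_iff_ne_bot, Ne, Subgroup.zpowers_eq_bot]
        rintro rfl
        rw [orderOf_one] at hg
        exact hr.one_lt.ne hg)
      rw [← Subgroup.card_top (G := stabilizer G α), ← h7, Nat.card_zpowers, hg]
      exact hr
    · -- divisibility
      have h6 : p ^ e ∣ ({α}ᶜ : Set Ω).ncard := by
        apply H5Perm.dvd_ncard_of_orbits (H := stabilizer G α) ({α}ᶜ : Set Ω) (Set.toFinite _)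
        · intro h x hx hc
          apply hx
          have hc' : (h : G) • x = α := hc
          have h7 : (h : G) • x = (h : G) • α := by rw [hc', show (h : G) • α = α from h.2]
          exact smul_left_cancel _ h7
        · intro x hx
          have hfaith := hFc x hx
          obtain ⟨-, -, -, -, h8⟩ := prim_fitting (hep α x) hF ⟨x, mem_orbit_self x⟩
          rw [← he, h8]
          exact dvd_rfl
      have h7 : ({α}ᶜ : Set Ω).ncard = Fintype.card Ω - 1 := by
        rw [Set.ncard_compl, Set.ncard_singleton, Nat.card_eq_fintype_card]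
      rwa [h7] at h6
    · obtain ⟨φ, hφ⟩ := exists_glHom (p := p) (e := e) (Cfsg.fittingSubgroup (stabilizer G α)) (Core.fitting_normal _) h1 hexp he
      exact ⟨φ, hφ.trans h3⟩

end Cfsg.Agent.S3497
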