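import Cfsg.Statements.S3501
import Cfsg.Agent.Lib.H5Perm4

set_option autoImplicit false
open Cfsg

namespace Cfsg.Agent.S3501

open MulAction CfsgLib.H5Sylow CfsgLib.H5MinNormal CfsgLib.H5Perm2 CfsgLib.H5Perm3 CfsgLib.H5Perm4

/-- a primitive group which is not almost simple and has no three pairwise non-conjugate
derangements has an abelian minimal normal subgroup -/
theorem abelian_min {G Ω : Type*} [Group G] [Finite G] [MulAction G Ω] [FaithfulSMul G Ω] [Finite Ω]
    (hprim : IsPreprimitive G Ω) (hΩ : 1 < Nat.card Ω)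
    (hnas : ¬ ∃ T : Subgroup G, T.Normal ∧ IsSimpleGroup T ∧ ¬ IsMulCommutative T ∧
      Subgroup.centralizer (T : Set G) = ⊥)
    (h3 : ∀ a b c : G, Der Ω a → Der Ω b → Der Ω c → IsConj a b ∨ IsConj a c ∨ IsConj b c) :
    ∃ N : Subgroup G, IsMinNormal N ∧ (∀ a ∈ N, ∀ b ∈ N, a * b = b * a) ∧
      IsPretransitive N Ω ∧ ∀ n ∈ N, n ≠ 1 → Der Ω n := by
  have hGne : (⊤ : Subgroup G) ≠ ⊥ := by
    intro h
    obtain ⟨g, hg⟩ := exists_derangement hprim.toIsPretransitive hΩ
    have h1 : g ∈ (⊤ : Subgroup G) := trivial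
    rw [h, Subgroup.mem_bot] at h1
    obtain ⟨ω⟩ : Nonempty Ω := by rw [← Finite.card_pos_iff]; omega
    exact hg ω (by rw [h1, one_smul])
  obtain ⟨N, -, hN⟩ := exists_isMinNormal (⊤ : Subgroup G) inferInstance hGne
  have htr := transitive_of_normal hprim N hN.1 hN.2.1
  by_cases hab : ∀ a ∈ N, ∀ b ∈ N, a * b = b * a
  · refine ⟨N, hN, hab, htr, ?_⟩
    intro n hn hn1 ω hω
    exact hn1 (eq_one_of_comm N htr (b := n) (fun x hx => hab x hx n hn) hω)
  · exfalso
    obtain ⟨a, b, c, ha, hb, hc, h1, h2, h4⟩ := three_classes hprim hΩ hnas hN hab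
    rcases h3 a b c ha hb hc with h | h | h
    · exact h1 h
    · exact h2 h
    · exact h4 h

theorem fix_one_outside {G Ω : Type*} [Group G] [Finite G] [MulAction G Ω] [Finite Ω]
    (htr : IsPretransitive G Ω) {N : Subgroup G} (h : ∀ g : G, Der Ω g → g ∈ N) {g : G}
    (hg : g ∉ N) : Nat.card (fixedBy Ω g) = 1 := by
  apply CfsgLib.Derange.fx_eq_one_of_not_mem htr
  intro hmem
  apply hg
  have : CfsgLib.Derange.derSub G Ω ≤ N := by
    rw [CfsgLib.Derange.derSub, Subgroup.closure_le]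
    intro x hx
    exact h x hx
  exact this hmem

/-- Let a finite group G act faithfully and primitively on a finite set Ω with at least two points, and suppose G is not almost simple (it has no non-abelian simple normal subgroup with trivial centralizer). Then the derangements of G form a single conjugacy class if and only if G is sharply 2-transitive (2-transitive, and no non-identity element fixes two points). -/
theorem result {G : Type*} [Group G] [Finite G] {Ω : Type*} [Fintype Ω] [MulAction G Ω] [FaithfulSMul G Ω] (hΩ : 2 ≤ Fintype.card Ω) (hprim : MulAction.IsPreprimitive G Ω) (hnas : ¬ ∃ T : Subgroup G, T.Normal ∧ IsSimpleGroup T ∧ ¬ IsMulCommutative T ∧ Subgroup.centralizer (T : Set G) = ⊥) :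
    Nat.card {c : ConjClasses G // ∃ g : G, ConjClasses.mk g = c ∧ ∀ ω : Ω, g • ω ≠ ω} = 1 ↔ (MulAction.IsMultiplyPretransitive G Ω 2 ∧ ∀ g : G, g ≠ 1 → ∀ a b : Ω, a ≠ b → g • a = a → g • b ≠ b) := by
  classical
  have hΩ' : 2 ≤ Nat.card Ω := by rw [Nat.card_eq_fintype_card]; exact hΩ
  have hΩ1 : 1 < Nat.card Ω := by omega
  change Nat.card {c : ConjClasses G // ∃ g : G, ConjClasses.mk g = c ∧ Der Ω g} = 1 ↔ _
  constructor
  · intro h1
    have hall : ∀ a b : G, Der Ω a → Der Ω b → IsConj a b := fun a b ha hb =>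
      isConj_of_class_card_one h1 ha hb
    obtain ⟨N, hN, hab, htr, hder⟩ := abelian_min hprim hΩ1 hnas
      (fun a b c ha hb _ => Or.inl (hall a b ha hb))
    have hmem : ∀ g : G, Der Ω g → g ∈ N := by
      intro g hg
      obtain ⟨n, hn, hn1⟩ := (Subgroup.ne_bot_iff_exists_ne_one.mp hN.2.1 : _) |> fun ⟨a, h⟩ =>
        (⟨(a : G), a.2, fun hh => h (Subtype.ext hh)⟩ : ∃ x : G, x ∈ N ∧ x ≠ 1)
      obtain ⟨c, rfl⟩ := isConj_iff.mp (hall n g (hder n hn hn1) hg)
      exact hN.1.conj_mem n hn c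
    refine ⟨two_trans_of_conj hN.1 hab htr (fun a ha b hb ha1 hb1 =>
      hall a b (hder a ha ha1) (hder b hb hb1)), ?_⟩
    intro g hg a b hne ha hb
    by_cases hgN : g ∈ N
    · exact hder g hgN hg a ha
    · have h2 := fix_one_outside hprim.toIsPretransitive hmem hgN
      have := (Nat.card_eq_one_iff_unique.mp h2).1
      exact hne (congrArg Subtype.val (Subsingleton.elim (⟨a, ha⟩ : fixedBy Ω g) ⟨b, hb⟩))
  · rintro ⟨h2, hs⟩
    obtain ⟨x, hx⟩ := exists_derangement hprim.toIsPretransitive hΩ1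
    exact class_card_one x hx (fun y hy => sharply_two hΩ' h2 hs hx hy)

end Cfsg.Agent.S3501
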