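import Cfsg.Statements.S3520
import Cfsg.Agent.Lib.H5Perm4

set_option autoImplicit false
open Cfsg

namespace Cfsg.Agent.S3520

open MulAction CfsgLib.H5Sylow CfsgLib.H5MinNormal CfsgLib.H5Perm2 CfsgLib.H5Perm3 CfsgLib.H5Perm4

/-- a primitive group which is not almost simple and has no three pairwise non-conjugate
derangements has an abelian minimal normal subgroup -/
theorem abelian_min {G Ω : Type*} [Group G] [Finite G] [MulAction G Ω] [FaithfulSMul G Ω] [Finite Ω]
    (hprim : IsPreprimitive G Ω) (hΩ : 1 < Nat.card Ω)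
    (hnas : ¬ ∃ T : Subgroup G, T.Normal ∧ IsSimpleGroup T ∧ ¬ IsMulCommutative T ∧
      Subgroup.centralizer (T : Set G) = ⊥)
    (h3 : ∀ a b c : G, Der Ω a → Der Ω b → Der Ω c → IsConj a b ∨ IsConj a c ∨ IsConj b c) :
    ∃ N : Subgroup G, IsMinNormal N ∧ (∀ a ∈ N, ∀ b ∈ N, a * b = b * a) ∧
      IsPretransitive N Ω ∧ ∀ n ∈ N, n ≠ 1 → Der Ω n := by
  have hGne : (⊤ : Subgroup G) ≠ ⊥ := by
    intro h
    obtain ⟨g, hg⟩ := exists_derangement hprim.toIsPretransitive hΩ
    have h1 : g ∈ (⊤ : Subgroup G) := trivial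
    rw [h, Subgroup.mem_bot] at h1
    obtain ⟨ω⟩ : Nonempty Ω := by rw [← Finite.card_pos_iff]; omega
    exact hg ω (by rw [h1, one_smul])
  obtain ⟨N, -, hN⟩ := exists_isMinNormal (⊤ : Subgroup G) inferInstance hGne
  have htr := transitive_of_normal hprim N hN.1 hN.2.1
  by_cases hab : ∀ a ∈ N, ∀ b ∈ N, a * b = b * a
  · refine ⟨N, hN, hab, htr, ?_⟩
    intro n hn hn1 ω hω
    exact hn1 (eq_one_of_comm N htr (b := n) (fun x hx => hab x hx n hn) hω)
  · exfalso
    obtain ⟨a, b, c, ha, hb, hc, h1, h2, h4⟩ := three_classes hprim hΩ hnas hN hab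
    rcases h3 a b c ha hb hc with h | h | h
    · exact h1 h
    · exact h2 h
    · exact h4 h

theorem fix_one_outside {G Ω : Type*} [Group G] [Finite G] [MulAction G Ω] [Finite Ω]
    (htr : IsPretransitive G Ω) {N : Subgroup G} (h : ∀ g : G, Der Ω g → g ∈ N) {g : G}
    (hg : g ∉ N) : Nat.card (fixedBy Ω g) = 1 := by
  apply CfsgLib.Derange.fx_eq_one_of_not_mem htr
  intro hmem
  apply hg
  have : CfsgLib.Derange.derSub G Ω ≤ N := by
    rw [CfsgLib.Derange.derSub, Subgroup.closure_le]
    intro x hx
    exact h x hx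
  exact this hmem

/-- Let a finite group G act faithfully and primitively on a finite set Ω with at least two points, suppose G is not almost simple (no non-abelian simple normal subgroup with trivial centralizer), and suppose the derangements of G form exactly two conjugacy classes. Then either Ω has 3 points and G has order 3; or G has a non-trivial abelian normal subgroup N acting regularly, every non-identity element of G fixes at most one point (so, when n > 3, G is a Frobenius group with kernel N), the number n of points is odd and a point stabilizer has order (n − 1)/2; or G is 2-transitive with a non-trivial abelian regular normal subgroup and some non-identity element fixes at least two points (a non-Frobenius 2-transitive affine group). -/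
theorem result {G : Type*} [Group G] [Finite G] {Ω : Type*} [Fintype Ω] [MulAction G Ω] [FaithfulSMul G Ω] (hΩ : 2 ≤ Fintype.card Ω) (hprim : MulAction.IsPreprimitive G Ω) (hnas : ¬ ∃ T : Subgroup G, T.Normal ∧ IsSimpleGroup T ∧ ¬ IsMulCommutative T ∧ Subgroup.centralizer (T : Set G) = ⊥)
    (hκ : Nat.card {c : ConjClasses G // ∃ g : G, ConjClasses.mk g = c ∧ ∀ ω : Ω, g • ω ≠ ω} = 2) (α : Ω) :
    (Fintype.card Ω = 3 ∧ Nat.card G = 3) ∨
    ((∃ N : Subgroup G, N.Normal ∧ N ≠ ⊥ ∧ IsMulCommutative N ∧ ∀ ω : Ω, MulAction.stabilizer N ω = ⊥) ∧ (∀ g : G, g ≠ 1 → Nat.card (MulAction.fixedBy Ω g) ≤ 1) ∧ ¬ 2 ∣ Fintype.card Ω ∧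
        2 * Nat.card (MulAction.stabilizer G α) = Fintype.card Ω - 1) ∨
    ((∃ N : Subgroup G, N.Normal ∧ N ≠ ⊥ ∧ IsMulCommutative N ∧ ∀ ω : Ω, MulAction.stabilizer N ω = ⊥) ∧ MulAction.IsMultiplyPretransitive G Ω 2 ∧ ∃ g : G, g ≠ 1 ∧ 2 ≤ Nat.card (MulAction.fixedBy Ω g)) := by
  classical
  have hΩ' : 2 ≤ Nat.card Ω := by rw [Nat.card_eq_fintype_card]; exact hΩ
  have hΩ1 : 1 < Nat.card Ω := by omega
  change Nat.card {c : ConjClasses G // ∃ g : G, ConjClasses.mk g = c ∧ Der Ω g} = 2 at hκ
  obtain ⟨N, hN, hab, htr, hder⟩ := abelian_min hprim hΩ1 hnas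
    (fun a b c ha hb hc => isConj_of_class_card_two hκ ha hb hc)
  have hNex : ∃ N : Subgroup G, N.Normal ∧ N ≠ ⊥ ∧ IsMulCommutative N ∧
      ∀ ω : Ω, MulAction.stabilizer N ω = ⊥ := by
    refine ⟨N, hN.1, hN.2.1, ⟨⟨fun a b => Subtype.ext (hab a a.2 b b.2)⟩⟩, ?_⟩
    intro ω
    rw [eq_bot_iff]
    intro n hn
    rw [Subgroup.mem_bot]
    by_contra hn1
    exact hder n n.2 (fun h => hn1 (Subtype.ext h)) ω hn
  by_cases h2 : IsMultiplyPretransitive G Ω 2
  · right; right
    refine ⟨hNex, h2, ?_⟩
    by_contra hcon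
    push Not at hcon
    have hs : ∀ g : G, g ≠ 1 → ∀ a b : Ω, a ≠ b → g • a = a → g • b ≠ b := by
      intro g hg a b hne ha hb
      have h3 := hcon g hg
      have h4 : Subsingleton (fixedBy Ω g) := by
        rw [← Finite.card_le_one_iff_subsingleton]; omega
      exact hne (congrArg Subtype.val (Subsingleton.elim (⟨a, ha⟩ : fixedBy Ω g) ⟨b, hb⟩))
    obtain ⟨a, b, ha, hb, hnc⟩ := exists_nonconj_of_class_card_two hκ
    exact hnc (sharply_two hΩ' h2 hs ha hb)
  · right; left
    -- two non-conjugate elements of N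
    obtain ⟨u, hu, v, hv, hu1, hv1, huv⟩ : ∃ u ∈ N, ∃ v ∈ N, u ≠ 1 ∧ v ≠ 1 ∧ ¬ IsConj u v := by
      by_contra hcon
      push Not at hcon
      exact h2 (two_trans_of_conj hN.1 hab htr (fun a ha b hb ha1 hb1 => hcon a ha b hb ha1 hb1))
    have huD := hder u hu hu1
    have hvD := hder v hv hv1
    have hclass : ∀ g : G, Der Ω g → IsConj u g ∨ IsConj v g := by
      intro g hg
      rcases isConj_of_class_card_two hκ huD hvD hg with h | h | h
      · exact absurd h huv
      · exact Or.inl h
      · exact Or.inr h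
    have hmem : ∀ g : G, Der Ω g → g ∈ N := by
      intro g hg
      rcases hclass g hg with h | h
      · obtain ⟨c, rfl⟩ := isConj_iff.mp h
        exact hN.1.conj_mem u hu c
      · obtain ⟨c, rfl⟩ := isConj_iff.mp h
        exact hN.1.conj_mem v hv c
    have hout : ∀ g : G, g ∉ N → Nat.card (fixedBy Ω g) = 1 := fun g hg =>
      fix_one_outside hprim.toIsPretransitive hmem hg
    -- centralizers in G of nonidentity elements of N are N
    have hcen : ∀ w ∈ N, w ≠ 1 → Subgroup.centralizer ({w} : Set G) = N := by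
      intro w hw hw1
      apply le_antisymm
      · intro g hg
        by_contra hgN
        have h3 := hout g hgN
        obtain ⟨hsub, ⟨⟨ω, hω⟩⟩⟩ := Nat.card_eq_one_iff_unique.mp h3
        have h4 : g * w = w * g := Subgroup.mem_centralizer_singleton_iff.mp hg
        have hω' : g • ω = ω := hω
        have h5 : g • (w • ω) = w • ω := by rw [← mul_smul, h4, mul_smul, hω']
        have h6 := congrArg Subtype.val (Subsingleton.elim (⟨ω, hω⟩ : fixedBy Ω g) ⟨w • ω, h5⟩)
        exact hder w hw hw1 ω h6.symm
      · intro g hg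
        exact Subgroup.mem_centralizer_singleton_iff.mpr (hab g hg w hw)
    have hNcard : Nat.card N = Nat.card Ω := by
      have h3 := index_stabilizer_of_transitive N α
      have h4 : stabilizer N α = ⊥ := by
        rw [eq_bot_iff]
        intro n hn
        rw [Subgroup.mem_bot]
        by_contra hn1
        exact hder n n.2 (fun h => hn1 (Subtype.ext h)) α hn
      rw [h4, Subgroup.index_bot] at h3
      exact h3
    have hGcard : Nat.card (stabilizer G α) * Nat.card Ω = Nat.card G := by
      rw [← index_stabilizer_of_transitive G α]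
      exact Subgroup.card_mul_index _
    have hconjcard : ∀ w ∈ N, w ≠ 1 → (conjugatesOf w).ncard = Nat.card (stabilizer G α) := by
      intro w hw hw1
      have h3 := card_conjugatesOf w
      rw [hcen w hw hw1, hNcard, ← hGcard] at h3
      exact Nat.eq_of_mul_eq_mul_right (by omega) h3
    have hunion : (N : Set G) \ {1} = conjugatesOf u ∪ conjugatesOf v := by
      ext g
      constructor
      · rintro ⟨hg, hg1⟩
        exact hclass g (hder g hg hg1)
      · rintro (h | h)
        · have h' : IsConj u g := h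
          obtain ⟨c, rfl⟩ := isConj_iff.mp h'
          refine ⟨hN.1.conj_mem u hu c, ?_⟩
          intro h3
          apply hu1
          have : u = c⁻¹ * (c * u * c⁻¹) * c := by group
          rw [this, Set.mem_singleton_iff.mp h3]; group
        · have h' : IsConj v g := h
          obtain ⟨c, rfl⟩ := isConj_iff.mp h'
          refine ⟨hN.1.conj_mem v hv c, ?_⟩
          intro h3
          apply hv1
          have : v = c⁻¹ * (c * v * c⁻¹) * c := by group
          rw [this, Set.mem_singleton_iff.mp h3]; group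
    have hdisj : Disjoint (conjugatesOf u) (conjugatesOf v) := by
      rw [Set.disjoint_left]
      intro g h3 h4
      have h3' : IsConj u g := h3
      have h4' : IsConj v g := h4
      exact huv (h3'.trans h4'.symm)
    have hcount : Nat.card Ω - 1 = 2 * Nat.card (stabilizer G α) := by
      have h3 : ((N : Set G) \ {1}).ncard = Nat.card Ω - 1 := by
        rw [Set.ncard_sdiff_singleton_of_mem N.one_mem, ← hNcard]
        rfl
      rw [← h3, hunion, Set.ncard_union_eq hdisj (Set.toFinite _) (Set.toFinite _),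
        hconjcard u hu hu1, hconjcard v hv hv1]
      ring
    rw [Nat.card_eq_fintype_card] at hcount
    refine ⟨hNex, ?_, ?_, hcount.symm⟩
    · intro g hg
      by_cases hgN : g ∈ N
      · have : IsEmpty (fixedBy Ω g) := ⟨fun z => hder g hgN hg z.1 z.2⟩
        rw [Nat.card_of_isEmpty]; omega
      · exact (hout g hgN).le
    · intro hd
      omega

end Cfsg.Agent.S3520
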