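import Cfsg.Statements.S3554

set_option autoImplicit false
open Cfsg

namespace Cfsg.Agent.S3554

/-- Let G act faithfully and transitively on a finite set and suppose G has a non-trivial cyclic normal subgroup. Then some element of G of prime order fixes no point. -/
theorem result {G Ω : Type*} [Group G] [Finite G] [MulAction G Ω] [FaithfulSMul G Ω] [Finite Ω]
    (htrans : MulAction.IsPretransitive G Ω) (C : Subgroup G) (hC : C.Normal) (hC1 : C ≠ ⊥) (hcyc : IsCyclic ↥C) :
    ∃ g : G, (orderOf g).Prime ∧ ∀ ω : Ω, g • ω ≠ ω := by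
  classical
  -- a prime p dividing |C| and an element of order p in C
  have hCn : Nontrivial C := (Subgroup.nontrivial_iff_ne_bot C).mpr hC1
  have hcard : Nat.card C ≠ 1 := by
    intro h
    have := (Nat.card_eq_one_iff_unique.mp h).1
    exact not_subsingleton C this
  obtain ⟨p, hp, hpd⟩ := Nat.exists_prime_and_dvd hcard
  have : Fact p.Prime := ⟨hp⟩
  obtain ⟨x, hx⟩ := exists_prime_orderOf_dvd_card' p hpd
  have hxo : orderOf (x : G) = p := by rw [Subgroup.orderOf_coe, hx]
  refine ⟨x, by rw [hxo]; exact hp, ?_⟩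
  intro ω hω
  obtain ⟨c, hc⟩ := hcyc.exists_generator
  -- all conjugates of x lie in zpowers x
  have hconj : ∀ g : G, ∃ n : ℤ, g * x * g⁻¹ = (x : G) ^ n := by
    intro g
    have hmem : g * c * g⁻¹ ∈ C := hC.conj_mem _ c.2 g
    obtain ⟨k, hk⟩ := Subgroup.mem_zpowers_iff.mp (hc ⟨g * c * g⁻¹, hmem⟩)
    obtain ⟨m, hm⟩ := Subgroup.mem_zpowers_iff.mp (hc x)
    have hk' : (c : G) ^ k = g * c * g⁻¹ := by
      have := congrArg (fun z : C => (z : G)) hk
      simpa using this
    have hm' : (c : G) ^ m = x := by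
      have := congrArg (fun z : C => (z : G)) hm
      simpa using this
    refine ⟨k, ?_⟩
    rw [← hm', ← zpow_mul, mul_comm m k, zpow_mul, hk', conj_zpow]
  have hx1 : (x : G) = 1 := by
    apply FaithfulSMul.eq_of_smul_eq_smul (α := Ω)
    intro ω'
    obtain ⟨g, rfl⟩ := htrans.exists_smul_eq ω ω'
    obtain ⟨n, hn⟩ := hconj g⁻¹
    have h2 : (x : G) * g = g * (x : G) ^ n := by
      rw [← hn]; group
    have h3 : (x : G) ^ n • ω = ω := by
      have : (x : G) ∈ MulAction.stabilizer G ω := hω
      exact (MulAction.stabilizer G ω).zpow_mem this n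
    rw [← mul_smul, h2, mul_smul, h3, one_smul]
  rw [hx1, orderOf_one] at hxo
  exact hp.one_lt.ne hxo

end Cfsg.Agent.S3554
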