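import Cfsg.Statements.S3556
import Cfsg.Agent.Lib.H5Perm2

set_option autoImplicit false
open Cfsg

namespace Cfsg.Agent.S3556

open MulAction CfsgLib.H5Sylow CfsgLib.H5MinNormal CfsgLib.H5Perm2

/-- Let G act faithfully and primitively on a finite set with at least two points, and suppose that for some fixed prime p every element of G fixing no point has order a power of p. Then G is of affine type (it has a regular normal subgroup that is an elementary abelian r-group for some prime r) or almost simple (it has a non-abelian simple normal subgroup with trivial centralizer). -/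
theorem result {G Ω : Type*} [Group G] [Finite G] [MulAction G Ω] [FaithfulSMul G Ω] [Finite Ω]
    (hprim : MulAction.IsPreprimitive G Ω) (hΩ : 2 ≤ Nat.card Ω) (p : ℕ) (hp : p.Prime)
    (hder : ∀ g : G, (∀ ω : Ω, g • ω ≠ ω) → ∃ k : ℕ, orderOf g = p ^ k) :
    (∃ (N : Subgroup G) (r : ℕ), r.Prime ∧ N.Normal ∧ Cfsg.IsElementaryAbelian r N ∧
      MulAction.IsPretransitive N Ω ∧ ∀ a : Ω, MulAction.stabilizer N a = ⊥) ∨
    (∃ T : Subgroup G, T.Normal ∧ IsSimpleGroup ↥T ∧ ¬ IsMulCommutative ↥T ∧
      Subgroup.centralizer (T : Set G) = ⊥) := by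
  classical
  have : Fact p.Prime := ⟨hp⟩
  have hΩ1 : 1 < Nat.card Ω := by omega
  have hGne : (⊤ : Subgroup G) ≠ ⊥ := by
    intro h
    obtain ⟨g, hg⟩ := exists_derangement hprim.toIsPretransitive hΩ1
    have h1 : g ∈ (⊤ : Subgroup G) := trivial
    rw [h, Subgroup.mem_bot] at h1
    obtain ⟨ω⟩ : Nonempty Ω := by rw [← Finite.card_pos_iff]; omega
    exact hg ω (by rw [h1, one_smul])
  obtain ⟨N, -, hN⟩ := exists_isMinNormal (⊤ : Subgroup G) inferInstance hGne
  have htr := transitive_of_normal hprim N hN.1 hN.2.1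
  by_cases hab : ∀ a ∈ N, ∀ b ∈ N, a * b = b * a
  · left
    obtain ⟨r, hr, hel⟩ := elementary_of_comm hN hab
    refine ⟨N, r, hr, hN.1, ⟨⟨⟨fun a b => Subtype.ext (hab a a.2 b b.2)⟩⟩, hel⟩, htr, ?_⟩
    intro a
    rw [eq_bot_iff]
    intro n hn
    have h1 : (n : G) • a = a := hn
    have h2 := eq_one_of_comm N htr (b := (n : G)) (fun x hx => hab x hx n n.2) h1
    exact Subtype.ext h2
  · right
    obtain ⟨T, hT⟩ := exists_factor N hN.2.1
    have hTs := hT.simple hN
    have hTna := hT.not_comm hN hab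
    -- T is not a p-group
    have hTp : ¬ ∀ t ∈ T, ∃ k : ℕ, t ^ p ^ k = 1 := by
      intro h
      apply not_isPGroup_of_simple hTs hTna p
      intro t
      obtain ⟨k, hk⟩ := h t t.2
      exact ⟨k, Subtype.ext hk⟩
    have hder' : ∀ g : G, (∀ ω : Ω, g • ω ≠ ω) → ∃ k : ℕ, g ^ p ^ k = 1 := by
      intro g hg
      obtain ⟨k, hk⟩ := hder g hg
      exact ⟨k, by rw [← hk]; exact pow_orderOf_eq_one g⟩
    have hB : ¬ (∀ t ∈ T, t ≠ 1 → ∀ ω : Ω, t • ω ≠ ω) := by
      intro hB
      apply hTp
      intro t ht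
      by_cases ht1 : t = 1
      · exact ⟨0, by simp [ht1]⟩
      · exact hder' t (hB t ht ht1)
    -- the centralizer of N is trivial
    have hC : Subgroup.centralizer (N : Set G) = ⊥ := by
      by_contra hC
      have hNn := hN.1
      have hCt := transitive_of_normal hprim (Subgroup.centralizer (N : Set G)) inferInstance hC
      apply hB
      intro t ht ht1 ω hω
      apply ht1
      apply eq_one_of_comm _ hCt _ hω
      intro a ha
      exact (Subgroup.mem_centralizer_iff.mp ha t (hT.le ht)).symm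
    have hcen : cen N T = ⊥ := by
      by_contra hcen
      rcases factor_derangements hΩ1 hN hT htr with h | h
      · obtain ⟨t, ht, htc⟩ := h
        obtain ⟨g, hg⟩ := hT.exists_cj_le_cen hN hab hcen
        apply hTp
        intro x hx
        have hxc : g * x * g⁻¹ ∈ cen N T := by
          apply hg
          rw [mem_cj]
          have e : g⁻¹ * (g * x * g⁻¹) * g = x := by group
          rw [e]; exact hx
        obtain ⟨k, hk⟩ := hder' _ (htc _ hxc)
        refine ⟨k, ?_⟩
        have hcomm : Commute t (g * x * g⁻¹) := (mem_cen.mp hxc).1 t ht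
        rw [hcomm.mul_pow] at hk
        have h1 : (g * x * g⁻¹) ^ p ^ k ∈ T ⊓ cen N T := by
          refine ⟨?_, (cen N T).pow_mem hxc _⟩
          have h2 : (g * x * g⁻¹) ^ p ^ k = (t ^ p ^ k)⁻¹ := by
            exact (mul_eq_one_iff_inv_eq.mp hk).symm
          rw [h2]
          exact T.inv_mem (T.pow_mem ht _)
        rw [hT.inf_cen hN hab, Subgroup.mem_bot, conj_pow] at h1
        have h3 : x ^ p ^ k = g⁻¹ * (g * x ^ p ^ k * g⁻¹) * g := by group
        rw [h3, h1]; group
      · exact hB h
    have hTN := hT.eq_of_cen_bot hN hcen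
    subst hTN
    exact ⟨T, hN.1, hTs, hTna, hC⟩

end Cfsg.Agent.S3556
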