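import Cfsg.Statements.S3634
import Cfsg.Agent.Lib.FrobAct

set_option autoImplicit false
open Cfsg

namespace Cfsg.Agent.S3634

open CfsgLib.FrobAct

theorem adj {G : Type*} [Group G] [Finite G] {p q : ℕ} (hp : p.Prime) (hq : q.Prime) (hpq : p ≠ q) {a v : G}
    (hc : Commute v a) (hv : p ∣ orderOf v) (ha : q ∣ orderOf a) : ∃ z : G, orderOf z = p * q := by
  have h1 := orderOf_pow_orderOf_div (orderOf_pos v).ne' hv
  have h2 := orderOf_pow_orderOf_div (orderOf_pos a).ne' ha
  refine ⟨v ^ (orderOf v / p) * a ^ (orderOf a / q), ?_⟩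
  rw [(hc.pow_pow _ _).orderOf_mul_eq_mul_orderOf_of_coprime, h1, h2]
  rw [h1, h2]; exact (Nat.coprime_primes hp hq).mpr hpq

theorem dvd_orderOf {G : Type*} [Group G] {p : ℕ} (hp : p.Prime) {P : Subgroup G} (hP : IsPGroup p P) {x : G}
    (hx : x ∈ P) (hx1 : x ≠ 1) : p ∣ orderOf x := by
  obtain ⟨k, hk⟩ := hP ⟨x, hx⟩
  have h1 : x ^ p ^ k = 1 := congrArg Subtype.val hk
  obtain ⟨j, -, hj⟩ := (Nat.dvd_prime_pow hp).mp (orderOf_dvd_of_pow_eq_one h1)
  rw [hj]
  apply dvd_pow_self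
  rintro rfl
  rw [pow_zero, orderOf_eq_one_iff] at hj
  exact hx1 hj

theorem card_rel {G : Type*} [Group G] (H K : Subgroup G) (h : H ≤ K) : Nat.card H * H.relIndex K = Nat.card K := by
  rw [← Subgroup.card_mul_index (H.subgroupOf K), Nat.card_congr (Subgroup.subgroupOfEquivOfLe h).toEquiv]
  rfl

/-- the core -/
theorem core {G : Type*} [Group G] [Finite G] {p q r : ℕ} (hp : p.Prime) (hq : q.Prime) (hr : r.Prime) (hpq : p ≠ q) (hpr : p ≠ r) (hqr : q ≠ r)
    (P Q : Subgroup G) (hP : IsPGroup p P) (hQ : IsPGroup q Q) (hPb : P ≠ ⊥) (hQb : Q ≠ ⊥) (hQP : Q ≤ Subgroup.normalizer (P : Set G))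
    (x : G) (hx : orderOf x = r) (hxP : x ∈ Subgroup.normalizer (P : Set G)) (hxQ : x ∈ Subgroup.normalizer (Q : Set G)) :
    (∃ x : G, orderOf x = p * q) ∨ (∃ x : G, orderOf x = p * r) ∨ (∃ x : G, orderOf x = q * r) := by
  by_contra hcon
  push Not at hcon
  obtain ⟨h1, h2, h3⟩ := hcon
  haveI : Fact p.Prime := ⟨hp⟩
  haveI : Fact r.Prime := ⟨hr⟩
  let V : Subgroup G := (Subgroup.center P).map P.subtype
  have hVP : V ≤ P := by
    rintro _ ⟨v, -, rfl⟩; exact v.2
  have hmV : ∀ v, v ∈ V ↔ v ∈ P ∧ ∀ w ∈ P, w * v = v * w := by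
    intro v
    constructor
    · rintro ⟨v, hv, rfl⟩
      refine ⟨v.2, fun w hw => ?_⟩
      exact congrArg Subtype.val (Subgroup.mem_center_iff.mp hv ⟨w, hw⟩)
    · rintro ⟨hv, h⟩
      exact ⟨⟨v, hv⟩, Subgroup.mem_center_iff.mpr fun w => Subtype.ext (h w w.2), rfl⟩
  have hVn : Subgroup.normalizer (P : Set G) ≤ Subgroup.normalizer (V : Set G) := by
    have key : ∀ a ∈ Subgroup.normalizer (P : Set G), ∀ v ∈ V, a * v * a⁻¹ ∈ V := by
      intro a ha v hv
      rw [hmV] at hv ⊢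
      refine ⟨(Subgroup.mem_normalizer_iff.mp ha v).mp hv.1, fun w hw => ?_⟩
      have hw' : a⁻¹ * w * a ∈ P := by
        have := (Subgroup.mem_normalizer_iff.mp (Subgroup.inv_mem _ ha) w).mp hw
        rwa [inv_inv] at this
      have h5 := hv.2 _ hw'
      calc w * (a * v * a⁻¹) = a * ((a⁻¹ * w * a) * v) * a⁻¹ := by group
        _ = a * (v * (a⁻¹ * w * a)) * a⁻¹ := by rw [h5]
        _ = _ := by group
    intro a ha
    rw [Subgroup.mem_normalizer_iff]
    intro v
    constructor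
    · exact key a ha v
    · intro hv
      have := key a⁻¹ (Subgroup.inv_mem _ ha) _ hv
      have e : a⁻¹ * (a * v * a⁻¹) * a⁻¹⁻¹ = v := by group
      rwa [e] at this
  have hVb : V ≠ ⊥ := by
    haveI : Nontrivial P := (Subgroup.nontrivial_iff_ne_bot P).mpr hPb
    have := hP.bot_lt_center
    intro hV
    rw [Subgroup.map_eq_bot_iff_of_injective _ P.subtype_injective] at hV
    rw [hV] at this
    exact lt_irrefl _ this
  have hVc : IsMulCommutative V := ⟨⟨fun a b => Subtype.ext (((hmV b).mp b.2).2 a (hVP a.2))⟩⟩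
  have hXr : IsPGroup r (Subgroup.zpowers x) := by
    apply IsPGroup.of_card (n := 1)
    rw [Nat.card_zpowers, hx, pow_one]
  have hxb : Subgroup.zpowers x ≠ ⊥ := by
    rw [Ne, Subgroup.zpowers_eq_bot]
    rintro rfl
    rw [orderOf_one] at hx
    exact hr.one_lt.ne hx
  apply hVb
  refine Fpf.eq_bot_of_frobenius hVc (P := Q) (Q := Subgroup.zpowers x) ?_ hQb hxb ?_ ?_
  · apply Fpf.of_forall
    · rwa [Subgroup.zpowers_le]
    · intro a ha ha1 v hv hav
      by_contra hv1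
      obtain ⟨z, hz⟩ := adj hq hr hqr (v := v) (a := a) hav.symm (dvd_orderOf hq hQ hv hv1) (dvd_orderOf hr hXr ha ha1)
      exact h3 z hz
  · apply Fpf.of_forall
    · exact hQP.trans hVn
    · intro a ha ha1 v hv hav
      by_contra hv1
      obtain ⟨z, hz⟩ := adj hp hq hpq (v := v) (a := a) hav.symm (dvd_orderOf hp hP (hVP hv) hv1) (dvd_orderOf hq hQ ha ha1)
      exact h1 z hz
  · apply Fpf.of_forall
    · rw [Subgroup.zpowers_le]; exact hVn hxP
    · intro a ha ha1 v hv hav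
      by_contra hv1
      obtain ⟨z, hz⟩ := adj hp hr hpr (v := v) (a := a) hav.symm (dvd_orderOf hp hP (hVP hv) hv1) (dvd_orderOf hr hXr ha ha1)
      exact h2 z hz

/-- version with indices -/
theorem main {G : Type*} [Group G] [Finite G] (K M : Subgroup G) [K.Normal] [M.Normal] (hKM : K ≤ M)
    (p q r : ℕ) (hp : p.Prime) (hq : q.Prime) (hr : r.Prime) (hpq : p ≠ q) (hpr : p ≠ r) (hqr : q ≠ r)
    (hpK : p ∣ Nat.card K) (hqM : q ∣ K.relIndex M) (hrG : r ∣ M.index) :
    (∃ x : G, orderOf x = p * q) ∨ (∃ x : G, orderOf x = p * r) ∨ (∃ x : G, orderOf x = q * r) := by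
  haveI : Fact p.Prime := ⟨hp⟩
  haveI : Fact q.Prime := ⟨hq⟩
  haveI : Fact r.Prime := ⟨hr⟩
  obtain ⟨P⟩ : Nonempty (Sylow p K) := inferInstance
  obtain ⟨PG, hPG⟩ : ∃ PG, PG = (P : Subgroup K).map K.subtype := ⟨_, rfl⟩
  have hfr := Sylow.normalizer_sup_eq_top P
  rw [← hPG] at hfr
  obtain ⟨N, hN⟩ : ∃ N, N = Subgroup.normalizer (PG : Set G) := ⟨_, rfl⟩
  rw [← hN] at hfr
  have hPGp : IsPGroup p PG := hPG ▸ P.2.map K.subtype
  have hPGb : PG ≠ ⊥ := by
    rw [hPG, Ne, Subgroup.map_eq_bot_iff_of_injective _ K.subtype_injective]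
    exact Sylow.ne_bot_of_dvd_card P hpK
  -- second level
  obtain ⟨M', hM'⟩ : ∃ M' : Subgroup N, M' = M.subgroupOf N := ⟨_, rfl⟩
  haveI : M'.Normal := hM' ▸ inferInstance
  have hqM' : q ∣ Nat.card M' := by
    have e1 : Nat.card M' = Nat.card ↥(M ⊓ N) := by
      rw [hM', ← Subgroup.inf_subgroupOf_right]
      exact Nat.card_congr (Subgroup.subgroupOfEquivOfLe inf_le_right).toEquiv
    have e2 : M = (M ⊓ N) ⊔ K := by
      apply le_antisymm
      · intro m hm
        have : m ∈ N ⊔ K := hfr ▸ Subgroup.mem_top m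
        rw [Subgroup.mem_sup_of_normal_right] at this
        obtain ⟨n, hn, k, hk, rfl⟩ := this
        apply Subgroup.mul_mem_sup _ hk
        refine ⟨?_, hn⟩
        have := M.mul_mem hm (M.inv_mem (hKM hk))
        rwa [mul_inv_cancel_right] at this
      · exact sup_le inf_le_left hKM
    rw [e1]
    have e3 : K.relIndex M = K.relIndex (M ⊓ N) := by
      conv_lhs => rw [e2, Subgroup.relIndex_sup_right]
    rw [e3] at hqM
    exact hqM.trans (Subgroup.relIndex_dvd_card _ _)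
  obtain ⟨Q⟩ : Nonempty (Sylow q M') := inferInstance
  obtain ⟨QN, hQN⟩ : ∃ QN, QN = (Q : Subgroup M').map M'.subtype := ⟨_, rfl⟩
  have hfr2 := Sylow.normalizer_sup_eq_top Q
  rw [← hQN] at hfr2
  have hQNp : IsPGroup q QN := hQN ▸ Q.2.map M'.subtype
  have hQNb : QN ≠ ⊥ := by
    rw [hQN, Ne, Subgroup.map_eq_bot_iff_of_injective _ M'.subtype_injective]
    exact Sylow.ne_bot_of_dvd_card Q hqM'
  have hr2 : r ∣ Nat.card (Subgroup.normalizer (QN : Set N)) := by
    have e1 : M.index = M'.index := by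
      rw [hM']
      change M.index = M.relIndex N
      have : N ⊔ M = ⊤ := top_unique (hfr ▸ sup_le_sup_left hKM N)
      rw [← Subgroup.relIndex_sup_right N M, this, Subgroup.relIndex_top_right]
    have e2 : M'.index = M'.relIndex (Subgroup.normalizer (QN : Set N)) := by
      rw [← Subgroup.relIndex_sup_right (Subgroup.normalizer (QN : Set N)) M', hfr2, Subgroup.relIndex_top_right]
    rw [e1, e2] at hrG
    exact hrG.trans (Subgroup.relIndex_dvd_card _ _)
  obtain ⟨x, hx⟩ := exists_prime_orderOf_dvd_card' (G := Subgroup.normalizer (QN : Set N)) r hr2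
  refine core hp hq hr hpq hpr hqr PG (QN.map N.subtype) hPGp (hQNp.map N.subtype) hPGb ?_ ?_ ((x : N) : G) ?_ ?_ ?_
  · rwa [Ne, Subgroup.map_eq_bot_iff_of_injective _ N.subtype_injective]
  · rw [← hN]
    rintro _ ⟨y, -, rfl⟩; exact y.2
  · rw [Subgroup.orderOf_coe, Subgroup.orderOf_coe, hx]
  · rw [← hN]; exact (x : N).2
  · rw [Subgroup.mem_normalizer_iff]
    have hx' := Subgroup.mem_normalizer_iff.mp x.2
    intro g
    constructor
    · rintro ⟨y, hy, rfl⟩
      exact ⟨x * y * x⁻¹, (hx' y).mp hy, rfl⟩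
    · rintro ⟨y, hy, hyg⟩
      have hg : g = N.subtype ((x : N)⁻¹ * y * x) := by
        have e1 : (y : G) = (x : N) * g * ((x : N) : G)⁻¹ := hyg
        change g = ((x : N) : G)⁻¹ * (y : G) * (x : N)
        rw [e1]; group
      rw [hg]
      refine ⟨_, ?_, rfl⟩
      rw [SetLike.mem_coe, hx']
      have : (x : N) * ((x : N)⁻¹ * y * x) * (x : N)⁻¹ = y := by group
      rwa [this]

/-- Let G be a finite group with normal subgroups K ≤ M, and let p, q, r be distinct primes with p dividing the order of K, q dividing the order of M/K and r dividing the order of G/M. Then p, q, r are not pairwise non-adjacent in the prime graph of G: G has an element of order pq, pr or qr. -/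
theorem result {G : Type*} [Group G] [Finite G] (K M : Subgroup G) [K.Normal] [M.Normal] (hKM : K ≤ M)
    (p q r : ℕ) (hp : p.Prime) (hq : q.Prime) (hr : r.Prime) (hpq : p ≠ q) (hpr : p ≠ r) (hqr : q ≠ r)
    (hpK : p ∣ Nat.card ↥K) (hqM : q ∣ Nat.card ↥M / Nat.card ↥K) (hrG : r ∣ Nat.card G / Nat.card ↥M) :
    (∃ x : G, orderOf x = p * q) ∨ (∃ x : G, orderOf x = p * r) ∨ (∃ x : G, orderOf x = q * r) := by
  apply main K M hKM p q r hp hq hr hpq hpr hqr hpK
  · have h1 := card_rel K M hKM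
    rwa [← h1, Nat.mul_div_cancel_left _ Nat.card_pos] at hqM
  · have h1 := Subgroup.index_mul_card M
    rwa [← h1, Nat.mul_div_cancel _ Nat.card_pos] at hrG

end Cfsg.Agent.S3634
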