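import Cfsg.Statements.S3633
import Cfsg.Agent.S3634

set_option autoImplicit false
open Cfsg

namespace Cfsg.Agent.S3633

open scoped commutatorElement

theorem sep0 {G : Type*} [Group G] [Finite G] (K : Subgroup G) (hKn : K.Normal) (hs : Group.IsSolvable K) (π : Set ℕ)
    (hπ : ∀ p ∈ π, p.Prime) (hex : ∃ p ∈ π, p ∣ Nat.card K) :
    ∃ M : Subgroup G, M.Normal ∧ M ≤ K ∧ ∃ p ∈ π, p ∣ Nat.card M ∧ ∀ q ∈ π, q ∣ Nat.card M → q = p := by
  classical
  -- a minimal normal subgroup with order divisible by an element of π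
  obtain ⟨M, ⟨hMn, hMK, p, hp, hpM⟩, hmin⟩ : ∃ M : Subgroup G, (M.Normal ∧ M ≤ K ∧ ∃ p ∈ π, p ∣ Nat.card M) ∧
      ∀ M' : Subgroup G, (M'.Normal ∧ M' ≤ K ∧ ∃ p ∈ π, p ∣ Nat.card M') → M' ≤ M → M' = M := by
    obtain ⟨M, hM⟩ := (Set.toFinite {M : Subgroup G | M.Normal ∧ M ≤ K ∧ ∃ p ∈ π, p ∣ Nat.card M}).exists_minimal ⟨K, hKn, le_rfl, hex⟩
    exact ⟨M, hM.1, fun M' h1 h2 => le_antisymm h2 (hM.2 h1 h2)⟩
  refine ⟨M, hMn, hMK, p, hp, hpM, ?_⟩
  have hpp := hπ p hp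
  haveI : Fact p.Prime := ⟨hpp⟩
  have hMs : Group.IsSolvable M := by
    have : Group.IsSolvable (M.subgroupOf K) := inferInstance
    exact Group.isSolvable_of_surjective (f := (Subgroup.subgroupOfEquivOfLe hMK).toMonoidHom) (Subgroup.subgroupOfEquivOfLe hMK).surjective
  obtain ⟨D, hD⟩ : ∃ D : Subgroup G, D = ⁅M, M⁆ := ⟨_, rfl⟩
  haveI hDn : D.Normal := hD ▸ Subgroup.commutator_normal M M
  have hDM : D ≤ M := hD ▸ Subgroup.commutator_le_left M M
  have hMnt : Nontrivial M := by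
    rw [← Finite.one_lt_card_iff_nontrivial]
    exact lt_of_lt_of_le hpp.one_lt (Nat.le_of_dvd Nat.card_pos hpM)
  have hDne : D ≠ M := by
    intro h
    have h1 : commutator M < ⊤ := Group.IsSolvable.commutator_lt_top_of_nontrivial M
    apply h1.ne
    apply Subgroup.map_injective M.subtype_injective
    rw [commutator_def, Subgroup.map_commutator, ← MonoidHom.range_eq_map, Subgroup.range_subtype, ← hD, h]
  have hDno : ∀ q ∈ π, ¬ q ∣ Nat.card D := by
    intro q hq hqD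
    exact hDne (hmin D ⟨hDn, hDM.trans hMK, q, hq, hqD⟩ hDM)
  have hcomm : ∀ x ∈ M, ∀ y ∈ M, Commute (QuotientGroup.mk' D x) (QuotientGroup.mk' D y) := by
    intro x hx y hy
    change QuotientGroup.mk' D x * QuotientGroup.mk' D y = QuotientGroup.mk' D y * QuotientGroup.mk' D x
    rw [← map_mul, ← map_mul, QuotientGroup.mk'_eq_mk']
    refine ⟨(x * y)⁻¹ * (y * x), ?_, by group⟩
    have : ⁅y⁻¹, x⁻¹⁆ ∈ D := hD ▸ Subgroup.commutator_mem_commutator (M.inv_mem hy) (M.inv_mem hx)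
    have e : (x * y)⁻¹ * (y * x) = ⁅y⁻¹, x⁻¹⁆ := by rw [commutatorElement_def]; group
    rw [e]; exact this
  let M1 : Subgroup G :=
    { carrier := {x | x ∈ M ∧ ∃ k : ℕ, (QuotientGroup.mk' D x) ^ p ^ k = 1}
      one_mem' := ⟨M.one_mem, 0, by rw [map_one, one_pow]⟩
      mul_mem' := by
        rintro x y ⟨hx, k, hk⟩ ⟨hy, l, hl⟩
        refine ⟨M.mul_mem hx hy, k + l, ?_⟩
        rw [map_mul, (hcomm x hx y hy).mul_pow, pow_add, pow_mul, hk, one_pow, mul_comm, pow_mul, hl, one_pow, one_mul]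
      inv_mem' := by
        rintro x ⟨hx, k, hk⟩
        exact ⟨M.inv_mem hx, k, by rw [map_inv, inv_pow, hk, inv_one]⟩ }
  have hM1 : M1 = M := by
    apply hmin M1 _ (fun x hx => hx.1)
    refine ⟨⟨?_⟩, (fun x hx => hMK hx.1), p, hp, ?_⟩
    · rintro x ⟨hx, k, hk⟩ g
      refine ⟨hMn.conj_mem x hx g, k, ?_⟩
      rw [map_mul, map_mul, map_inv, conj_pow, hk, mul_one, mul_inv_cancel]
    · obtain ⟨y, hy⟩ := exists_prime_orderOf_dvd_card' (G := M) p hpM
      have hy1 : (y : G) ∈ M1 := by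
        refine ⟨y.2, 1, ?_⟩
        have : (y : G) ^ p = 1 := by
          rw [← hy, ← Subgroup.orderOf_coe, pow_orderOf_eq_one]
        rw [pow_one, ← map_pow, this, map_one]
      have h2 := Subgroup.orderOf_dvd_natCard M1 hy1
      rwa [Subgroup.orderOf_coe, hy] at h2
  intro q hq hqM
  by_contra hne
  haveI : Fact q.Prime := ⟨hπ q hq⟩
  obtain ⟨y, hy⟩ := exists_prime_orderOf_dvd_card' (G := M) q hqM
  have hyM : (y : G) ∈ M1 := by rw [hM1]; exact y.2
  obtain ⟨-, k, hk⟩ := hyM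
  have hyq : (y : G) ^ q = 1 := by
    rw [← hy, ← Subgroup.orderOf_coe, pow_orderOf_eq_one]
  have h1 : (QuotientGroup.mk' D (y : G)) ^ q = 1 := by rw [← map_pow, hyq, map_one]
  have h2 : orderOf (QuotientGroup.mk' D (y : G)) ∣ Nat.gcd (p ^ k) q :=
    Nat.dvd_gcd (orderOf_dvd_of_pow_eq_one hk) (orderOf_dvd_of_pow_eq_one h1)
  have h3 : Nat.gcd (p ^ k) q = 1 := Nat.Coprime.pow_left k ((Nat.coprime_primes hpp (hπ q hq)).mpr (Ne.symm hne))
  rw [h3, Nat.dvd_one, orderOf_eq_one_iff] at h2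
  have h4 : (y : G) ∈ D := (QuotientGroup.eq_one_iff _).mp h2
  apply hDno q hq
  have h5 := Subgroup.orderOf_dvd_natCard D h4
  rwa [Subgroup.orderOf_coe, hy] at h5

theorem sep1 {G : Type*} [Group G] [Finite G] (A K : Subgroup G) (hAn : A.Normal) (hKn : K.Normal) (hAK : A ≤ K) (hs : Group.IsSolvable K) (π : Set ℕ)
    (hπ : ∀ p ∈ π, p.Prime) (hex : ∃ p ∈ π, p ∣ A.relIndex K) :
    ∃ M : Subgroup G, M.Normal ∧ A ≤ M ∧ M ≤ K ∧ ∃ p ∈ π, p ∣ A.relIndex M ∧ ∀ q ∈ π, q ∣ A.relIndex M → q = p := by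
  have hker : (QuotientGroup.mk' A).ker = A := QuotientGroup.ker_mk' A
  have hcard : ∀ X : Subgroup G, Nat.card (X.map (QuotientGroup.mk' A)) = A.relIndex X := by
    intro X
    rw [← Subgroup.relIndex_ker, hker]
  obtain ⟨M', hM'n, hM'K, p, hp, hpM, huniq⟩ := sep0 (K.map (QuotientGroup.mk' A)) (hKn.map _ (QuotientGroup.mk'_surjective A))
    (Group.isSolvable_of_surjective (f := (QuotientGroup.mk' A).subgroupMap K) ((QuotientGroup.mk' A).subgroupMap_surjective K)) π hπ (by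
      obtain ⟨p, hp, hpd⟩ := hex
      exact ⟨p, hp, by rwa [hcard]⟩)
  have hmap : (M'.comap (QuotientGroup.mk' A)).map (QuotientGroup.mk' A) = M' :=
    Subgroup.map_comap_eq_self_of_surjective (QuotientGroup.mk'_surjective A) M'
  have hAM : A ≤ M'.comap (QuotientGroup.mk' A) :=
    hker.ge.trans ((QuotientGroup.mk' A).ker_le_comap M')
  refine ⟨M'.comap (QuotientGroup.mk' A), hM'n.comap _, hAM, ?_, p, hp, ?_, ?_⟩
  · intro x hx
    obtain ⟨y, hy, hxy⟩ := hM'K hx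
    have : y⁻¹ * x ∈ A := by
      rw [← hker, MonoidHom.mem_ker, map_mul, map_inv, hxy, inv_mul_cancel]
    have h2 := K.mul_mem hy (hAK this)
    rwa [mul_inv_cancel_left] at h2
  · rw [← hcard, hmap]; exact hpM
  · intro q hq hqd
    rw [← hcard, hmap] at hqd
    exact huniq q hq hqd

/-- Let G be a finite group and ρ a set of at least three prime divisors of the order of G that are pairwise non-adjacent in the prime graph (no element of order rs for distinct r, s ∈ ρ). Then at most one prime of ρ divides the order of any given solvable normal subgroup of G; in particular G is not solvable. -/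
theorem result {G : Type*} [Group G] [Finite G] (ρ : Finset ℕ) (hρ : 3 ≤ ρ.card) (hc : ((∀ r ∈ ρ, r.Prime ∧ r ∣ Nat.card G) ∧ (∀ r ∈ ρ, ∀ s ∈ ρ, r ≠ s → ¬ ∃ x : G, orderOf x = r * s)))
    (K : Subgroup G) [K.Normal] (hK : Group.IsSolvable ↥K) :
    (∀ r ∈ ρ, ∀ s ∈ ρ, r ∣ Nat.card ↥K → s ∣ Nat.card ↥K → r = s) ∧ ¬ Group.IsSolvable G := by
  classical
  have main : ∀ K : Subgroup G, K.Normal → Group.IsSolvable K → ∀ r ∈ ρ, ∀ s ∈ ρ, r ∣ Nat.card K → s ∣ Nat.card K → r = s := by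
    intro K hKn hK r hr s hs hrK hsK
    by_contra hrs
    obtain ⟨M1, hM1n, hM1K, a, ha, haM, hau⟩ := sep0 K hKn hK (ρ : Set ℕ) (fun p hp => (hc.1 p hp).1) ⟨r, hr, hrK⟩
    have hcard1 := Cfsg.Agent.S3634.card_rel M1 K hM1K
    -- a prime different from `a` dividing |K|
    obtain ⟨b0, hb0, hb0a, hb0K⟩ : ∃ b0 ∈ ρ, b0 ≠ a ∧ b0 ∣ Nat.card K := by
      by_cases h : r = a
      · exact ⟨s, hs, fun h' => hrs (h.trans h'.symm), hsK⟩
      · exact ⟨r, hr, h, hrK⟩
    have hb0r : b0 ∣ M1.relIndex K := by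
      rw [← hcard1] at hb0K
      rcases ((hc.1 b0 hb0).1.dvd_mul).mp hb0K with h | h
      · exact absurd (hau b0 hb0 h) hb0a
      · exact h
    obtain ⟨M2, hM2n, hM12, hM2K, b, hb, hbM, hbu⟩ := sep1 M1 K hM1n hKn hM1K hK ((ρ.erase a : Finset ℕ) : Set ℕ)
      (fun p hp => (hc.1 p (Finset.mem_of_mem_erase hp)).1) ⟨b0, Finset.mem_coe.mpr (Finset.mem_erase.mpr ⟨hb0a, hb0⟩), hb0r⟩
    have hb' := Finset.mem_erase.mp (Finset.mem_coe.mp hb)
    obtain ⟨c, hcm⟩ : ((ρ.erase a).erase b).Nonempty := by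
      rw [← Finset.card_pos, Finset.card_erase_of_mem (Finset.mem_coe.mp hb), Finset.card_erase_of_mem ha]
      omega
    rw [Finset.mem_erase, Finset.mem_erase] at hcm
    obtain ⟨hcb, hca, hcρ⟩ := hcm
    have hcM2 : c ∣ M2.index := by
      have h1 : c ∣ Nat.card G := (hc.1 c hcρ).2
      rw [← Subgroup.index_mul_card M2, ← Cfsg.Agent.S3634.card_rel M1 M2 hM12] at h1
      rcases ((hc.1 c hcρ).1.dvd_mul).mp h1 with h | h
      · exact h
      · rcases ((hc.1 c hcρ).1.dvd_mul).mp h with h | h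
        · exact absurd (hau c hcρ h) hca
        · exact absurd (hbu c (Finset.mem_coe.mpr (Finset.mem_erase.mpr ⟨hca, hcρ⟩)) h) hcb
    haveI := hM1n
    haveI := hM2n
    rcases Cfsg.Agent.S3634.main M1 M2 hM12 a b c (hc.1 a ha).1 (hc.1 b hb'.2).1 (hc.1 c hcρ).1 (Ne.symm hb'.1) (Ne.symm hca) (Ne.symm hcb) haM hbM hcM2 with h | h | h
    · exact hc.2 a ha b hb'.2 (Ne.symm hb'.1) h
    · exact hc.2 a ha c hcρ (Ne.symm hca) h
    · exact hc.2 b hb'.2 c hcρ (Ne.symm hcb) h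
  refine ⟨main K inferInstance hK, ?_⟩
  intro hG
  have hT : Group.IsSolvable (⊤ : Subgroup G) := inferInstance
  obtain ⟨r, hr, s, hs, hrs⟩ := Finset.one_lt_card.mp (show 1 < ρ.card by omega)
  apply hrs
  apply main ⊤ inferInstance hT r hr s hs
  · rw [Subgroup.card_top]; exact (hc.1 r hr).2
  · rw [Subgroup.card_top]; exact (hc.1 s hs).2

end Cfsg.Agent.S3633
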