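import Cfsg.Statements.S3678
import Cfsg.Agent.S3488

set_option autoImplicit false
open Cfsg

namespace Cfsg.Agent.S3678

open CfsgLib.H5Aff2 CfsgLib.H5Orders

/-- groups whose element orders divide 4, 7, 9 and with elements of orders 2, 3, 7 -/
def Good (A : Type*) [Group A] : Prop :=
  (∀ g : A, orderOf g ∣ 4 ∨ orderOf g ∣ 7 ∨ orderOf g ∣ 9) ∧
  (∃ g : A, orderOf g = 2) ∧ (∃ g : A, orderOf g = 3) ∧ (∃ g : A, orderOf g = 7)

theorem Good.congr {A B : Type*} [Group A] [Group B] (hA : Good A)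
    (h : Set.range (orderOf : B → ℕ) = Set.range (orderOf : A → ℕ)) : Good B := by
  obtain ⟨h1, ⟨g2, h2⟩, ⟨g3, h3⟩, ⟨g7, h7⟩⟩ := hA
  have key : ∀ a : A, ∃ b : B, orderOf b = orderOf a := by
    intro a
    have : orderOf a ∈ Set.range (orderOf : B → ℕ) := by rw [h]; exact ⟨a, rfl⟩
    exact this
  refine ⟨?_, ?_, ?_, ?_⟩
  · intro g
    have : orderOf g ∈ Set.range (orderOf : A → ℕ) := by rw [← h]; exact ⟨g, rfl⟩
    obtain ⟨a, ha⟩ := this
    rw [← ha]; exact h1 a
  · obtain ⟨b, hb⟩ := key g2; exact ⟨b, hb.trans h2⟩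
  · obtain ⟨b, hb⟩ := key g3; exact ⟨b, hb.trans h3⟩
  · obtain ⟨b, hb⟩ := key g7; exact ⟨b, hb.trans h7⟩

theorem Good.prime_dvd {A : Type*} [Group A] [Finite A] (hA : Good A) (p : ℕ) (hp : p.Prime) :
    p ∣ Nat.card A ↔ (p = 2 ∨ p = 3 ∨ p = 7) := by
  obtain ⟨h1, ⟨g2, h2⟩, ⟨g3, h3⟩, ⟨g7, h7⟩⟩ := hA
  constructor
  · intro h
    have : Fact p.Prime := ⟨hp⟩
    obtain ⟨g, hg⟩ := exists_prime_orderOf_dvd_card' p h
    have := h1 g
    rw [hg] at this
    rcases this with h | h | h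
    · left; exact (Nat.prime_dvd_prime_iff_eq hp Nat.prime_two).mp (hp.dvd_of_dvd_pow (n := 2) (by simpa using h))
    · right; right; exact (Nat.prime_dvd_prime_iff_eq hp (by norm_num)).mp h
    · right; left; exact (Nat.prime_dvd_prime_iff_eq hp Nat.prime_three).mp (hp.dvd_of_dvd_pow (n := 2) (by simpa using h))
  · rintro (rfl | rfl | rfl)
    · rw [← h2]; exact orderOf_dvd_natCard g2
    · rw [← h3]; exact orderOf_dvd_natCard g3
    · rw [← h7]; exact orderOf_dvd_natCard g7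

theorem Good.no_edge {A : Type*} [Group A] (hA : Good A) (p q : ℕ) (hp : p.Prime) (hq : q.Prime)
    (hpq : p ≠ q) : ¬ ∃ g : A, orderOf g = p * q := by
  rintro ⟨g, hg⟩
  have hpq' : ∀ r n : ℕ, r.Prime → ¬ p * q ∣ r ^ n := by
    intro r n hr h
    have h1 := (Nat.prime_dvd_prime_iff_eq hp hr).mp (hp.dvd_of_dvd_pow (dvd_trans (dvd_mul_right p q) h))
    have h2 := (Nat.prime_dvd_prime_iff_eq hq hr).mp (hq.dvd_of_dvd_pow (dvd_trans (dvd_mul_left q p) h))
    exact hpq (h1.trans h2.symm)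
  have := hA.1 g
  rw [hg] at this
  rcases this with h | h | h
  · exact hpq' 2 2 Nat.prime_two (by simpa using h)
  · exact hpq' 7 1 (by norm_num) (by simpa using h)
  · exact hpq' 3 2 Nat.prime_three (by simpa using h)

section PSL

open Matrix

variable {F : Type*} [Field F]

theorem sl_sq (A : SpecialLinearGroup (Fin 2) F) :
    (A : Matrix (Fin 2) (Fin 2) F) ^ 2 =
      ((A : Matrix (Fin 2) (Fin 2) F) 0 0 + (A : Matrix (Fin 2) (Fin 2) F) 1 1) • (A : Matrix (Fin 2) (Fin 2) F) - 1 := by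
  have hd := A.det_coe
  rw [Matrix.det_fin_two] at hd
  ext i j
  fin_cases i <;> fin_cases j <;>
    simp [pow_two, Matrix.mul_apply, Fin.sum_univ_two]
  · linear_combination -hd
  · ring
  · ring
  · linear_combination -hd

theorem psl_pow_of (A : SpecialLinearGroup (Fin 2) F) (n : ℕ) (c : F)
    (h : (A : Matrix (Fin 2) (Fin 2) F) ^ n = c • 1) :
    (QuotientGroup.mk A : ProjectiveSpecialLinearGroup (Fin 2) F) ^ n = 1 := by
  rw [← QuotientGroup.mk_pow, QuotientGroup.eq_one_iff, Matrix.SpecialLinearGroup.mem_center_iff]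
  have h1 : ((A ^ n : SpecialLinearGroup (Fin 2) F) : Matrix (Fin 2) (Fin 2) F) = c • 1 :=
    (Matrix.SpecialLinearGroup.coe_pow A n).trans h
  refine ⟨c, ?_, ?_⟩
  · have := (A ^ n).det_coe
    rw [h1, Matrix.det_smul] at this
    simpa using this
  · rw [h1]
    ext i j
    simp [Matrix.scalar_apply, Matrix.smul_apply, Matrix.one_apply, Matrix.diagonal_apply]

theorem psl_ne_one (A : SpecialLinearGroup (Fin 2) F) (h : (A : Matrix (Fin 2) (Fin 2) F) 0 1 ≠ 0) :
    (QuotientGroup.mk A : ProjectiveSpecialLinearGroup (Fin 2) F) ≠ 1 := by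
  intro hc
  rw [QuotientGroup.eq_one_iff, Matrix.SpecialLinearGroup.mem_center_iff] at hc
  obtain ⟨c, -, hc⟩ := hc
  apply h
  rw [← hc]
  simp [Matrix.scalar_apply]

theorem psl_orders (h7 : (7 : F) = 0) (hall : ∀ t : F, t ^ 7 = t) (g : ProjectiveSpecialLinearGroup (Fin 2) F) :
    orderOf g ∣ 4 ∨ orderOf g ∣ 7 ∨ orderOf g ∣ 9 := by
  obtain ⟨A, rfl⟩ := QuotientGroup.mk_surjective g
  set M : Matrix (Fin 2) (Fin 2) F := (A : Matrix (Fin 2) (Fin 2) F) with hM
  have hsq := sl_sq A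
  rw [← hM] at hsq
  set t := M 0 0 + M 1 1 with ht
  have h1 : t = 0 ∨ t ^ 2 = 1 ∨ t ^ 2 = 4 ∨ t ^ 2 = 2 := by
    have h2 : t * ((t ^ 2 - 1) * ((t ^ 2 - 4) * (t ^ 2 - 2))) = 0 := by
      linear_combination hall t + (-t ^ 5 + 2 * t ^ 3 - t) * h7
    rcases mul_eq_zero.mp h2 with h | h
    · exact Or.inl h
    rcases mul_eq_zero.mp h with h | h
    · exact Or.inr (Or.inl (sub_eq_zero.mp h))
    rcases mul_eq_zero.mp h with h | h
    · exact Or.inr (Or.inr (Or.inl (sub_eq_zero.mp h)))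
    · exact Or.inr (Or.inr (Or.inr (sub_eq_zero.mp h)))
  have step : ∀ (n : ℕ) (a b : F), M ^ n = a • M - b • 1 → M ^ (n + 1) = (a * t - b) • M - a • 1 := by
    intro n a b h
    rw [pow_succ, h, sub_mul, smul_mul_assoc, ← pow_two, hsq, smul_mul_assoc, one_mul, smul_sub, smul_smul,
      sub_smul (a * t) b]
    abel
  have hM2 : M ^ 2 = t • M - (1 : F) • 1 := by rw [hsq, one_smul]
  have hM3 := step 2 _ _ hM2
  have hM4 := step 3 _ _ hM3
  have hM5 := step 4 _ _ hM4
  have hM6 := step 5 _ _ hM5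
  have hM7 := step 6 _ _ hM6
  have key : ∀ (n : ℕ) (a b : F), M ^ n = a • M - b • 1 → a = 0 → M ^ n = (-b) • 1 := by
    intro n a b h ha
    rw [h, ha, zero_smul, zero_sub, neg_smul]
  rcases h1 with h | h | h | h
  · left
    rw [orderOf_dvd_iff_pow_eq_one]
    exact psl_pow_of A 4 _ (key 4 _ _ hM4 (by rw [h]; ring))
  · right; right
    rw [orderOf_dvd_iff_pow_eq_one, show 9 = 3 * 3 by norm_num, pow_mul,
      psl_pow_of A 3 _ (key 3 _ _ hM3 (by linear_combination h)), one_pow]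
  · right; left
    rw [orderOf_dvd_iff_pow_eq_one]
    exact psl_pow_of A 7 _ (key 7 _ _ hM7 (by linear_combination (t ^ 4 - t ^ 2 + 2) * h + h7))
  · left
    rw [orderOf_dvd_iff_pow_eq_one]
    exact psl_pow_of A 4 _ (key 4 _ _ hM4 (by linear_combination t * h))

theorem psl_good (h7 : (7 : F) = 0) (hall : ∀ t : F, t ^ 7 = t) :
    Good (ProjectiveSpecialLinearGroup (Fin 2) F) := by
  have : Fact (Nat.Prime 7) := ⟨by norm_num⟩
  let mk2 : ∀ t : F, SpecialLinearGroup (Fin 2) F := fun t => ⟨!![0, 1; -1, t], by simp [Matrix.det_fin_two]⟩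
  have hne : ∀ t, (QuotientGroup.mk (mk2 t) : ProjectiveSpecialLinearGroup (Fin 2) F) ≠ 1 := fun t =>
    psl_ne_one _ (by simp [mk2])
  have hsq : ∀ t, (!![0, 1; -1, t] : Matrix (Fin 2) (Fin 2) F) ^ 2 = !![-1, t; -t, t ^ 2 - 1] := by
    intro t
    ext i j
    fin_cases i <;> fin_cases j <;> simp [pow_two, Matrix.mul_apply, Fin.sum_univ_two]
    ring
  have h4 : ∀ t, (!![0, 1; -1, t] : Matrix (Fin 2) (Fin 2) F) ^ 3 = !![-t, t ^ 2 - 1; 1 - t ^ 2, t ^ 3 - 2 * t] := by
    intro t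
    rw [pow_succ, hsq]
    ext i j
    fin_cases i <;> fin_cases j <;> simp [pow_two, Matrix.mul_apply, Fin.sum_univ_two] <;> ring
  refine ⟨psl_orders h7 hall, ⟨QuotientGroup.mk (mk2 0), orderOf_eq_prime ?_ (hne 0)⟩,
    ⟨QuotientGroup.mk (mk2 1), orderOf_eq_prime ?_ (hne 1)⟩, ⟨QuotientGroup.mk (mk2 2), orderOf_eq_prime ?_ (hne 2)⟩⟩
  · apply psl_pow_of _ 2 (-1)
    change (!![0, 1; -1, 0] : Matrix (Fin 2) (Fin 2) F) ^ 2 = _
    rw [hsq]
    ext i j
    fin_cases i <;> fin_cases j <;> simp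
  · apply psl_pow_of _ 3 (-1)
    change (!![0, 1; -1, 1] : Matrix (Fin 2) (Fin 2) F) ^ 3 = _
    rw [h4]
    ext i j
    fin_cases i <;> fin_cases j <;> simp
    ring
  · apply psl_pow_of _ 7 1
    change (!![0, 1; -1, 2] : Matrix (Fin 2) (Fin 2) F) ^ 7 = _
    rw [show (7 : ℕ) = 3 + (3 + 1) by norm_num, pow_add, pow_add, h4, pow_one]
    ext i j
    fin_cases i <;> fin_cases j <;> simp [Matrix.mul_apply, Fin.sum_univ_two]
    · linear_combination (-1 : F) * h7
    · linear_combination h7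
    · linear_combination (-1 : F) * h7
    · linear_combination h7

end PSL

theorem field8 {F : Type*} [Field F] [Fintype F] (hF : Fintype.card F = 8) :
    (2 : F) = 0 ∧ (∀ t : F, t = 0 ∨ t = 1 ∨ t ^ 3 + t + 1 = 0 ∨ t ^ 3 + t ^ 2 + 1 = 0) := by
  have h2 : (2 : F) = 0 := by
    have := FiniteField.cast_card_eq_zero F
    rw [hF] at this
    have h4 : (2 : F) * (2 * 2) = 0 := by
      rw [← this]; norm_num
    rcases mul_eq_zero.mp h4 with h | h
    · exact h
    · rcases mul_eq_zero.mp h with h | h <;> exact h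
  refine ⟨h2, ?_⟩
  intro t
  have := FiniteField.pow_card t
  rw [hF] at this
  have h' : t * ((t - 1) * ((t ^ 3 + t + 1) * (t ^ 3 + t ^ 2 + 1))) = 0 := by
    linear_combination this + (t ^ 5 - t ^ 4) * h2
  rcases mul_eq_zero.mp h' with h | h
  · exact Or.inl h
  rcases mul_eq_zero.mp h with h | h
  · exact Or.inr (Or.inl (sub_eq_zero.mp h))
  rcases mul_eq_zero.mp h with h | h
  · exact Or.inr (Or.inr (Or.inl h))
  · exact Or.inr (Or.inr (Or.inr h))

theorem aff_good {F : Type*} [Field F] [Fintype F] (hF : Fintype.card F = 8) : Good (Aff F) := by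
  have : Fact (Nat.Prime 7) := ⟨by norm_num⟩
  obtain ⟨h2, hall⟩ := field8 hF
  have hne : ∀ M : Aff F, ∀ i j, ((M : Matrix.SpecialLinearGroup (Fin 3) F) : Matrix (Fin 3) (Fin 3) F) i j ≠
      (1 : Matrix (Fin 3) (Fin 3) F) i j → M ≠ 1 := by
    rintro M i j h rfl
    exact h rfl
  refine ⟨?_, ?_, ?_, ?_⟩
  · rintro ⟨M, hM⟩
    rcases hall ((M : Matrix (Fin 3) (Fin 3) F) 0 0 + (M : Matrix (Fin 3) (Fin 3) F) 1 1) with h | h | h | h
    · left; exact orderOf_dvd_of_pow_eq_one (Subtype.ext (pow_four h2 hM h))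
    · right; right
      apply orderOf_dvd_of_pow_eq_one
      rw [show 9 = 3 * 3 by norm_num, pow_mul]
      have : (⟨M, hM⟩ : Aff F) ^ 3 = 1 := Subtype.ext (pow_three h2 hM h)
      rw [this, one_pow]
    · right; right; exact orderOf_dvd_of_pow_eq_one (Subtype.ext (pow_nine h2 hM rfl h))
    · right; left; exact orderOf_dvd_of_pow_eq_one (Subtype.ext (pow_seven h2 hM rfl h))
  · refine ⟨mkAff 1 0 0 1 1 0 (by ring), orderOf_eq_prime (ker_lin_pow h2 _ ?_) (hne _ 0 2 (by simp [mkAff_apply]))⟩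
    rw [MonoidHom.mem_ker]
    ext i j
    change (!![1, 0, 1; 0, 1, 0; 0, 0, 1] : Matrix (Fin 3) (Fin 3) F) i.castSucc j.castSucc = _
    fin_cases i <;> fin_cases j <;> simp
  · refine ⟨mkAff 0 1 1 1 0 0 (by linear_combination -h2), orderOf_eq_prime ?_ (hne _ 0 0 (by simp [mkAff_apply]))⟩
    exact Subtype.ext (pow_three h2 (mkAff 0 1 1 1 0 0 _).2 (by simp [mkAff_apply]))
  · obtain ⟨x, hx0, hx1⟩ := Cfsg.Agent.S3488.exists_ne01 (F := F) (by omega)
    have hx : ∃ w : F, w ^ 3 + w ^ 2 + 1 = 0 := by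
      rcases ((hall x).resolve_left hx0).resolve_left hx1 with h | h
      · refine ⟨x + 1, ?_⟩
        linear_combination h + (2 * x ^ 2 + 2 * x + 1) * h2
      · exact ⟨x, h⟩
    obtain ⟨w, hw⟩ := hx
    refine ⟨mkAff 0 1 1 w 0 0 (by linear_combination -h2), orderOf_eq_prime ?_ (hne _ 0 0 (by simp [mkAff_apply]))⟩
    exact Subtype.ext (pow_seven h2 (mkAff 0 1 1 w 0 0 _).2 rfl (by simpa [mkAff_apply] using hw))

/-- The prime graph of a finite group has the prime divisors of its order as vertices, two distinct primes p, q being joined when the group has an element of order pq; two groups have the same prime graph when they have the same prime divisors and the same joined pairs. Let F be the field with 7 elements. There are finite groups of arbitrarily large order with the same prime graph as PSL(2,F) (the graph on {2, 3, 7} with no edges, which is also the prime graph of PSL(2,8)). -/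
theorem result {F : Type*} [Field F] [Fintype F] (hF : Fintype.card F = 7) (N : ℕ) :
    ∃ (H : Type) (_ : Group H) (_ : Finite H), N < Nat.card H ∧
      ((∀ p : ℕ, p.Prime → (p ∣ Nat.card (Matrix.ProjectiveSpecialLinearGroup (Fin 2) F) ↔ p ∣ Nat.card H)) ∧
      (∀ p q : ℕ, p.Prime → q.Prime → p ≠ q → ((∃ g : (Matrix.ProjectiveSpecialLinearGroup (Fin 2) F), orderOf g = p * q) ↔ (∃ g : H, orderOf g = p * q)))) := by
  have hP : Good (Matrix.ProjectiveSpecialLinearGroup (Fin 2) F) := by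
    refine psl_good ?_ ?_
    · have := FiniteField.cast_card_eq_zero F
      rw [hF] at this
      exact_mod_cast this
    · intro t
      have := FiniteField.pow_card t
      rwa [hF] at this
  have : Fact (Nat.Prime 2) := ⟨Nat.prime_two⟩
  let _ : Fintype (GaloisField 2 3) := Fintype.ofFinite _
  have hF8 : Fintype.card (GaloisField 2 3) = 8 := by
    rw [← Nat.card_eq_fintype_card, GaloisField.card 2 3 (by norm_num)]; norm_num
  obtain ⟨h2, -⟩ := field8 hF8
  obtain ⟨H, hH, hH', h3, h4⟩ := exists_large (lin (GaloisField 2 3)).ker ker_lin_ne_bot Nat.prime_two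
    (fun x hx => ker_lin_pow h2 x hx) N
  have hG : Good H := (aff_good hF8).congr h4
  refine ⟨H, hH, inferInstance, by rwa [Nat.card_eq_fintype_card], fun p hp => ?_, fun p q hp hq hpq => ?_⟩
  · rw [hP.prime_dvd p hp, hG.prime_dvd p hp]
  · constructor
    · intro h; exact absurd h (hP.no_edge p q hp hq hpq)
    · intro h; exact absurd h (hG.no_edge p q hp hq hpq)
end Cfsg.Agent.S3678
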