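import Cfsg.Statements.S3866
import Mathlib

set_option autoImplicit false
open Cfsg

namespace Cfsg.Agent.S3866

/-- Let A be a commutative normal subgroup of the finite group G with G generated by A and an element x. Then a ↦ x a x⁻¹ a⁻¹ is a surjective homomorphism from A onto the commutator subgroup of G whose kernel is the centralizer of x in A; in particular the commutator subgroup has order equal to the index in A of that centralizer. -/
theorem result {G : Type*} [Group G] [Finite G] (A : Subgroup G) [A.Normal] (hA : IsMulCommutative A) (x : G) (hgen : A ⊔ Subgroup.zpowers x = ⊤) : (∀ a ∈ A, x * a * x⁻¹ * a⁻¹ ∈ commutator G) ∧ (∀ c ∈ commutator G, ∃ a ∈ A, x * a * x⁻¹ * a⁻¹ = c) ∧ (∀ a ∈ A, ∀ b ∈ A, x * (a * b) * x⁻¹ * (a * b)⁻¹ = (x * a * x⁻¹ * a⁻¹) * (x * b * x⁻¹ * b⁻¹)) ∧ Nat.card (commutator G) * Nat.card ↥(A ⊓ Subgroup.centralizer ({x} : Set G)) = Nat.card A := by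
  have hcomm : ∀ a ∈ A, ∀ b ∈ A, a * b = b * a := fun a ha b hb =>
    congrArg Subtype.val (hA.is_comm.comm (⟨a, ha⟩ : A) ⟨b, hb⟩)
  have hxa : ∀ a ∈ A, x * a * x⁻¹ ∈ A := fun a ha => Subgroup.Normal.conj_mem inferInstance a ha x
  have hmul : ∀ a ∈ A, ∀ b ∈ A, x * (a * b) * x⁻¹ * (a * b)⁻¹ = (x * a * x⁻¹ * a⁻¹) * (x * b * x⁻¹ * b⁻¹) := by
    intro a ha b hb
    have h1 : a⁻¹ * (x * b * x⁻¹ * b⁻¹) = (x * b * x⁻¹ * b⁻¹) * a⁻¹ :=
      hcomm _ (inv_mem ha) _ (mul_mem (hxa b hb) (inv_mem hb))
    have h2 : b⁻¹ * a⁻¹ = a⁻¹ * b⁻¹ := hcomm _ (inv_mem hb) _ (inv_mem ha)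
    calc x * (a * b) * x⁻¹ * (a * b)⁻¹ = x * a * x⁻¹ * (x * b * x⁻¹ * (b⁻¹ * a⁻¹)) := by group
      _ = x * a * x⁻¹ * ((x * b * x⁻¹ * b⁻¹) * a⁻¹) := by group
      _ = x * a * x⁻¹ * (a⁻¹ * (x * b * x⁻¹ * b⁻¹)) := by rw [h1]
      _ = _ := by group
  let f : A →* G :=
    { toFun := fun a => x * a * x⁻¹ * (a : G)⁻¹
      map_one' := by simp
      map_mul' := fun a b => hmul a a.2 b b.2 }
  have hfle : f.range ≤ A := by
    rintro _ ⟨a, rfl⟩
    exact mul_mem (hxa a a.2) (inv_mem a.2)
  have hB : f.range.Normal := by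
    rw [← Subgroup.normalizer_eq_top_iff, ← top_le_iff, ← hgen, sup_le_iff, Subgroup.zpowers_le]
    constructor
    · intro a ha
      rw [Subgroup.mem_normalizer_iff]
      intro b
      constructor
      · intro hb
        rw [hcomm a ha b (hfle hb), mul_inv_cancel_right]; exact hb
      · intro hb
        have h1 : a * b * a⁻¹ ∈ A := hfle hb
        have h2 : b ∈ A := by
          have := mul_mem (mul_mem (inv_mem ha) h1) ha
          simpa [mul_assoc] using this
        rwa [hcomm a ha b h2, mul_inv_cancel_right] at hb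
    · have h0 : ∀ y : G, (∀ b ∈ A, y * b * y⁻¹ ∈ A) → (y * x = x * y) → ∀ b ∈ f.range, y * b * y⁻¹ ∈ f.range := by
        rintro y hy hyx _ ⟨b, rfl⟩
        refine ⟨⟨y * b * y⁻¹, hy b b.2⟩, ?_⟩
        change x * (y * b * y⁻¹) * x⁻¹ * (y * b * y⁻¹)⁻¹ = y * (x * b * x⁻¹ * (b : G)⁻¹) * y⁻¹
        have h1 : y⁻¹ * x⁻¹ = x⁻¹ * y⁻¹ := by rw [← mul_inv_rev, ← mul_inv_rev, hyx]
        calc x * (y * b * y⁻¹) * x⁻¹ * (y * b * y⁻¹)⁻¹ = (x * y) * b * (y⁻¹ * x⁻¹) * y * (b : G)⁻¹ * y⁻¹ := by group
          _ = (y * x) * b * (x⁻¹ * y⁻¹) * y * (b : G)⁻¹ * y⁻¹ := by rw [hyx, h1]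
          _ = _ := by group
      rw [Subgroup.mem_normalizer_iff]
      intro b
      constructor
      · exact h0 x hxa rfl b
      · intro hb
        have := h0 x⁻¹ (fun b hb => Subgroup.Normal.conj_mem inferInstance b hb x⁻¹) (by group) _ hb
        simpa [mul_assoc] using this
  have hcb : commutator G ≤ f.range := by
    have hcen : ∀ g : G, QuotientGroup.mk' f.range g ∈ Subgroup.center (G ⧸ f.range) := by
      have hx1 : ∀ a ∈ A, QuotientGroup.mk' f.range a * QuotientGroup.mk' f.range x = QuotientGroup.mk' f.range x * QuotientGroup.mk' f.range a := by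
        intro a ha
        rw [← map_mul, ← map_mul]
        change (QuotientGroup.mk _ : G ⧸ f.range) = QuotientGroup.mk _
        rw [QuotientGroup.eq]
        have : (a * x)⁻¹ * (x * a) = x⁻¹ * (a⁻¹ * (x * a * x⁻¹)) * x := by group
        rw [this, ← hcomm _ (hxa a ha) _ (inv_mem ha)]
        have h3 := hB.conj_mem _ (show x * a * x⁻¹ * a⁻¹ ∈ f.range from ⟨⟨a, ha⟩, rfl⟩) x⁻¹
        simpa using h3
      -- A and x centralize image of A
      have h1 : ∀ g : G, ∀ a ∈ A, QuotientGroup.mk' f.range g * QuotientGroup.mk' f.range a = QuotientGroup.mk' f.range a * QuotientGroup.mk' f.range g := by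
        have h2 : (⊤ : Subgroup G) ≤ (Subgroup.centralizer (QuotientGroup.mk' f.range '' (A : Set G))).comap (QuotientGroup.mk' f.range) := by
          rw [← hgen, sup_le_iff, Subgroup.zpowers_le]
          constructor
          · intro b hb
            rw [Subgroup.mem_comap, Subgroup.mem_centralizer_iff]
            rintro _ ⟨a, ha, rfl⟩
            rw [← map_mul, ← map_mul, hcomm a ha b hb]
          · rw [Subgroup.mem_comap, Subgroup.mem_centralizer_iff]
            rintro _ ⟨a, ha, rfl⟩
            exact hx1 a ha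
        intro g a ha
        have := h2 (Subgroup.mem_top g)
        rw [Subgroup.mem_comap, Subgroup.mem_centralizer_iff] at this
        exact (this _ ⟨a, ha, rfl⟩).symm
      have h2 : ∀ g : G, QuotientGroup.mk' f.range g * QuotientGroup.mk' f.range x = QuotientGroup.mk' f.range x * QuotientGroup.mk' f.range g := by
        have h2 : (⊤ : Subgroup G) ≤ (Subgroup.centralizer {QuotientGroup.mk' f.range x}).comap (QuotientGroup.mk' f.range) := by
          rw [← hgen, sup_le_iff, Subgroup.zpowers_le]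
          constructor
          · intro b hb
            rw [Subgroup.mem_comap, Subgroup.mem_centralizer_singleton_iff]
            exact (hx1 b hb)
          · rw [Subgroup.mem_comap, Subgroup.mem_centralizer_singleton_iff]
        intro g
        have := h2 (Subgroup.mem_top g)
        rw [Subgroup.mem_comap, Subgroup.mem_centralizer_singleton_iff] at this
        exact this
      have h3 : (⊤ : Subgroup G) ≤ (Subgroup.center (G ⧸ f.range)).comap (QuotientGroup.mk' f.range) := by
        rw [← hgen, sup_le_iff, Subgroup.zpowers_le]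
        constructor
        · intro b hb
          rw [Subgroup.mem_comap, Subgroup.mem_center_iff]
          intro g
          obtain ⟨g, rfl⟩ := QuotientGroup.mk'_surjective _ g
          exact h1 g b hb
        · rw [Subgroup.mem_comap, Subgroup.mem_center_iff]
          intro g
          obtain ⟨g, rfl⟩ := QuotientGroup.mk'_surjective _ g
          exact h2 g
      intro g
      exact h3 (Subgroup.mem_top g)
    rw [commutator_def, Subgroup.commutator_le]
    intro a _ b _
    have h4 := hcen a
    rw [Subgroup.mem_center_iff] at h4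
    have h5 := h4 (QuotientGroup.mk' f.range b)
    rw [← QuotientGroup.ker_mk' f.range, MonoidHom.mem_ker, map_commutatorElement, commutatorElement_eq_one_iff_mul_comm]
    exact h5.symm
  have hxc : ∀ a : G, x * a * x⁻¹ * a⁻¹ ∈ commutator G := by
    intro a
    rw [commutator_def]
    exact Subgroup.commutator_mem_commutator (Subgroup.mem_top x) (Subgroup.mem_top a)
  have heq : commutator G = f.range := le_antisymm hcb (by rintro _ ⟨a, rfl⟩; exact hxc a)
  refine ⟨fun a _ => hxc a, ?_, hmul, ?_⟩
  · intro c hc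
    obtain ⟨a, ha⟩ := hcb hc
    exact ⟨a, a.2, ha⟩
  · rw [heq]
    have h1 : Nat.card ↥(A ⊓ Subgroup.centralizer ({x} : Set G)) = Nat.card f.ker := by
      rw [← Subgroup.card_map_of_injective (Subgroup.subtype_injective A)]
      congr 1
      apply congrArg (fun H : Subgroup G => (H : Type _))
      ext z
      constructor
      · rintro ⟨hz1, hz2⟩
        refine ⟨⟨z, hz1⟩, ?_, rfl⟩
        rw [SetLike.mem_coe, MonoidHom.mem_ker]
        change x * z * x⁻¹ * z⁻¹ = 1
        have hz3 : z ∈ Subgroup.centralizer ({x} : Set G) := hz2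
        rw [Subgroup.mem_centralizer_singleton_iff] at hz3
        rw [← hz3]; group
      · rintro ⟨⟨z, hz⟩, h, rfl⟩
        refine ⟨hz, ?_⟩
        rw [SetLike.mem_coe, MonoidHom.mem_ker] at h
        have h' : x * z * x⁻¹ * z⁻¹ = 1 := h
        change z ∈ Subgroup.centralizer ({x} : Set G)
        rw [Subgroup.mem_centralizer_singleton_iff]
        rw [mul_inv_eq_one, mul_inv_eq_iff_eq_mul] at h'
        exact h'.symm
    rw [h1, ← Subgroup.index_ker, Subgroup.index_mul_card]

end Cfsg.Agent.S3866
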