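import Cfsg.Statements.S3807
import Mathlib
import Cfsg.Agent.Lib.PGrp
import Cfsg.Agent.S3866

set_option autoImplicit false
open Cfsg

namespace Cfsg.Agent.S3807

open CfsgLib.PGrp Subgroup in
theorem part1 {S : Type*} [Group S] [Finite S] (p : ℕ) [hp : Fact p.Prime] (hS : IsPGroup p S) (hna : ¬ IsMulCommutative S)
    (A : Subgroup S) (hA : IsMulCommutative ↥A) (hAi : A.index = p) :
    (Subgroup.center S).index = p * Nat.card (commutator S) := by
  have hco := isCoatom_of_index_prime hAi
  have hn := normal_of_index_prime hS hAi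
  obtain ⟨x, hx⟩ : ∃ x : S, x ∉ A := by
    by_contra hcon
    push Not at hcon
    exact hco.1 (eq_top_iff.2 (fun x _ => hcon x))
  have hgen : A ⊔ zpowers x = ⊤ := hco.2 _ (lt_of_le_of_ne le_sup_left (by
    intro h
    exact hx (h ▸ (le_sup_right : zpowers x ≤ A ⊔ zpowers x) (mem_zpowers x))))
  have h1 := (Cfsg.Agent.S3866.result A hA x hgen).2.2.2
  have hZ : center S = A ⊓ centralizer ({x} : Set S) := by
    apply le_antisymm
    · intro z hz
      refine mem_inf.2 ⟨?_, ?_⟩
      · by_contra hzA
        apply hna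
        have h2 : A ⊔ zpowers z = ⊤ := hco.2 _ (lt_of_le_of_ne le_sup_left (by
          intro h
          exact hzA (h ▸ (le_sup_right : zpowers z ≤ A ⊔ zpowers z) (mem_zpowers z))))
        have hzc := mem_center_iff.1 hz
        refine ⟨⟨?_⟩⟩
        intro a b
        have ha : a ∈ A ⊔ zpowers z := h2 ▸ mem_top a
        have hb : b ∈ A ⊔ zpowers z := h2 ▸ mem_top b
        obtain ⟨u, hu, _, ⟨i, rfl⟩, rfl⟩ := Subgroup.mem_sup_of_normal_left.1 ha
        obtain ⟨v, hv, _, ⟨j, rfl⟩, rfl⟩ := Subgroup.mem_sup_of_normal_left.1 hb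
        have hzi : ∀ (i : ℤ) (g : S), g * z ^ i = z ^ i * g := fun i g => mem_center_iff.1 (zpow_mem hz i) g
        have huv := mul_comm_of_isMulCommutative hA hu hv
        simp only
        calc u * z ^ i * (v * z ^ j) = u * (z ^ i * v) * z ^ j := by group
          _ = u * (v * z ^ i) * z ^ j := by rw [hzi i v]
          _ = (u * v) * (z ^ i * z ^ j) := by group
          _ = (v * u) * (z ^ j * z ^ i) := by rw [huv, hzi i]
          _ = v * (u * z ^ j) * z ^ i := by group
          _ = v * (z ^ j * u) * z ^ i := by rw [hzi j u]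
          _ = _ := by group
      · rw [mem_centralizer_singleton_iff]
        exact (mem_center_iff.1 hz x).symm
    · intro z hz
      obtain ⟨hz1, hz2⟩ := mem_inf.1 hz
      rw [mem_centralizer_singleton_iff] at hz2
      rw [mem_center_iff]
      intro g
      have hg : g ∈ A ⊔ zpowers x := hgen ▸ mem_top g
      obtain ⟨u, hu, _, ⟨i, rfl⟩, rfl⟩ := Subgroup.mem_sup_of_normal_left.1 hg
      have h3 : Commute z (x ^ i) := Commute.zpow_right hz2 i
      have h4 : u * z = z * u := mul_comm_of_isMulCommutative hA hu hz1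
      simp only
      calc u * x ^ i * z = u * (x ^ i * z) := by group
        _ = u * (z * x ^ i) := by rw [h3.eq]
        _ = (u * z) * x ^ i := by group
        _ = (z * u) * x ^ i := by rw [h4]
        _ = _ := by group
  rw [← hZ] at h1
  have h5 := Subgroup.card_mul_index (center S)
  have h6 := Subgroup.card_mul_index A
  rw [hAi, ← h1] at h6
  have h7 : 0 < Nat.card (center S) := Nat.card_pos
  apply Nat.eq_of_mul_eq_mul_left h7
  rw [h5, ← h6]
  ring

open CfsgLib.PGrp Subgroup in
theorem part2 {S : Type*} [Group S] [Finite S] (p : ℕ) [hp : Fact p.Prime] (hS : IsPGroup p S) (hna : ¬ IsMulCommutative S)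
    (hZ : (center S).index = p ^ 2) : Cfsg.IsElementaryAbelian p (⊤ : Subgroup (S ⧸ Subgroup.center S)) ∧
          Nat.card (S ⧸ Subgroup.center S) = p ^ 2 ∧
          Nat.card {B : Subgroup S // IsMulCommutative ↥B ∧ B.index = p} = p + 1 := by
  classical
  have hc : Nat.card (S ⧸ center S) = p ^ 2 := by rw [← Subgroup.index_eq_card, hZ]
  have hncyc : ¬ IsCyclic (S ⧸ center S) := fun h =>
    hna (MonoidHom.isMulCommutative_of_isCyclic_of_ker_le_center (QuotientGroup.mk' (center S)) (by simp))
  have hexp : ∀ a : S ⧸ center S, a ^ p = 1 := by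
    intro a
    have h1 : orderOf a ∣ p ^ 2 := hc ▸ orderOf_dvd_natCard a
    obtain ⟨k, hk, hk'⟩ := (Nat.dvd_prime_pow hp.out).1 h1
    interval_cases k
    · rw [pow_zero, orderOf_eq_one_iff] at hk'
      rw [hk', one_pow]
    · rw [pow_one] at hk'
      rw [← hk', pow_orderOf_eq_one]
    · exact absurd (isCyclic_of_orderOf_eq_card a (by rw [hk', hc])) hncyc
  refine ⟨⟨?_, fun a _ => hexp a⟩, hc, ?_⟩
  · have := IsPGroup.isMulCommutative_of_card_eq_prime_sq hc
    infer_instance
  -- counting
  set Z := center S with hZdef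
  have hZn : Z.Normal := inferInstance
  let T := {B : Subgroup S // IsMulCommutative ↥B ∧ B.index = p}
  have hpz := hp.out.pos
  have hcardS := Subgroup.card_mul_index Z
  rw [hZ] at hcardS
  have hBcard : ∀ B : T, Nat.card B.1 = Nat.card Z * p := by
    intro B
    have h1 := Subgroup.card_mul_index B.1
    rw [B.2.2, ← hcardS] at h1
    have : Nat.card B.1 * p = (Nat.card Z * p) * p := by rw [h1]; ring
    exact Nat.eq_of_mul_eq_mul_right hpz this
  have hZB : ∀ B : T, Z ≤ B.1 := by
    intro B
    by_contra hnot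
    have hco := isCoatom_of_index_prime B.2.2
    have h2 : B.1 ⊔ Z = ⊤ := hco.2 _ (lt_of_le_of_ne le_sup_left (by
      intro h; exact hnot (h ▸ le_sup_right)))
    apply hna
    refine ⟨⟨?_⟩⟩
    intro a b
    obtain ⟨u, hu, v, hv, rfl⟩ := Subgroup.mem_sup_of_normal_right.1 (h2 ▸ mem_top a : a ∈ B.1 ⊔ Z)
    obtain ⟨u', hu', v', hv', rfl⟩ := Subgroup.mem_sup_of_normal_right.1 (h2 ▸ mem_top b : b ∈ B.1 ⊔ Z)
    have h3 := mem_center_iff.1 hv
    have h4 := mem_center_iff.1 hv'
    have h5 := mul_comm_of_isMulCommutative B.2.1 hu hu'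
    calc u * v * (u' * v') = u * (v * u') * v' := by group
      _ = u * (u' * v) * v' := by rw [h3]
      _ = (u * u') * (v * v') := by group
      _ = (u' * u) * (v' * v) := by rw [h5, h4 v]
      _ = u' * (u * v') * v := by group
      _ = u' * (v' * u) * v := by rw [h4]
      _ = _ := by group
  -- for x ∉ Z, Z ⊔ zpowers x ∈ T and is the unique member containing x
  have hmem : ∀ x : S, x ∉ Z → (Z ⊔ zpowers x).index = p := by
    intro x hx
    have h1 : Nat.card ↥(Z ⊔ zpowers x) = Nat.card Z * p := by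
      have h2 : (Z ⊔ zpowers x) = (zpowers (QuotientGroup.mk' Z x)).comap (QuotientGroup.mk' Z) := by
        rw [← MonoidHom.map_zpowers, Subgroup.comap_map_eq, QuotientGroup.ker_mk', sup_comm]
      rw [h2, card_comap_mk', Nat.card_zpowers, mul_comm]
      congr 1
      apply orderOf_eq_prime (hexp _)
      intro h
      apply hx
      rwa [← QuotientGroup.ker_mk' Z, MonoidHom.mem_ker]
    have h3 := Subgroup.card_mul_index (Z ⊔ zpowers x)
    rw [h1, ← hcardS] at h3
    have h4 : 0 < Nat.card Z * p := Nat.mul_pos Nat.card_pos hpz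
    apply Nat.eq_of_mul_eq_mul_left h4
    rw [h3]; ring
  let f : {x : S // x ∉ Z} → T := fun x => ⟨Z ⊔ zpowers x.1, isMulCommutative_sup_zpowers le_rfl x.1, hmem x.1 x.2⟩
  have hf : ∀ (x : {x : S // x ∉ Z}) (B : T), f x = B ↔ x.1 ∈ B.1 := by
    intro x B
    constructor
    · rintro rfl
      exact (le_sup_right : zpowers x.1 ≤ Z ⊔ zpowers x.1) (mem_zpowers _)
    · intro h
      apply Subtype.ext
      apply Subgroup.eq_of_le_of_card_ge
      · exact sup_le (hZB B) (by rwa [zpowers_le])
      · rw [hBcard B, hBcard (f x)]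
  have := Fintype.ofFinite S
  have := Fintype.ofFinite T
  have h1 : Fintype.card {x : S // x ∉ Z} = ∑ B : T, (Finset.univ.filter (fun x => f x = B)).card := by
    rw [← Finset.card_univ]
    exact Finset.card_eq_sum_card_fiberwise (fun x _ => by simp)
  have hZc : Nat.card Z = Fintype.card {x : S // x ∈ Z} := by
    rw [Nat.card_eq_fintype_card]
  have h2 : ∀ B : T, (Finset.univ.filter (fun x => f x = B)).card = Nat.card Z * p - Nat.card Z := by
    intro B
    have h3 : (Finset.univ.filter (fun x => f x = B)).card = Nat.card {x : {x : S // x ∉ Z} // x.1 ∈ B.1} := by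
      rw [Nat.card_eq_fintype_card, Fintype.card_subtype]
      congr 1
      ext x
      simp [hf]
    have h4 : Nat.card B.1 = Nat.card Z + Nat.card {x : {x : S // x ∉ Z} // x.1 ∈ B.1} := by
      rw [← Nat.card_sum]
      apply Nat.card_congr
      refine (Equiv.sumCompl (fun y : B.1 => (y : S) ∈ Z)).symm.trans (Equiv.sumCongr ?_ ?_)
      · exact
          { toFun := fun y => ⟨y.1.1, y.2⟩
            invFun := fun y => ⟨⟨y.1, hZB B y.2⟩, y.2⟩
            left_inv := fun y => rfl
            right_inv := fun y => rfl }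
      · exact
          { toFun := fun y => ⟨⟨y.1.1, y.2⟩, y.1.2⟩
            invFun := fun y => ⟨⟨y.1.1, y.2⟩, y.1.2⟩
            left_inv := fun y => rfl
            right_inv := fun y => rfl }
    rw [h3]
    rw [hBcard B] at h4
    omega
  have h3 : Fintype.card {x : S // x ∉ Z} = Nat.card S - Nat.card Z := by
    rw [Fintype.card_subtype_compl, ← Nat.card_eq_fintype_card, ← Nat.card_eq_fintype_card]
  rw [Finset.sum_congr rfl (fun B _ => h2 B), Finset.sum_const, smul_eq_mul, Finset.card_univ, h3, ← hcardS] at h1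
  rw [Nat.card_eq_fintype_card]
  change Fintype.card T = p + 1
  have hz : 0 < Nat.card Z := Nat.card_pos
  have h4 : Nat.card Z * p ^ 2 - Nat.card Z = (p + 1) * (Nat.card Z * p - Nat.card Z) := by
    have h5 : Nat.card Z ≤ Nat.card Z * p := Nat.le_mul_of_pos_right _ hpz
    have h6 : Nat.card Z ≤ Nat.card Z * p ^ 2 := Nat.le_mul_of_pos_right _ (pow_pos hpz 2)
    zify [h5, h6]
    ring
  rw [h4] at h1
  have h5 : 0 < Nat.card Z * p - Nat.card Z := by
    have : Nat.card Z * 1 < Nat.card Z * p := Nat.mul_lt_mul_of_pos_left hp.out.one_lt hz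
    omega
  exact (Nat.eq_of_mul_eq_mul_right h5 h1).symm


/-- Let S be a non-abelian finite p-group with an abelian subgroup A of index p. Then [S : Z(S)] = p·#[S,S], and either [S,S] has order p, S/Z(S) is elementary abelian of order p², and S has exactly p + 1 abelian subgroups of index p; or [S,S] has order at least p² and A is the only abelian subgroup of index p in S. -/
theorem result {S : Type*} [Group S] [Finite S] (p : ℕ) [Fact p.Prime] (hS : IsPGroup p S) (hna : ¬ IsMulCommutative S)
    (A : Subgroup S) (hA : IsMulCommutative ↥A) (hAi : A.index = p) :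
    (Subgroup.center S).index = p * Nat.card (commutator S) ∧
      ((Nat.card (commutator S) = p ∧ Cfsg.IsElementaryAbelian p (⊤ : Subgroup (S ⧸ Subgroup.center S)) ∧
          Nat.card (S ⧸ Subgroup.center S) = p ^ 2 ∧
          Nat.card {B : Subgroup S // IsMulCommutative ↥B ∧ B.index = p} = p + 1) ∨
        (p ^ 2 ≤ Nat.card (commutator S) ∧ ∀ B : Subgroup S, IsMulCommutative ↥B → B.index = p → B = A)) := by
  have h1 := part1 p hS hna A hA hAi
  have hp := (Fact.out : p.Prime)
  refine ⟨h1, ?_⟩
  obtain ⟨k, hk⟩ := IsPGroup.iff_card.1 (hS.to_subgroup (commutator S))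
  have hk0 : k ≠ 0 := by
    rintro rfl
    rw [pow_zero, Subgroup.card_eq_one, commutator_def, Subgroup.commutator_eq_bot_iff_le_centralizer] at hk
    apply hna
    refine ⟨⟨fun a b => ?_⟩⟩
    exact (Subgroup.mem_centralizer_iff.1 (hk (Subgroup.mem_top b))) a (Subgroup.mem_top a)
  rcases Nat.lt_or_ge k 2 with h | h
  · left
    have hk1 : k = 1 := by omega
    rw [hk1, pow_one] at hk
    rw [hk, ← sq] at h1
    obtain ⟨h2, h3, h4⟩ := part2 p hS hna h1
    exact ⟨hk, h2, h3, h4⟩
  · right
    refine ⟨by rw [hk]; exact Nat.pow_le_pow_right hp.pos h, ?_⟩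
    intro B hB hBi
    by_contra hne
    have hcoA := CfsgLib.PGrp.isCoatom_of_index_prime hAi
    have hcoB := CfsgLib.PGrp.isCoatom_of_index_prime hBi
    have hsup : A ⊔ B = ⊤ := by
      apply hcoA.2
      refine lt_of_le_of_ne le_sup_left ?_
      intro h'
      have hBA : B ≤ A := h' ▸ le_sup_right
      rcases eq_or_lt_of_le hBA with h'' | h''
      · exact hne h''
      · exact hcoA.1 (hcoB.2 _ h'')
    have hAn := CfsgLib.PGrp.normal_of_index_prime hS hAi
    have hcen : A ⊓ B ≤ Subgroup.center S := by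
      intro z hz
      obtain ⟨hz1, hz2⟩ := Subgroup.mem_inf.1 hz
      rw [Subgroup.mem_center_iff]
      intro g
      obtain ⟨u, hu, v, hv, rfl⟩ := Subgroup.mem_sup_of_normal_left.1 (hsup ▸ Subgroup.mem_top g : g ∈ A ⊔ B)
      have h3 := CfsgLib.PGrp.mul_comm_of_isMulCommutative hA hu hz1
      have h4 := CfsgLib.PGrp.mul_comm_of_isMulCommutative hB hv hz2
      calc u * v * z = u * (v * z) := by group
        _ = u * (z * v) := by rw [h4]
        _ = (u * z) * v := by group
        _ = (z * u) * v := by rw [h3]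
        _ = _ := by group
    have h5 : (A ⊓ B).index ≤ p * p := by
      have := Subgroup.index_inf_le (H := A) (K := B)
      rwa [hAi, hBi] at this
    have h6 : (Subgroup.center S).index ≤ (A ⊓ B).index := Nat.le_of_dvd (Nat.pos_of_ne_zero Subgroup.index_ne_zero_of_finite) (Subgroup.index_dvd_of_le hcen)
    rw [h1, hk] at h6
    have h7 : p * p ^ 2 ≤ p * p ^ k := Nat.mul_le_mul_left _ (Nat.pow_le_pow_right hp.pos h)
    have h8 : p * p < p * p ^ 2 := Nat.mul_lt_mul_of_pos_left (by nlinarith [hp.one_lt]) hp.pos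
    omega

end Cfsg.Agent.S3807
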