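import Cfsg.Statements.S3808
import Mathlib
import Cfsg.Agent.Lib.PGrp

set_option autoImplicit false
open Cfsg

namespace Cfsg.Agent.S3808

open CfsgLib.PGrp Subgroup in
theorem aux {S : Type*} [Group S] [Finite S] (p : ℕ) [hp : Fact p.Prime] (hS : IsPGroup p S) (Q : Subgroup S)
    (hQ : Cfsg.IsExtraspecial p ↥Q) (hQi : Q.index = p) :
    (center ↥Q).map Q.subtype ≤ center S ∧ center S ⊓ Q = (center ↥Q).map Q.subtype ∧ Nat.card ↥((center ↥Q).map Q.subtype) = p := by
  have hn := normal_of_index_prime hS hQi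
  have h1 : Nat.card ↥((center ↥Q).map Q.subtype) = p := by
    rw [Subgroup.card_map_of_injective Q.subtype_injective, hQ.2]
  have h2 : ((center ↥Q).map Q.subtype).Normal := ConjAct.normal_of_characteristic_of_normal
  have h3 := le_center_of_card_eq_prime hS h2 h1
  refine ⟨h3, le_antisymm ?_ (le_inf h3 (Subgroup.map_subtype_le _)), h1⟩
  intro z hz
  obtain ⟨hz1, hz2⟩ := mem_inf.1 hz
  refine ⟨⟨z, hz2⟩, ?_, rfl⟩
  rw [SetLike.mem_coe, mem_center_iff]
  intro g
  exact Subtype.ext (mem_center_iff.1 hz1 g)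


/-- Let S be a finite p-group with an extraspecial subgroup Q of index p. Then either Z(S) = Z(Q), or S = Q·Z(S) and Z(S) has order p². -/
theorem result {S : Type*} [Group S] [Finite S] (p : ℕ) [Fact p.Prime] (hS : IsPGroup p S) (Q : Subgroup S) (hQ : Cfsg.IsExtraspecial p ↥Q) (hQi : Q.index = p) :
    Subgroup.center S = (Subgroup.center ↥Q).map Q.subtype ∨
      (Q ⊔ Subgroup.center S = ⊤ ∧ Nat.card (Subgroup.center S) = p ^ 2) := by
  obtain ⟨h1, h2, h3⟩ := aux p hS Q hQ hQi
  by_cases hle : Subgroup.center S ≤ Q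
  · left
    rw [← h2, inf_eq_left.2 hle]
  · right
    have hco := CfsgLib.PGrp.isCoatom_of_index_prime hQi
    have hn := CfsgLib.PGrp.normal_of_index_prime hS hQi
    have hsup : Q ⊔ Subgroup.center S = ⊤ := hco.2 _ (lt_of_le_of_ne le_sup_left (fun h => hle (h ▸ le_sup_right)))
    refine ⟨hsup, ?_⟩
    have h4 := Subgroup.relIndex_sup_left Q (Subgroup.center S)
    have h5 : Q.relIndex (Q ⊔ Subgroup.center S) = Q.relIndex (Subgroup.center S) := Subgroup.relIndex_sup_left _ _
    rw [hsup, Subgroup.relIndex_top_right, hQi] at h5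
    have h6 := Subgroup.relIndex_mul_relIndex (⊥ : Subgroup S) (Subgroup.center S ⊓ Q) (Subgroup.center S) bot_le inf_le_left
    rw [Subgroup.relIndex_bot_left, Subgroup.relIndex_bot_left, Subgroup.inf_relIndex_left, ← h5, h2, h3] at h6
    rw [← h6, sq]

end Cfsg.Agent.S3808
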