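import Cfsg.Statements.S3809
import Mathlib
import Cfsg.Agent.Lib.PGrp

set_option autoImplicit false
open Cfsg

namespace Cfsg.Agent.S3809

/-- Let S be a finite p-group with an extraspecial subgroup of index p. Then S has order p^(2+2n) for some n ≥ 1, derived length at most 3, and exponent dividing p³. -/
theorem result {S : Type*} [Group S] [Finite S] (p : ℕ) [Fact p.Prime] (hS : IsPGroup p S) (Q : Subgroup S) (hQ : Cfsg.IsExtraspecial p ↥Q) (hQi : Q.index = p) :
    (∃ n : ℕ, 1 ≤ n ∧ Nat.card S = p ^ (2 + 2 * n)) ∧ derivedSeries S 3 = ⊥ ∧ ∀ x : S, x ^ (p ^ 3) = 1 := by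
  have hp := (Fact.out : p.Prime)
  have hn := CfsgLib.PGrp.normal_of_index_prime hS hQi
  refine ⟨?_, ?_, ?_⟩
  · obtain ⟨n, hn1, hn2⟩ := CfsgLib.PGrp.esp_card hQ
    refine ⟨n, hn1, ?_⟩
    rw [← Subgroup.card_mul_index Q, hn2, hQi]
    ring
  · have h1 : derivedSeries S 1 ≤ Q := by
      rw [derivedSeries_one]
      exact (CfsgLib.PGrp.commutator_le_frattini hS).trans (frattini_le_coatom (CfsgLib.PGrp.isCoatom_of_index_prime hQi))
    have h2 : derivedSeries S 2 ≤ (Subgroup.center Q).map Q.subtype := by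
      rw [derivedSeries_succ]
      refine (Subgroup.commutator_mono h1 h1).trans ?_
      rw [← hQ.1.2.2, commutator_def, Subgroup.map_commutator, ← MonoidHom.range_eq_map, Subgroup.range_subtype]
    rw [derivedSeries_succ, eq_bot_iff]
    refine (Subgroup.commutator_mono h2 h2).trans ?_
    rw [← Subgroup.map_commutator, Subgroup.commutator_eq_bot_iff_le_centralizer.2, Subgroup.map_bot]
    intro z hz
    rw [Subgroup.mem_centralizer_iff]
    intro w _
    exact Subgroup.mem_center_iff.1 hz w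
  · intro x
    have h1 : x ^ p ∈ Q := by
      have := Subgroup.pow_index_mem Q x
      rwa [hQi] at this
    have h2 := CfsgLib.PGrp.esp_pow_mem hQ ⟨x ^ p, h1⟩
    have h3 : ((⟨x ^ p, h1⟩ : Q) ^ p) ^ p = 1 := by
      have := Subgroup.orderOf_dvd_natCard _ h2
      rw [hQ.2] at this
      exact orderOf_dvd_iff_pow_eq_one.1 this
    have h4 := congrArg Subtype.val h3
    have h5 : ((x ^ p) ^ p) ^ p = 1 := h4
    rw [← pow_mul, ← pow_mul] at h5
    rw [← h5]; congr 1; ring

end Cfsg.Agent.S3809
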