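import Cfsg.Statements.S3810
import Mathlib
import Cfsg.Agent.Lib.PGrp
import Cfsg.Agent.S3807
import Cfsg.Agent.S3808

set_option autoImplicit false
open Cfsg

namespace Cfsg.Agent.S3810

open CfsgLib.PGrp Subgroup in
theorem fwd {S : Type*} [Group S] [Finite S] (p : ℕ) [hp : Fact p.Prime] (hS : IsPGroup p S) (Q : Subgroup S) (hQ : Cfsg.IsExtraspecial p ↥Q) (hQi : Q.index = p)
    (A : Subgroup S) (hA : IsMulCommutative ↥A) (hAi : A.index = p) : Nat.card S = p ^ 4 := by
  have hna := esp_not_comm hQ
  have hAn := normal_of_index_prime hS hAi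
  have hcoA := isCoatom_of_index_prime hAi
  have hcoQ := isCoatom_of_index_prime hQi
  have hsup : A ⊔ Q = ⊤ := by
    apply hcoA.2
    refine lt_of_le_of_ne le_sup_left ?_
    intro h'
    have hBA : Q ≤ A := h' ▸ le_sup_right
    rcases eq_or_lt_of_le hBA with h'' | h''
    · subst h''; exact hna hA
    · exact hcoA.1 (hcoQ.2 _ h'')
  have h1 : A.relIndex Q = p := by
    rw [← Subgroup.relIndex_sup_left Q A, hsup, relIndex_top_right, hAi]
  have h2 : (A.subgroupOf Q).index = p := h1
  have h3 : IsMulCommutative ↥(A.subgroupOf Q) := by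
    refine ⟨⟨?_⟩⟩
    rintro ⟨a, ha⟩ ⟨b, hb⟩
    apply Subtype.ext
    apply Subtype.ext
    exact mul_comm_of_isMulCommutative hA ha hb
  have h4 := Cfsg.Agent.S3807.part1 p (hS.to_subgroup Q) hna _ h3 h2
  rw [hQ.1.2.2, hQ.2] at h4
  have h5 := Subgroup.card_mul_index (center Q)
  rw [hQ.2, h4] at h5
  rw [← Subgroup.card_mul_index Q, hQi, ← h5]
  ring

open CfsgLib.PGrp Subgroup in
theorem bwd {S : Type*} [Group S] [Finite S] (p : ℕ) [hp : Fact p.Prime] (hS : IsPGroup p S) (Q : Subgroup S) (hQ : Cfsg.IsExtraspecial p ↥Q) (hQi : Q.index = p)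
    (hc : Nat.card S = p ^ 4) : ∃ A : Subgroup S, IsMulCommutative ↥A ∧ A.index = p := by
  have hQn := normal_of_index_prime hS hQi
  have hQc : Nat.card Q = p ^ 3 := by
    have := Subgroup.card_mul_index Q
    rw [hQi, hc] at this
    exact Nat.eq_of_mul_eq_mul_right hp.out.pos (by rw [this]; ring)
  obtain ⟨h1, h2, h3⟩ := Cfsg.Agent.S3808.aux p hS Q hQ hQi
  rcases Cfsg.Agent.S3808.result p hS Q hQ hQi with h | ⟨h, h'⟩
  · -- Z(S) = Z(Q)
    have hZc : Nat.card (center S) = p ^ 1 := by rw [h, h3, pow_one]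
    obtain ⟨N, hN1, hN2, hN3, hN4⟩ := exists_normal_between (k := 2) hS (inferInstance : (center S).Normal) hQn
      (by rw [h]; exact Subgroup.map_subtype_le _) hZc hQc (by norm_num) (by norm_num)
    have hNc : IsMulCommutative N := IsPGroup.isMulCommutative_of_card_eq_prime_sq hN4
    -- [N, S] ≤ Z(S)
    have h5 : ⁅N, (⊤ : Subgroup S)⁆ ≤ center S := by
      have h6 : (N.map (QuotientGroup.mk' (center S))) ≤ center (S ⧸ center S) := by
        apply le_center_of_card_eq_prime (hS.to_quotient _) (hN1.map _ (QuotientGroup.mk'_surjective _))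
        have h7 := card_comap_mk' (center S) (N.map (QuotientGroup.mk' (center S)))
        rw [Subgroup.comap_map_eq, QuotientGroup.ker_mk', sup_eq_left.2 hN2, hN4, hZc, pow_one] at h7
        exact (Nat.eq_of_mul_eq_mul_right hp.out.pos (by rw [← h7]; ring)).symm
      rw [Subgroup.commutator_le]
      intro n hn g _
      have h7 := mem_center_iff.1 (h6 ⟨n, hn, rfl⟩) (QuotientGroup.mk' (center S) g)
      rw [← QuotientGroup.ker_mk' (center S), MonoidHom.mem_ker, map_commutatorElement, commutatorElement_eq_one_iff_mul_comm]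
      exact h7.symm
    have hcen : ∀ z ∈ ⁅N, (⊤ : Subgroup S)⁆, ∀ a : S, z * a = a * z := fun z hz a => ((mem_center_iff.1 (h5 hz)) a).symm
    have hne : ⁅N, (⊤ : Subgroup S)⁆ ≠ ⊥ := by
      intro hb
      rw [Subgroup.commutator_eq_bot_iff_le_centralizer, Subgroup.coe_top, Subgroup.centralizer_univ] at hb
      have := Subgroup.card_dvd_of_le hb
      rw [hN4, hZc] at this
      have := Nat.le_of_dvd (pow_pos hp.out.pos 1) this
      have : p ^ 1 < p ^ 2 := Nat.pow_lt_pow_right hp.out.one_lt (by norm_num)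
      omega
    have hcard : Nat.card ↥⁅N, (⊤ : Subgroup S)⁆ = p := by
      have h8 : Nat.card ↥⁅N, (⊤ : Subgroup S)⁆ ∣ p := by
        have := Subgroup.card_dvd_of_le h5
        rwa [hZc, pow_one] at this
      rcases (Nat.dvd_prime hp.out).1 h8 with h' | h'
      · exact absurd (Subgroup.card_eq_one.1 h') hne
      · exact h'
    have h9 := relIndex_centralizer_eq (A := N) (B := ⊤) (fun z hz a _ => hcen z hz a) (fun z hz a _ => hcen z hz a) hcard
      (fun z hz w _ => hcen z hz w)
    rw [Subgroup.coe_top, Subgroup.centralizer_univ, relIndex_top_right] at h9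
    have h10 : (center S).relIndex N = p := by
      have h11 := Subgroup.relIndex_mul_relIndex (⊥ : Subgroup S) (center S) N bot_le hN2
      rw [relIndex_bot_left, relIndex_bot_left, hZc, hN4] at h11
      exact Nat.eq_of_mul_eq_mul_left (pow_pos hp.out.pos 1) (by rw [h11]; ring)
    rw [h10] at h9
    refine ⟨centralizer (N : Set S), ?_, h9.symm⟩
    -- the centralizer is abelian: it is cyclic mod central N
    have hNC : N ≤ centralizer (N : Set S) := by
      intro n hn
      rw [mem_centralizer_iff]
      intro m hm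
      exact mul_comm_of_isMulCommutative hNc hm hn
    apply comm_of_center_index_lt (hS.to_subgroup _)
    have h12 : N.subgroupOf (centralizer (N : Set S)) ≤ center ↥(centralizer (N : Set S)) := by
      intro n hn
      rw [mem_center_iff]
      intro g
      apply Subtype.ext
      exact ((mem_centralizer_iff.1 g.2) n hn).symm
    have h13 : (N.subgroupOf (centralizer (N : Set S))).index = p := by
      have h14 := Subgroup.relIndex_mul_index hNC
      have h15 := Subgroup.card_mul_index N
      rw [hN4, hc] at h15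
      have h16 : N.index = p ^ 2 := Nat.eq_of_mul_eq_mul_left (pow_pos hp.out.pos 2) (by rw [h15]; ring)
      rw [← h9, h16] at h14
      exact Nat.eq_of_mul_eq_mul_right hp.out.pos (by rw [← sq]; exact h14)
    have h17 := Subgroup.index_dvd_of_le h12
    rw [h13] at h17
    have h18 := Nat.le_of_dvd hp.out.pos h17
    nlinarith [hp.out.one_lt]
  · -- S = Q Z(S)
    obtain ⟨x, hxQ, hx⟩ : ∃ x ∈ Q, x ∉ center S := by
      by_contra hcon
      push Not at hcon
      apply esp_not_comm hQ
      refine ⟨⟨?_⟩⟩
      intro a b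
      apply Subtype.ext
      exact (mem_center_iff.1 (hcon b b.2) a)
    refine ⟨center S ⊔ zpowers x, isMulCommutative_sup_zpowers le_rfl x, ?_⟩
    have hxp : x ^ p ∈ center S := by
      have h5 := esp_pow_mem hQ ⟨x, hxQ⟩
      exact h1 ⟨_, h5, rfl⟩
    have h6 : Nat.card ↥(center S ⊔ zpowers x) = p ^ 3 := by
      have h2 : (center S ⊔ zpowers x) = (zpowers (QuotientGroup.mk' (center S) x)).comap (QuotientGroup.mk' (center S)) := by
        rw [← MonoidHom.map_zpowers, Subgroup.comap_map_eq, QuotientGroup.ker_mk', sup_comm]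
      rw [h2, card_comap_mk', Nat.card_zpowers, h', orderOf_eq_prime (p := p)]
      · ring
      · rw [← map_pow]
        change (QuotientGroup.mk (x ^ p) : S ⧸ center S) = 1
        rwa [QuotientGroup.eq_one_iff]
      · intro h
        apply hx
        rwa [← QuotientGroup.ker_mk' (center S), MonoidHom.mem_ker]
    have h7 := Subgroup.card_mul_index (center S ⊔ zpowers x)
    rw [h6, hc] at h7
    exact Nat.eq_of_mul_eq_mul_left (pow_pos hp.out.pos 3) (by rw [h7]; ring)


/-- Let S be a finite p-group with an extraspecial subgroup of index p. Then S has an abelian subgroup of index p if and only if S has order p⁴. -/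
theorem result {S : Type*} [Group S] [Finite S] (p : ℕ) [Fact p.Prime] (hS : IsPGroup p S) (Q : Subgroup S) (hQ : Cfsg.IsExtraspecial p ↥Q) (hQi : Q.index = p) :
    (∃ A : Subgroup S, IsMulCommutative ↥A ∧ A.index = p) ↔ Nat.card S = p ^ 4 := by
  constructor
  · rintro ⟨A, hA, hAi⟩
    exact fwd p hS Q hQ hQi A hA hAi
  · intro h
    exact bwd p hS Q hQ hQi h

end Cfsg.Agent.S3810
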