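import Cfsg.Statements.S3824
import Mathlib
import Cfsg.Agent.Lib.Core2

set_option autoImplicit false
open Cfsg

set_option linter.style.haveILetI false
namespace Cfsg.Agent.S3824

open Subgroup in
theorem relIndex_dvd_right {G : Type*} [Group G] [Finite G] (A N : Subgroup G) [N.Normal] : A.relIndex N ∣ A.index := by
  have h1 : A.relIndex N * N.index = N.relIndex A * A.index := by
    have e1 := relIndex_inf_mul_relIndex A N ⊤
    have e2 := relIndex_inf_mul_relIndex N A ⊤
    rw [inf_top_eq, relIndex_top_right, relIndex_top_right] at e1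
    rw [inf_top_eq, relIndex_top_right, relIndex_top_right] at e2
    rw [e1, e2, inf_comm]
  obtain ⟨c, hc⟩ := (relIndex_dvd_index_of_normal N A)
  have h0 : N.relIndex A ≠ 0 := (index_ne_zero_of_finite : (N.subgroupOf A).index ≠ 0)
  refine ⟨c, ?_⟩
  have : N.relIndex A * A.index = N.relIndex A * (A.relIndex N * c) := by
    rw [← h1, hc]; ring
  exact Nat.eq_of_mul_eq_mul_left (Nat.pos_of_ne_zero h0) this

universe u

open Subgroup in
theorem main (n : ℕ) : ∀ {G : Type u} [Group G] [Finite G], Nat.card G ≤ n →
    ∀ (A : Subgroup G), (IsMulCommutative A) → (∃ k : ℕ, A.index = 2 ^ k) → Group.IsSolvable G := by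
  induction n with
  | zero => intro G _ _ h; exact absurd h (by have := Nat.card_pos (α := G); omega)
  | succ n ih =>
    intro G _ _ hn A hA ⟨k, hk⟩
    by_cases hAb : A = ⊥
    · subst hAb
      rw [index_bot] at hk
      haveI : Fact (Nat.Prime 2) := ⟨Nat.prime_two⟩
      have hp : IsPGroup 2 G := IsPGroup.of_card hk
      haveI := hp.isNilpotent
      infer_instance
    · obtain ⟨a, ha, ha1⟩ := (bot_or_exists_ne_one A).resolve_left hAb
      haveI : Nontrivial G := ⟨⟨a, 1, ha1⟩⟩
      by_cases hs : IsSimpleGroup G
      · have hle : A ≤ centralizer ({a} : Set G) := by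
          intro x hx
          rw [mem_centralizer_singleton_iff]
          have := hA.is_comm.comm ⟨x, hx⟩ ⟨a, ha⟩
          exact (Subtype.ext_iff.1 this)
        have hd : (centralizer ({a} : Set G)).index ∣ 2 ^ k := hk ▸ index_dvd_of_le hle
        obtain ⟨j, _, hj⟩ := (Nat.dvd_prime_pow Nat.prime_two).1 hd
        exact CfsgLib.Core2.solvable_of_simple_of_class Nat.prime_two hs a ha1 j hj
      · obtain ⟨N, hN, hb, ht⟩ := CfsgLib.Core2.exists_normal_of_not_simple hs
        have hcN : Nat.card N < Nat.card G := CfsgLib.Core2.card_lt_of_ne_top ht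
        have hcQ : Nat.card (G ⧸ N) < Nat.card G := by
          have h1 := N.card_eq_card_quotient_mul_card_subgroup
          have h2 : 1 < Nat.card N := by
            rw [Nat.one_lt_iff_ne_zero_and_ne_one]
            exact ⟨Nat.card_pos.ne', fun h => hb (card_eq_one.1 h)⟩
          have h3 : 0 < Nat.card (G ⧸ N) := Nat.card_pos
          nlinarith
        refine CfsgLib.Core2.solvable_ext N ?_ ?_
        · have hd : A.relIndex N ∣ 2 ^ k := hk ▸ relIndex_dvd_right A N
          obtain ⟨j, _, hj⟩ := (Nat.dvd_prime_pow Nat.prime_two).1 hd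
          refine ih (by omega) (A.subgroupOf N) ?_ ⟨j, hj⟩
          haveI := hA
          exact subgroupOf_isMulCommutative N A
        · have hd : (A.map (QuotientGroup.mk' N)).index ∣ 2 ^ k := hk ▸ index_map_dvd A (QuotientGroup.mk'_surjective N)
          obtain ⟨j, _, hj⟩ := (Nat.dvd_prime_pow Nat.prime_two).1 hd
          refine ih (by omega) (A.map (QuotientGroup.mk' N)) ?_ ⟨j, hj⟩
          haveI := hA
          exact map_isMulCommutative A _


/-- Every finite group having an abelian subgroup whose index is a power of 2 is solvable. -/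
theorem result {G : Type*} [Group G] [Finite G]
    (A : Subgroup G) (hA : IsMulCommutative A) (hidx : ∃ k : ℕ, A.index = 2 ^ k) : Group.IsSolvable G := by
  exact main _ le_rfl A hA hidx

end Cfsg.Agent.S3824
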