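import Cfsg.Statements.S3858
import Mathlib
import Cfsg.Agent.Lib.Core

set_option autoImplicit false
open Cfsg

namespace Cfsg.Agent.S3858

open CfsgLib.Core Subgroup in
theorem not_normal {G : Type*} [Group G] [Finite G] (T : Subgroup G) [T.Normal] (hT : IsSimpleGroup T) (hna : ¬ IsMulCommutative T)
    {r : ℕ} [Fact r.Prime] (R : Sylow r G) (hR0 : (R : Subgroup G) ⊓ T ≠ ⊥) : ¬ ((R : Subgroup G) ⊓ T).Normal := by
  intro hn
  have h1 : (((R : Subgroup G) ⊓ T).subgroupOf T).Normal := inferInstance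
  rcases hT.eq_bot_or_eq_top_of_normal _ h1 with h | h
  · rw [Subgroup.subgroupOf_eq_bot, disjoint_iff, inf_assoc, inf_idem] at h
    exact hR0 h
  · rw [Subgroup.subgroupOf_eq_top] at h
    have h2 : T ≤ R := h.trans inf_le_left
    have h3 : IsPGroup r T := R.isPGroup'.to_le h2
    have h4 : Group.IsNilpotent T := h3.isNilpotent
    apply hna
    have h5 : Group.IsSolvable T := inferInstance
    exact ⟨⟨IsSimpleGroup.comm_iff_isSolvable.2 h5⟩⟩

open CfsgLib.Core Subgroup in
/-- a subgroup of index prime to r contains a conjugate of R -/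
theorem exists_conj_le {G : Type*} [Group G] [Finite G] {r : ℕ} [Fact r.Prime] (R : Sylow r G) (M : Subgroup G) (hM : ¬ r ∣ M.index) :
    ∃ g : G, (R : Subgroup G).map (MulAut.conj g).toMonoidHom ≤ M := by
  obtain ⟨S⟩ : Nonempty (Sylow r M) := inferInstance
  have h1 : ¬ r ∣ ((S : Subgroup M).map M.subtype).index := by
    rw [Subgroup.index_map_subtype]
    intro h
    rcases (Nat.Prime.dvd_mul Fact.out).1 h with h | h
    · exact S.not_dvd_index h
    · exact hM h
  have h2 : IsPGroup r ↥((S : Subgroup M).map M.subtype) := S.isPGroup'.map _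
  let S' : Sylow r G := h2.toSylow h1
  obtain ⟨g, hg⟩ := MulAction.exists_smul_eq G R S'
  refine ⟨g, ?_⟩
  have h3 : (R : Subgroup G).map (MulAut.conj g).toMonoidHom = (S' : Subgroup G) := by
    rw [← hg]; rfl
  rw [h3]
  exact Subgroup.map_subtype_le _

open CfsgLib.Core Subgroup in
/-- if `R` and `gRg⁻¹` lie in `M` then `mg` normalizes `R` for some `m ∈ M` -/
theorem exists_mul_normalizer {G : Type*} [Group G] [Finite G] {r : ℕ} [Fact r.Prime] (R : Sylow r G) (M : Subgroup G) (g : G)
    (h1 : (R : Subgroup G) ≤ M) (h2 : (R : Subgroup G).map (MulAut.conj g).toMonoidHom ≤ M) :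
    ∃ m ∈ M, m * g ∈ normalizer ((R : Subgroup G) : Set G) := by
  let R1 : Sylow r M := R.subtype h1
  let R2 : Sylow r M := (g • R).subtype h2
  obtain ⟨m, hm⟩ := MulAction.exists_smul_eq M R2 R1
  refine ⟨m, m.2, ?_⟩
  rw [← map_conj_eq_iff, ← map_conj_mul]
  have h3 := congrArg (fun S : Sylow r M => (S : Subgroup M).map M.subtype) hm
  ext x
  constructor
  · rintro ⟨y, hy, rfl⟩
    have h4 : (⟨y, h2 hy⟩ : M) ∈ (R2 : Subgroup M) := hy
    have h5 : m * ⟨y, h2 hy⟩ * m⁻¹ ∈ (R1 : Subgroup M) := by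
      rw [← hm]
      exact ⟨⟨y, h2 hy⟩, h4, rfl⟩
    exact h5
  · intro hx
    have h4 : (⟨x, h1 hx⟩ : M) ∈ (R1 : Subgroup M) := hx
    rw [← hm] at h4
    obtain ⟨y, hy, hxy⟩ := h4
    exact ⟨y, hy, congrArg Subtype.val hxy⟩


/-- Let G be a finite group with a normal non-abelian simple subgroup T whose centralizer is trivial (G almost simple with socle T), r a prime and R a Sylow r-subgroup of G meeting T nontrivially. Then R lies in exactly one maximal subgroup of G if and only if G has exactly one conjugacy class of maximal subgroups whose index is prime to r. -/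
theorem result {G : Type*} [Group G] [Finite G] (T : Subgroup G) [T.Normal] (hT : IsSimpleGroup T) (hna : ¬ IsMulCommutative T)
    (hC : Subgroup.centralizer (T : Set G) = ⊥) {r : ℕ} [Fact r.Prime] (R : Sylow r G) (hR0 : (R : Subgroup G) ⊓ T ≠ ⊥) :
    (∃! M : Subgroup G, IsCoatom M ∧ (R : Subgroup G) ≤ M) ↔
      ((∃ M : Subgroup G, IsCoatom M ∧ ¬ r ∣ M.index) ∧
        ∀ M₁ M₂ : Subgroup G, IsCoatom M₁ → ¬ r ∣ M₁.index → IsCoatom M₂ → ¬ r ∣ M₂.index → ∃ g : G, M₂ = M₁.map (MulAut.conj g).toMonoidHom) := by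
  open CfsgLib.Core Subgroup in
  have hRidx := R.not_dvd_index
  have hdvd : ∀ M : Subgroup G, (R : Subgroup G) ≤ M → ¬ r ∣ M.index := fun M hM h => hRidx (h.trans (Subgroup.index_dvd_of_le hM))
  have hconjcoatom : ∀ (M : Subgroup G) (g : G), IsCoatom M → IsCoatom (M.map (MulAut.conj g).toMonoidHom) := by
    intro M g hM
    constructor
    · intro h
      apply hM.1
      have := congrArg (fun K : Subgroup G => K.map (MulAut.conj g⁻¹).toMonoidHom) h
      rw [map_conj_mul, inv_mul_cancel, map_conj_one, Subgroup.map_top_of_surjective _ (MulAut.conj g⁻¹).surjective] at this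
      exact this
    · intro K hK
      have h1 : M < K.map (MulAut.conj g⁻¹).toMonoidHom := by
        have h2 : M = (M.map (MulAut.conj g).toMonoidHom).map (MulAut.conj g⁻¹).toMonoidHom := by
          rw [map_conj_mul, inv_mul_cancel, map_conj_one]
        rw [h2]
        exact lt_of_le_of_ne (Subgroup.map_mono hK.le) (fun h => hK.ne (Subgroup.map_injective (MulAut.conj g⁻¹).injective h))
      have h2 := hM.2 _ h1
      have := congrArg (fun K : Subgroup G => K.map (MulAut.conj g).toMonoidHom) h2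
      rw [map_conj_mul, mul_inv_cancel, map_conj_one, Subgroup.map_top_of_surjective _ (MulAut.conj g).surjective] at this
      exact this
  constructor
  · rintro ⟨M, ⟨hM1, hM2⟩, huniq⟩
    refine ⟨⟨M, hM1, hdvd M hM2⟩, ?_⟩
    have key : ∀ L : Subgroup G, IsCoatom L → ¬ r ∣ L.index → ∃ g : G, L = M.map (MulAut.conj g).toMonoidHom := by
      intro L hL hLr
      obtain ⟨g, hg⟩ := exists_conj_le R L hLr
      refine ⟨g, ?_⟩
      have h1 : L.map (MulAut.conj g⁻¹).toMonoidHom = M := by
        apply huniq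
        refine ⟨hconjcoatom L _ hL, ?_⟩
        have := Subgroup.map_mono (f := (MulAut.conj g⁻¹).toMonoidHom) hg
        rwa [map_conj_mul, inv_mul_cancel, map_conj_one] at this
      rw [← h1, map_conj_mul, mul_inv_cancel, map_conj_one]
    intro M₁ M₂ h1 h1' h2 h2'
    obtain ⟨a, ha⟩ := key M₁ h1 h1'
    obtain ⟨b, hb⟩ := key M₂ h2 h2'
    refine ⟨b * a⁻¹, ?_⟩
    rw [ha, map_conj_mul, inv_mul_cancel_right, hb]
  · rintro ⟨⟨M, hM, hMr⟩, hall⟩
    -- the normalizer of R is proper
    have hNR : normalizer ((R : Subgroup G) : Set G) ≠ ⊤ := by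
      intro h
      have h1 : (R : Subgroup G).Normal := Subgroup.normalizer_eq_top_iff.1 h
      exact not_normal T hT hna R hR0 inferInstance
    obtain ⟨M₃, hM₃, hRM₃⟩ := (eq_top_or_exists_le_coatom (normalizer ((R : Subgroup G) : Set G))).resolve_left hNR
    have hR3 : (R : Subgroup G) ≤ M₃ := le_normalizer.trans hRM₃
    refine ⟨M₃, ⟨hM₃, hR3⟩, ?_⟩
    rintro L ⟨hL, hRL⟩
    obtain ⟨g, hg⟩ := hall M₃ L hM₃ (hdvd _ hR3) hL (hdvd _ hRL)
    obtain ⟨m, hm, hmg⟩ := exists_mul_normalizer R L g hRL (hg ▸ Subgroup.map_mono hR3)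
    have h1 : M₃.map (MulAut.conj (m * g)).toMonoidHom = M₃ := map_conj_eq_iff.2 (le_normalizer (hRM₃ hmg))
    have h2 : L.map (MulAut.conj m).toMonoidHom = L := map_conj_eq_iff.2 (le_normalizer hm)
    rw [← map_conj_mul, ← hg, h2] at h1
    exact h1

end Cfsg.Agent.S3858
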