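import Cfsg.Statements.S3861
import Mathlib
import Cfsg.Agent.Lib.BaerSuzuki
import Cfsg.Agent.Lib.Invol
import Cfsg.Agent.Lib.CopElt
import Cfsg.Agent.Lib.ThompsonNPC
import Cfsg.Agent.Lib.Hall
import Cfsg.Agent.Lib.Core2

set_option autoImplicit false
open Cfsg

set_option linter.style.haveILetI false
namespace Cfsg.Agent.S3861

open Subgroup in
theorem closure_two_group {G : Type*} [Group G] [Finite G] (h : ∀ x : G, x ≠ 1 → Odd (orderOf x) → ¬ IsConj x x⁻¹)
    {t s : G} (ht : t * t = 1) (hs : s * s = 1) : IsPGroup 2 (Subgroup.closure ({t, s} : Set G)) := by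
  haveI : Fact (Nat.Prime 2) := ⟨Nat.prime_two⟩
  obtain ⟨k, m, hm, hkm⟩ := Nat.exists_eq_two_pow_mul_odd (orderOf_pos (t * s)).ne'
  have hy : ((t * s) ^ 2 ^ k) = 1 := by
    by_contra hne
    have hord : orderOf ((t * s) ^ 2 ^ k) = m := by
      rw [orderOf_pow, hkm, Nat.gcd_eq_right (Dvd.intro m rfl), Nat.mul_div_cancel_left _ (pow_pos (by norm_num) k)]
    apply h _ hne (hord ▸ hm)
    rw [isConj_iff]
    refine ⟨t, ?_⟩
    have h1 := CfsgLib.Invol.conj_mul_zpow ht hs ((2 ^ k : ℕ) : ℤ)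
    rwa [zpow_natCast, zpow_neg, zpow_natCast] at h1
  have hcomm : ∀ j : ℤ, (t * s) ^ j * t = t * (t * s) ^ (-j) := by
    intro j
    have h1 := CfsgLib.Invol.conj_mul_zpow ht hs j
    have ht' : t⁻¹ = t := CfsgLib.Invol.inv_eq_of_mul_self ht
    rw [← h1, ht']
    calc (t * s) ^ j * t = (t * t) * (t * s) ^ j * t := by rw [ht, one_mul]
      _ = t * (t * (t * s) ^ j * t) := by group
  intro d
  obtain ⟨j, hj⟩ := CfsgLib.Invol.mem_closure_pair ht hs d.2
  refine ⟨k + 1, Subtype.ext ?_⟩
  show (d : G) ^ 2 ^ (k + 1) = 1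
  rcases hj with hj | hj
  · rw [hj, ← zpow_natCast, ← zpow_mul, mul_comm, zpow_mul, zpow_natCast, pow_succ, pow_mul, hy, one_pow, one_zpow]
  · have h2 : (d : G) ^ 2 = 1 := by
      rw [hj, pow_two]
      calc (t * s) ^ j * t * ((t * s) ^ j * t) = ((t * s) ^ j * t) * (t * (t * s) ^ (-j)) := by rw [← hcomm j]
        _ = (t * s) ^ j * (t * t) * (t * s) ^ (-j) := by group
        _ = 1 := by rw [ht, mul_one, zpow_neg, mul_inv_cancel]
    rw [pow_succ', pow_mul, h2, one_pow]

universe u

open Subgroup in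
theorem aux (n : ℕ) : ∀ {G : Type u} [Group G] [Finite G], Nat.card G ≤ n →
    (∀ x : G, x ≠ 1 → Odd (orderOf x) → ¬ IsConj x x⁻¹) → ∃ N : Subgroup G, N.Normal ∧ IsPGroup 2 N ∧ Odd N.index := by
  haveI : Fact (Nat.Prime 2) := ⟨Nat.prime_two⟩
  induction n with
  | zero => intro G _ _ h; exact absurd h (Nat.not_le.2 Nat.card_pos)
  | succ n ih =>
    intro G _ _ hcard h
    rcases Nat.even_or_odd (Nat.card G) with heven | hodd
    swap
    · exact ⟨⊥, inferInstance, IsPGroup.of_bot, by rwa [Subgroup.index_bot]⟩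
    obtain ⟨t, ht⟩ := exists_prime_orderOf_dvd_card' (G := G) 2 heven.two_dvd
    have ht2 : t * t = 1 := CfsgLib.Invol.mul_self_of_orderOf ht
    obtain ⟨N, hN, hNp, htN⟩ := CfsgLib.BaerSuzuki.baer_suzuki_elt (p := 2) t (fun g => closure_two_group h ht2 (by
      calc g * t * g⁻¹ * (g * t * g⁻¹) = g * (t * t) * g⁻¹ := by group
        _ = 1 := by rw [ht2]; group))
    haveI := hN
    have hN1 : N ≠ ⊥ := by
      rintro rfl
      have : t = 1 := htN
      rw [this, orderOf_one] at ht
      norm_num at ht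
    have hquot : ∀ x : G ⧸ N, x ≠ 1 → Odd (orderOf x) → ¬ IsConj x x⁻¹ := by
      intro x hx1 hxodd hconj
      have hKc : (Nat.card (zpowers x)).Coprime 2 := by
        rw [Nat.card_zpowers]; exact Nat.coprime_two_right.2 hxodd
      obtain ⟨y, hy, hyc⟩ := CfsgLib.ThompsonNPC.exists_coprime_lift hKc (mem_zpowers x)
      have hyodd : Odd (orderOf y) := Nat.coprime_two_right.1 hyc
      obtain ⟨c, hc⟩ := isConj_iff.1 hconj
      obtain ⟨g, rfl⟩ := QuotientGroup.mk'_surjective N c
      -- g y g⁻¹ = h y⁻¹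
      have hmem : g * y * g⁻¹ * y ∈ N := by
        rw [← QuotientGroup.ker_mk' N, MonoidHom.mem_ker, map_mul, map_mul, map_mul, map_inv, hy, hc, inv_mul_cancel]
      have hnorm : y⁻¹ ∈ normalizer (N : Set G) := by rw [normalizer_eq_top]; trivial
      have hcop : (orderOf y⁻¹).Coprime (Nat.card N) := by
        obtain ⟨k, hk⟩ := IsPGroup.iff_card.1 hNp
        rw [orderOf_inv, hk]
        exact Nat.Coprime.pow_right k hyc
      obtain ⟨u, hu, v, hv, hvc, huv⟩ := CfsgLib.CopElt.exists_conj_mul hnorm hcop hmem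
      have e1 : g * y * g⁻¹ * y * y⁻¹ = g * y * g⁻¹ := by group
      rw [e1] at huv
      -- v = 1
      have hv1 : v = 1 := by
        have hord : orderOf (v * y⁻¹) = orderOf y := by
          rw [← huv]
          have : u * (g * y * g⁻¹) * u⁻¹ = (u * g) * y * (u * g)⁻¹ := by group
          rw [this]
          exact orderOf_injective (MulAut.conj (u * g)).toMonoidHom (MulAut.conj (u * g)).injective y
        have hvp : (v * y⁻¹) ^ orderOf y = 1 := by rw [← hord]; exact pow_orderOf_eq_one _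
        rw [(show Commute v y⁻¹ from hvc).mul_pow, inv_pow, pow_orderOf_eq_one, inv_one, mul_one] at hvp
        obtain ⟨k, hk⟩ := hNp ⟨v, hv⟩
        have hk' : v ^ 2 ^ k = 1 := congrArg Subtype.val hk
        have h3 : orderOf v = 1 := Nat.eq_one_of_dvd_coprimes (Nat.Coprime.pow_right k hyc) (orderOf_dvd_of_pow_eq_one hvp)
          (orderOf_dvd_of_pow_eq_one hk')
        exact orderOf_eq_one_iff.1 h3
      rw [hv1, one_mul] at huv
      have hy1 : y ≠ 1 := by
        rintro rfl
        rw [map_one] at hy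
        exact hx1 hy.symm
      apply h y hy1 hyodd
      rw [isConj_iff]
      refine ⟨u * g, ?_⟩
      rw [← huv]; group
    obtain ⟨L, hL, hLp, hLi⟩ := ih (Nat.lt_succ_iff.1 ((CfsgLib.Hall.card_quotient_lt N hN1).trans_le hcard)) hquot
    refine ⟨L.comap (QuotientGroup.mk' N), hL.comap _, ?_, ?_⟩
    · obtain ⟨a, ha⟩ := IsPGroup.iff_card.1 hLp
      obtain ⟨b, hb⟩ := IsPGroup.iff_card.1 hNp
      exact IsPGroup.of_card (n := a + b) (by rw [CfsgLib.Hall.card_comap_mk, ha, hb, pow_add])
    · rw [index_comap_of_surjective L (QuotientGroup.mk'_surjective N)]; exact hLi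


/-- A finite group G has no non-identity element of odd order that is conjugate to its inverse if and only if the Sylow 2-subgroups of G are normal. -/
theorem result {G : Type*} [Group G] [Finite G] (P : Sylow 2 G) : (∀ x : G, x ≠ 1 → Odd (orderOf x) → ¬ IsConj x x⁻¹) ↔ (P : Subgroup G).Normal := by
  open Subgroup in
    haveI : Fact (Nat.Prime 2) := ⟨Nat.prime_two⟩
    constructor
    · intro h
      obtain ⟨N, hN, hNp, hNi⟩ := aux _ le_rfl h
      haveI := hN
      have h1 : N ≤ P := by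
        have h2 : IsPGroup 2 (N ⊔ (P : Subgroup G) : Subgroup G) := hNp.to_sup_of_normal_left P.2
        have h3 : N ⊔ (P : Subgroup G) = P := P.3 h2 le_sup_right
        exact le_sup_left.trans h3.le
      have h2 : (P : Subgroup G) = N := by
        apply le_antisymm _ h1
        intro x hx
        obtain ⟨k, hk⟩ := P.2 ⟨x, hx⟩
        have hk' : x ^ 2 ^ k = 1 := congrArg Subtype.val hk
        have h3 : (QuotientGroup.mk' N x) ^ 2 ^ k = 1 := by rw [← map_pow, hk', map_one]
        have h4 : (QuotientGroup.mk' N x) ^ N.index = 1 := by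
          rw [Subgroup.index_eq_card]; exact pow_card_eq_one'
        have h5 : orderOf (QuotientGroup.mk' N x) = 1 := Nat.eq_one_of_dvd_coprimes
          (Nat.Coprime.pow_left k (Nat.coprime_two_left.2 hNi)) (orderOf_dvd_of_pow_eq_one h3) (orderOf_dvd_of_pow_eq_one h4)
        rw [orderOf_eq_one_iff] at h5
        exact (QuotientGroup.eq_one_iff x).1 h5
      rw [h2]; exact hN
    · intro hP x hx1 hodd hconj
      haveI := hP
      -- image in G/P
      obtain ⟨c, hc⟩ := isConj_iff.1 hconj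
      set Q := G ⧸ (P : Subgroup G)
      set mk := QuotientGroup.mk' (P : Subgroup G)
      have hQodd : Odd (Nat.card Q) := by
        have := P.not_dvd_index
        rw [Subgroup.index_eq_card] at this
        exact Nat.not_even_iff_odd.1 (fun h => this h.two_dvd)
      -- c̄ has odd order and c̄² centralizes x̄
      have h1 : mk c * mk x * (mk c)⁻¹ = (mk x)⁻¹ := by rw [← map_mul, ← map_inv, ← map_mul, hc, map_inv]
      have h2 : Commute (mk c ^ 2) (mk x) := by
        have : mk c ^ 2 * mk x * (mk c ^ 2)⁻¹ = mk x := by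
          have e1 : mk c ^ 2 * mk x * (mk c ^ 2)⁻¹ = mk c * (mk c * mk x * (mk c)⁻¹) * (mk c)⁻¹ := by rw [pow_two]; group
          have e2 : mk c * (mk x)⁻¹ * (mk c)⁻¹ = (mk c * mk x * (mk c)⁻¹)⁻¹ := by group
          rw [e1, h1, e2, h1, inv_inv]
        exact mul_inv_eq_iff_eq_mul.1 this
      have h3 : Commute (mk c) (mk x) := by
        obtain ⟨k, hk⟩ := hQodd
        have h4 : mk c = (mk c ^ 2) ^ (k + 1) := by
          rw [← pow_mul]
          have : mk c ^ (2 * k + 1) = 1 := by rw [← hk]; exact pow_card_eq_one'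
          calc mk c = mk c ^ (2 * k + 1) * mk c := by rw [this, one_mul]
            _ = mk c ^ (2 * (k + 1)) := by rw [← pow_succ]; congr 1
        rw [h4]
        exact h2.pow_left _
      have h5 : mk x = (mk x)⁻¹ := by rw [← h1, h3.eq, mul_inv_cancel_right]
      have h6 : (mk x) ^ 2 = 1 := by rw [pow_two]; nth_rewrite 1 [h5]; rw [inv_mul_cancel]
      have h7 : mk x = 1 := by
        rw [← orderOf_eq_one_iff]
        exact Nat.eq_one_of_dvd_coprimes (Nat.coprime_two_left.2 hQodd) (orderOf_dvd_of_pow_eq_one h6) (orderOf_dvd_natCard _)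
      have h8 : x ∈ (P : Subgroup G) := (QuotientGroup.eq_one_iff x).1 h7
      obtain ⟨k, hk⟩ := P.2 ⟨x, h8⟩
      have hk' : x ^ 2 ^ k = 1 := congrArg Subtype.val hk
      apply hx1
      rw [← orderOf_eq_one_iff]
      exact Nat.eq_one_of_dvd_coprimes (Nat.Coprime.pow_right k (Nat.coprime_two_right.2 hodd)) dvd_rfl (orderOf_dvd_of_pow_eq_one hk')

end Cfsg.Agent.S3861
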