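import Cfsg.Statements.S3870
import Mathlib
import Cfsg.Agent.Lib.Coprime
import Cfsg.Agent.Lib.Core

set_option autoImplicit false
open Cfsg

namespace Cfsg.Agent.S3870

open CfsgLib.Core Subgroup in
theorem mem_unique {G : Type*} [Group G] [Finite G] {p : ℕ} [Fact p.Prime] (H : Subgroup G) (hH : Cfsg.IsPClosed p ↥H) :
    ∃ S : Sylow p G, ∀ K : Subgroup G, K ≤ H → IsPGroup p K → K ≤ S := by
  obtain ⟨S⟩ : Nonempty (Sylow p H) := inferInstance
  have hS := hH S
  have h2 : IsPGroup p ↥((S : Subgroup H).map H.subtype) := S.isPGroup'.map _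
  obtain ⟨R, hR⟩ := h2.exists_le_sylow
  refine ⟨R, ?_⟩
  intro K hK hKp
  refine le_trans ?_ hR
  have h3 : IsPGroup p (K.subgroupOf H) := hKp.comap_subtype
  obtain ⟨S', hS'⟩ := h3.exists_le_sylow
  have h4 : S' = S := by
    have := Sylow.unique_of_normal S hS
    exact Subsingleton.elim _ _
  intro x hx
  exact ⟨⟨x, hK hx⟩, h4 ▸ hS' hx, rfl⟩


/-- Let G be a finite simple group whose Sylow p-subgroups are not normal but such that every proper subgroup of G has a normal Sylow p-subgroup. Then any two distinct Sylow p-subgroups of G intersect trivially, and for every Sylow p-subgroup P the normalizer of every non-identity subgroup of P lies in the normalizer of P. -/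
theorem result {G : Type*} [Group G] [Finite G] [IsSimpleGroup G] {p : ℕ} [Fact p.Prime]
    (hnc : ¬ Cfsg.IsPClosed p G) (hsub : ∀ H : Subgroup G, H ≠ ⊤ → Cfsg.IsPClosed p ↥H) :
    (∀ P Q : Sylow p G, P ≠ Q → (P : Subgroup G) ⊓ (Q : Subgroup G) = ⊥) ∧
      ∀ (P : Sylow p G) (R : Subgroup G), R ≤ P → R ≠ ⊥ →
        Subgroup.normalizer (R : Set G) ≤ Subgroup.normalizer ((P : Subgroup G) : Set G) := by
  open CfsgLib.Core Subgroup in
  have hTI : ∀ P Q : Sylow p G, P ≠ Q → (P : Subgroup G) ⊓ (Q : Subgroup G) = ⊥ := by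
    by_contra hcon
    push Not at hcon
    obtain ⟨P0, Q0, hPQ0, h0⟩ := hcon
    obtain ⟨⟨P, Q⟩, hm⟩ := (Set.toFinite {x : Sylow p G × Sylow p G | x.1 ≠ x.2 ∧ (x.1 : Subgroup G) ⊓ (x.2 : Subgroup G) ≠ ⊥}).exists_maximalFor
      (fun x => Nat.card ↥((x.1 : Subgroup G) ⊓ (x.2 : Subgroup G))) _ ⟨(P0, Q0), hPQ0, h0⟩
    obtain ⟨⟨hPQ, hne⟩, hmax⟩ := hm
    simp only at hPQ hne
    have hmax' : ∀ R S : Sylow p G, R ≠ S → Nat.card ↥((P : Subgroup G) ⊓ (Q : Subgroup G)) < Nat.card ↥((R : Subgroup G) ⊓ (S : Subgroup G)) → False := by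
      intro R S hRS hlt
      have h1 : (R : Subgroup G) ⊓ (S : Subgroup G) ≠ ⊥ := by
        intro h
        rw [h, Subgroup.card_bot] at hlt
        have : 0 < Nat.card ↥((P : Subgroup G) ⊓ (Q : Subgroup G)) := Nat.card_pos
        omega
      have h2 := hmax (j := (R, S)) ⟨hRS, h1⟩ hlt.le
      simp only at h2
      omega
    set D := (P : Subgroup G) ⊓ (Q : Subgroup G) with hD
    have hNT : normalizer (D : Set G) ≠ ⊤ := by
      intro h
      have hDn : D.Normal := Subgroup.normalizer_eq_top_iff.1 h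
      rcases hDn.eq_bot_or_eq_top with h' | h'
      · exact hne h'
      · have h3 : (P : Subgroup G) = ⊤ := by rw [eq_top_iff, ← h']; exact inf_le_left
        have h4 : (Q : Subgroup G) = ⊤ := by rw [eq_top_iff, ← h']; exact inf_le_right
        exact hPQ (Sylow.ext (h3.trans h4.symm))
    obtain ⟨S, hS⟩ := mem_unique _ (hsub _ hNT)
    have hlt : ∀ R : Sylow p G, D ≤ R → D ≠ R → R = S := by
      intro R hDR hDR'
      by_contra hRS
      have h1 := CfsgLib.Coprime.exists_normalizer_gt R.isPGroup' (lt_of_le_of_ne hDR hDR')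
      have h2 : (R : Subgroup G) ⊓ normalizer (D : Set G) ≤ S := hS _ inf_le_right (R.isPGroup'.to_le inf_le_left)
      refine hmax' R S hRS ?_
      have h3 : D < (R : Subgroup G) ⊓ (S : Subgroup G) := lt_of_lt_of_le h1 (le_inf inf_le_left h2)
      exact Set.Finite.card_lt_card (Set.toFinite _) h3
    have hcards : Nat.card P = Nat.card Q := by rw [P.card_eq_multiplicity, Q.card_eq_multiplicity]
    have h1 : D ≠ P := by
      intro h
      apply hPQ
      apply Sylow.ext
      exact Subgroup.eq_of_le_of_card_ge (by rw [← h]; exact inf_le_right) hcards.ge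
    have h2 : D ≠ Q := by
      intro h
      apply hPQ
      apply Sylow.ext
      exact (Subgroup.eq_of_le_of_card_ge (by rw [← h]; exact inf_le_left) hcards.le).symm
    exact hPQ ((hlt P inf_le_left h1).trans (hlt Q inf_le_right h2).symm)
  refine ⟨hTI, ?_⟩
  intro P R hRP hR g hg
  by_contra hgn
  have h1 : g • P ≠ P := by
    intro h
    exact hgn (Sylow.smul_eq_iff_mem_normalizer.1 h)
  have h2 := hTI (g • P) P h1
  apply hR
  rw [eq_bot_iff, ← h2]
  intro x hx
  refine Subgroup.mem_inf.2 ⟨?_, hRP hx⟩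
  have h3 : g⁻¹ * x * g ∈ R := by
    have := (Subgroup.mem_normalizer_iff.1 (inv_mem hg) x).1 hx
    simpa using this
  exact ⟨g⁻¹ * x * g, hRP h3, by simp [MulAut.conj_apply, mul_assoc]⟩

end Cfsg.Agent.S3870
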