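import Cfsg.Statements.S3889
import Mathlib

set_option autoImplicit false
open Cfsg

namespace Cfsg.Agent.S3889

/-- A finite abelian group that is the union of a family of proper subgroups any two of which intersect trivially is elementary abelian: its exponent is a prime. -/
theorem result {G : Type*} [CommGroup G] [Finite G] (𝓑 : Set (Subgroup G)) (hprop : ∀ B ∈ 𝓑, B ≠ ⊤)
    (hcov : ∀ g : G, ∃ B ∈ 𝓑, g ∈ B) (hdisj : ∀ B ∈ 𝓑, ∀ C ∈ 𝓑, B ≠ C → B ⊓ C = ⊥) :
    (Monoid.exponent G).Prime := by
  classical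
  choose B hB hmem using hcov
  have huniq : ∀ g : G, g ≠ 1 → ∀ C ∈ 𝓑, g ∈ C → C = B g := by
    intro g hg C hC hgC
    by_contra hne
    have h1 := hdisj C hC (B g) (hB g) hne
    have h2 : g ∈ C ⊓ B g := ⟨hgC, hmem g⟩
    rw [h1, Subgroup.mem_bot] at h2
    exact hg h2
  have hpr : ∀ g : G, ∃ y, y ∉ B g := by
    intro g
    by_contra hcon
    push Not at hcon
    exact hprop _ (hB g) (eq_top_iff.2 (fun y _ => hcon y))
  -- G is nontrivial
  obtain ⟨y0, hy0⟩ := hpr 1
  have hy0' : y0 ≠ 1 := by rintro rfl; exact hy0 (one_mem _)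
  obtain ⟨p, hp, hpd⟩ := Nat.exists_prime_and_dvd (mt orderOf_eq_one_iff.1 hy0')
  have : Fact p.Prime := ⟨hp⟩
  obtain ⟨x, hx⟩ : ∃ x : G, orderOf x = p := ⟨_, orderOf_pow_orderOf_div (orderOf_pos y0).ne' hpd⟩
  have key : ∀ x y : G, orderOf x = p → y ∉ B x → y ^ p = 1 := by
    intro x y hx hy
    by_contra hne
    have hx1 : x ≠ 1 := by
      rintro rfl
      rw [orderOf_one] at hx
      exact hp.one_lt.ne hx
    have h1 : (x * y) ^ p = y ^ p := by
      rw [mul_pow, ← hx, pow_orderOf_eq_one, one_mul]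
    have h2 : B (y ^ p) = B (x * y) := by
      symm
      apply huniq _ hne _ (hB _)
      rw [← h1]
      exact pow_mem (hmem _) p
    have h3 : B (y ^ p) = B y := by
      symm
      apply huniq _ hne _ (hB _)
      exact pow_mem (hmem _) p
    have h4 : x ∈ B y := by
      have h5 : x * y ∈ B y := by rw [← h3, h2]; exact hmem _
      have := mul_mem h5 (inv_mem (hmem y))
      rwa [mul_inv_cancel_right] at this
    have h6 := huniq x hx1 _ (hB y) h4
    exact hy (h6 ▸ hmem y)
  obtain ⟨y, hy⟩ := hpr x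
  have hyp := key x y hx hy
  have hy1 : y ≠ 1 := by rintro rfl; exact hy (one_mem _)
  have hyo : orderOf y = p := orderOf_eq_prime hyp hy1
  have hall : ∀ z : G, z ^ p = 1 := by
    intro z
    by_cases hz : z ∈ B x
    · by_cases hz1 : z = 1
      · rw [hz1, one_pow]
      · apply key y z hyo
        intro hzy
        have h1 : B x = B z := huniq z hz1 _ (hB x) hz
        have h2 : B y = B z := huniq z hz1 _ (hB y) hzy
        apply hy
        rw [h1, ← h2]; exact hmem y
    · exact key x z hx hz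
  have hexp : Monoid.exponent G ∣ p := Monoid.exponent_dvd_of_forall_pow_eq_one hall
  rcases (Nat.dvd_prime hp).1 hexp with h | h
  · rw [Monoid.exp_eq_one_iff] at h
    exact absurd (Subsingleton.elim y 1) hy1
  · rw [h]; exact hp

end Cfsg.Agent.S3889
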