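import Cfsg.Statements.S4262
import Mathlib
import Cfsg.Agent.Lib.H3CMax

set_option autoImplicit false
open Cfsg

open scoped Pointwise
set_option linter.style.haveILetI false
namespace Cfsg.Agent.S4262

open Subgroup in
theorem cent_eq {G : Type*} [Group G] [Finite G]
    (h : ∀ g : G, g ∉ Subgroup.center G → IsCoatom (Subgroup.centralizer ({g} : Set G))) {x y : G}
    (hx : x ∉ center G) (hy : y ∉ center G) (hxy : x * y = y * x) (hc : (orderOf x).Coprime (orderOf y)) :
    centralizer ({x} : Set G) = centralizer ({y} : Set G) := by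
  have hxyc : x * y ∉ center G := by
    intro hz
    obtain ⟨n, hn⟩ := CfsgLib.H3CMax.exists_pow_mul hxy hc
    exact hx (hn ▸ (center G).pow_mem hz n)
  have h1 := CfsgLib.H3CMax.centralizer_mul_le hxy hc
  have h2 := CfsgLib.H3CMax.centralizer_mul_le hxy.symm hc.symm
  rw [← hxy] at h2
  have h3 := ((h _ hxyc).le_iff_eq (h x hx).1).1 h1
  have h4 := ((h _ hxyc).le_iff_eq (h y hy).1).1 h2
  rw [h3, h4]

open Subgroup in
theorem claimA {G : Type*} [Group G] [Finite G]
    (h : ∀ g : G, g ∉ Subgroup.center G → IsCoatom (Subgroup.centralizer ({g} : Set G)))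
    (hab : ∀ x : G, x ∉ center G → ∃ a ∈ centralizer ({x} : Set G), ∃ b ∈ centralizer ({x} : Set G), a * b ≠ b * a)
    {x y : G} {r s : ℕ} (hr : r.Prime) (hs : s.Prime) (hrs : r ≠ s) (hx : ∃ k, x ^ r ^ k = 1) (hy : ∃ k, y ^ s ^ k = 1)
    (hxy : x * y = y * x) : x ∈ center G ∨ y ∈ center G := by
  by_contra hcon
  push Not at hcon
  obtain ⟨hxc, hyc⟩ := hcon
  have ho : ∀ {u : G} {t : ℕ}, t.Prime → (∃ k, u ^ t ^ k = 1) → ∃ k, orderOf u = t ^ k := by
    rintro u t ht ⟨k, hk⟩
    obtain ⟨j, -, hj⟩ := (Nat.dvd_prime_pow ht).1 (orderOf_dvd_of_pow_eq_one hk)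
    exact ⟨j, hj⟩
  obtain ⟨i, hi⟩ := ho hr hx
  obtain ⟨j, hj⟩ := ho hs hy
  have hcop : ∀ {p q : ℕ} (a b : ℕ), p.Prime → q.Prime → p ≠ q → (p ^ a).Coprime (q ^ b) := fun a b hp hq hpq =>
    Nat.Coprime.pow _ _ ((Nat.coprime_primes hp hq).2 hpq)
  have hxyC := cent_eq h hxc hyc hxy (by rw [hi, hj]; exact hcop _ _ hr hs hrs)
  obtain ⟨a, ha, b, hb, hne⟩ := hab x hxc
  apply hne
  have hle : ∀ g ∈ centralizer ({x} : Set G), g ∈ centralizer ((centralizer ({x} : Set G) : Subgroup G) : Set G) := by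
    intro g hg
    refine CfsgLib.Transfer.mem_of_prime_pow _ (orderOf g) g rfl (orderOf_pos g).ne' ?_
    rintro k ⟨t, l, ht, htl⟩
    have hgk : g ^ k ∈ centralizer ({x} : Set G) := pow_mem hg k
    by_cases hz : g ^ k ∈ center G
    · rw [mem_centralizer_iff]
      intro m _
      exact mem_center_iff.1 hz m
    have hcomm : g ^ k * x = x * g ^ k := mem_centralizer_singleton_iff.1 hgk
    have hcommy : g ^ k * y = y * g ^ k := mem_centralizer_singleton_iff.1 (hxyC ▸ hgk)
    have hC : centralizer ({g ^ k} : Set G) = centralizer ({x} : Set G) := by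
      by_cases htr : t = r
      · have hts : t ≠ s := fun e => hrs (htr ▸ e)
        rw [hxyC]
        exact cent_eq h hz hyc hcommy (by rw [htl, hj]; exact hcop _ _ ht hs hts)
      · exact cent_eq h hz hxc hcomm (by rw [htl, hi]; exact hcop _ _ ht hr htr)
    rw [mem_centralizer_iff]
    intro m hm
    rw [SetLike.mem_coe, ← hC] at hm
    exact mem_centralizer_singleton_iff.1 hm
  exact mem_centralizer_iff.1 (hle b hb) a ha

open Subgroup in
theorem claimB {G : Type*} [Group G] [Finite G]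
    (hA : ∀ {x y : G} {r s : ℕ}, r.Prime → s.Prime → r ≠ s → (∃ k, x ^ r ^ k = 1) → (∃ k, y ^ s ^ k = 1) →
      x * y = y * x → x ∈ center G ∨ y ∈ center G)
    {x : G} (hxc : x ∉ center G) {r : ℕ} (hr : r.Prime) (hx : ∃ k, x ^ r ^ k = 1) :
    IsPGroup r ((centralizer ({x} : Set G)).map (QuotientGroup.mk' (center G))) := by
  rintro ⟨_, g, hg, rfl⟩
  obtain ⟨j, m, hm, hx'⟩ := Nat.exists_eq_pow_mul_and_not_dvd (orderOf_pos g).ne' r hr.ne_one
  refine ⟨j, ?_⟩
  rw [Subtype.ext_iff]
  change (QuotientGroup.mk' (center G)) g ^ r ^ j = 1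
  rw [← map_pow, CfsgLib.Core2.mk_eq_one_iff]
  have hm1 : orderOf (g ^ r ^ j) = m := by
    rw [orderOf_pow_of_dvd (pow_pos hr.pos j).ne' (hx' ▸ dvd_mul_right _ _), hx', Nat.mul_div_cancel_left _ (pow_pos hr.pos j)]
  refine CfsgLib.Transfer.mem_of_prime_pow _ m _ hm1 (fun h0 => hm (h0 ▸ dvd_zero r)) ?_
  rintro k ⟨t, l, ht, htl⟩
  by_cases htr : t = r
  · subst htr
    have h1 : t ^ l ∣ m := by
      rw [← htl, ← hm1]
      exact orderOf_pow_dvd k
    rcases Nat.eq_zero_or_pos l with rfl | hl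
    · rw [pow_zero, orderOf_eq_one_iff] at htl
      rw [htl]; exact one_mem _
    · exact absurd ((dvd_pow_self t hl.ne').trans h1) hm
  · have hcomm : x * (g ^ t ^ 0) = (g ^ t ^ 0) * x := by
      rw [pow_zero, pow_one]; exact (mem_centralizer_singleton_iff.1 hg).symm
    have hgm : (g ^ r ^ j) ^ k ∈ centralizer ({x} : Set G) := pow_mem (pow_mem hg _) _
    rcases hA hr ht (Ne.symm htr) hx ⟨l, by rw [← htl, pow_orderOf_eq_one]⟩ (mem_centralizer_singleton_iff.1 hgm).symm with h | h
    · exact absurd h hxc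
    · exact h


/-- Let G be a finite group in which the centralizer of every non-central element is a maximal subgroup of G. Then G is solvable. -/
theorem result {G : Type*} [Group G] [Finite G]
    (h : ∀ g : G, g ∉ Subgroup.center G → IsCoatom (Subgroup.centralizer ({g} : Set G))) :
    Group.IsSolvable G := by
  classical
  by_cases hab : ∃ x : G, x ∉ Subgroup.center G ∧ ∀ a ∈ Subgroup.centralizer ({x} : Set G), ∀ b ∈ Subgroup.centralizer ({x} : Set G), a * b = b * a
  · obtain ⟨x, hx, hx2⟩ := hab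
    exact CfsgLib.H3Desk.solvable_of_abelian (h x hx) hx2
  push Not at hab
  have hA := fun {x y : G} {r s : ℕ} => claimA h hab (x := x) (y := y) (r := r) (s := s)
  have hZs : Group.IsSolvable (Subgroup.center G) :=
    Group.isSolvable_of_comm fun a b => Subtype.ext (Subgroup.mem_center_iff.1 b.2 a)
  refine CfsgLib.Core2.solvable_ext (Subgroup.center G) hZs ?_
  by_cases hpg : ∃ p, p.Prime ∧ IsPGroup p (G ⧸ Subgroup.center G)
  · obtain ⟨p, hp, hpg⟩ := hpg
    exact CfsgLib.H3CMax.solvable_of_pGroup hp hpg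
  push Not at hpg
  have hsurj := QuotientGroup.mk'_surjective (Subgroup.center G)
  refine CfsgLib.H3CMax.solvable_of_maxSylow ?_ ?_
  · intro r s hr hs hrs x y hx hy hxy
    obtain ⟨k, hk⟩ := hx
    obtain ⟨l, hl⟩ := hy
    obtain ⟨x, rfl, i, hi⟩ := CfsgLib.H3CMax.exists_lift hr _ hsurj hk
    obtain ⟨y, rfl, j, hj⟩ := CfsgLib.H3CMax.exists_lift hs _ hsurj hl
    have hz : x * y * x⁻¹ * y⁻¹ ∈ Subgroup.center G := by
      rw [← CfsgLib.Core2.mk_eq_one_iff (Subgroup.center G), map_mul, map_mul, map_mul, hxy, map_inv, map_inv]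
      group
    have hcomm := CfsgLib.H3CMax.comm_of_central (Nat.Coprime.pow i j ((Nat.coprime_primes hr hs).2 hrs)) hi hj hz
    rcases hA hr hs hrs ⟨i, hi⟩ ⟨j, hj⟩ hcomm with h1 | h1
    · left; exact (CfsgLib.Core2.mk_eq_one_iff _ _).2 h1
    · right; exact (CfsgLib.Core2.mk_eq_one_iff _ _).2 h1
  · intro p hp S hS
    obtain ⟨⟨s, hsS⟩, hs0⟩ := Subgroup.ne_bot_iff_exists_ne_one.1 hS
    have hs1 : s ≠ 1 := fun e => hs0 (Subtype.ext e)
    obtain ⟨k, hk⟩ := S.2 ⟨s, hsS⟩
    obtain ⟨x, hxs, i, hi⟩ := CfsgLib.H3CMax.exists_lift hp.out _ hsurj (y := s) (k := k) (by simpa [Subtype.ext_iff] using hk)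
    have hxc : x ∉ Subgroup.center G := by
      intro hc
      exact hs1 (hxs ▸ (CfsgLib.Core2.mk_eq_one_iff _ _).2 hc)
    have hZx : Subgroup.center G ≤ Subgroup.centralizer ({x} : Set G) := Subgroup.center_le_centralizer _
    have hM := CfsgLib.H3Desk.coatom_map _ hsurj (h x hxc) (by rw [QuotientGroup.ker_mk']; exact hZx)
    have hMp := claimB hA hxc hp.out ⟨i, hi⟩
    obtain ⟨T, hT⟩ := hMp.exists_le_sylow
    have hTM : (Subgroup.centralizer ({x} : Set G)).map (QuotientGroup.mk' (Subgroup.center G)) = T := by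
      rcases hT.eq_or_lt with h1 | h1
      · exact h1
      · exfalso
        have h2 := hM.2 _ h1
        refine hpg p hp.out ?_
        have h3 := T.2
        rw [h2] at h3
        exact h3.of_equiv Subgroup.topEquiv
    obtain ⟨g, rfl⟩ := MulAction.exists_smul_eq (G ⧸ Subgroup.center G) T S
    have e1 : ((g • T : Sylow p (G ⧸ Subgroup.center G)) : Subgroup (G ⧸ Subgroup.center G)) = MulAut.conj g • (T : Subgroup (G ⧸ Subgroup.center G)) := rfl
    constructor
    · rw [e1, ← hTM, ← CfsgLib.SZ.map_conj_eq]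
      refine CfsgLib.H3Desk.coatom_map _ (MulAut.conj g).surjective hM ?_
      intro y hy
      have h5 : (MulAut.conj g) y = 1 := hy
      rw [MulEquiv.map_eq_one_iff] at h5
      rw [h5]; exact one_mem _
    · intro hcyc
      obtain ⟨a, ha, b, hb, hne⟩ := hab x hxc
      rw [e1] at hcyc
      have e2 := Subgroup.equivSMul (MulAut.conj g) (T : Subgroup (G ⧸ Subgroup.center G))
      haveI : IsCyclic (T : Subgroup (G ⧸ Subgroup.center G)) := isCyclic_of_surjective e2.symm e2.symm.surjective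
      rw [← hTM] at this
      apply hne
      have h6 := commutative_of_cyclic_center_quotient
        ((QuotientGroup.mk' (Subgroup.center G)).subgroupMap (Subgroup.centralizer ({x} : Set G))) (fun y hy => by
          have h7 : (QuotientGroup.mk' (Subgroup.center G)) (y : G) = 1 := congrArg Subtype.val hy
          have h8 := (CfsgLib.Core2.mk_eq_one_iff _ _).1 h7
          rw [Subgroup.mem_center_iff]
          intro z
          exact Subtype.ext (Subgroup.mem_center_iff.1 h8 z)) ⟨a, ha⟩ ⟨b, hb⟩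
      exact congrArg Subtype.val h6

end Cfsg.Agent.S4262
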