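import Cfsg.Statements.S3904
import Mathlib
import Cfsg.Agent.Lib.H3CMax
import Cfsg.Agent.Lib.Frattini
import Cfsg.Agent.S4262
import Cfsg.Agent.Lib.H3Syl
import Cfsg.Agent.Lib.SZ

set_option autoImplicit false
open Cfsg

open scoped Pointwise
set_option linter.style.haveILetI false
namespace Cfsg.Agent.S3904

open Subgroup CfsgLib.H3CMax
open scoped Pointwise

theorem coatom_normal_prime {G : Type*} [Group G] [Finite G] {M : Subgroup G} [hMn : M.Normal] (hM : IsCoatom M) :
    M.index.Prime ∧ ∀ a b : G, a * b * a⁻¹ * b⁻¹ ∈ M := by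
  obtain ⟨g, hg⟩ : ∃ g, g ∉ M := by
    by_contra hcon
    push Not at hcon
    exact hM.1 ((eq_top_iff' M).2 hcon)
  have h1 : M ⊔ zpowers g = ⊤ := hM.2 _ (lt_of_le_of_ne le_sup_left (fun h => hg (h ▸ le_sup_right (a := M) (mem_zpowers g))))
  haveI : IsCyclic (G ⧸ M) := by
    refine ⟨QuotientGroup.mk' M g, fun x => ?_⟩
    obtain ⟨y, rfl⟩ := QuotientGroup.mk'_surjective M x
    have hy : y ∈ M ⊔ zpowers g := h1 ▸ mem_top y
    rw [mem_sup_of_normal_left] at hy
    obtain ⟨m, hm, _, ⟨k, rfl⟩, rfl⟩ := hy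
    refine ⟨k, ?_⟩
    change (QuotientGroup.mk' M g) ^ k = QuotientGroup.mk' M (m * g ^ k)
    rw [map_mul, (CfsgLib.Core2.mk_eq_one_iff M m).2 hm, one_mul, map_zpow]
  have hcomm : ∀ a b : G ⧸ M, a * b = b * a := fun a b => IsMulCommutative.is_comm.comm a b
  have h2 := CfsgLib.H3Desk.coatom_map (QuotientGroup.mk' M) (QuotientGroup.mk'_surjective M) hM (by rw [QuotientGroup.ker_mk'])
  have h3 : M.map (QuotientGroup.mk' M) = ⊥ := by
    rw [Subgroup.map_eq_bot_iff, QuotientGroup.ker_mk']
  rw [h3] at h2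
  letI : CommGroup (G ⧸ M) := { (inferInstance : Group (G ⧸ M)) with mul_comm := hcomm }
  have h4 := CfsgLib.Frattini.coatom_of_nilpotent (G := G ⧸ M) inferInstance h2
  refine ⟨?_, fun a b => ?_⟩
  · have h5 := h4.2
    rw [index_bot] at h5
    rwa [index_eq_card]
  · rw [← CfsgLib.Core2.mk_eq_one_iff M, map_mul, map_mul, map_mul, map_inv, map_inv, hcomm (QuotientGroup.mk' M a)]
    group

/-- the case of a normal abelian maximal centralizer -/
theorem final {G : Type*} [Group G] [Finite G]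
    (h : ∀ x : G, x ∉ Subgroup.center G → IsCoatom (Subgroup.centralizer ({x} : Set G)))
    {M : Subgroup G} [hMn : M.Normal] (hM : IsCoatom M) (hZM : center G < M)
    (hMC : ∀ w ∈ M, w ∉ center G → centralizer ({w} : Set G) = M)
    (hel : ∀ p, p.Prime → IsPGroup p (G ⧸ Subgroup.center G) → Cfsg.IsElementaryAbelian p (⊤ : Subgroup (G ⧸ Subgroup.center G))) :
    (∃ p : ℕ, p.Prime ∧ Cfsg.IsElementaryAbelian p (⊤ : Subgroup (G ⧸ Subgroup.center G))) ∨
    (¬ IsMulCommutative (G ⧸ Subgroup.center G) ∧ (∀ H : Subgroup (G ⧸ Subgroup.center G), H ≠ ⊤ → IsMulCommutative ↥H) ∧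
      ∃ p q a : ℕ, p.Prime ∧ q.Prime ∧ p ≠ q ∧ Nat.card (G ⧸ Subgroup.center G) = p ^ a * q ∧
        ∀ P : Subgroup (G ⧸ Subgroup.center G), Nat.card ↥P = p ^ a → P.Normal) := by
  have hMab : ∀ a ∈ M, ∀ b ∈ M, a * b = b * a := by
    intro a ha b hb
    by_cases haz : a ∈ center G
    · exact (mem_center_iff.1 haz b).symm
    · have := hMC a ha haz
      rw [← this] at hb
      exact (mem_centralizer_singleton_iff.1 hb).symm
  obtain ⟨hr, hcomm⟩ := coatom_normal_prime hM
  set r := M.index with hrd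
  obtain ⟨g, hg⟩ : ∃ g, g ∉ M := by
    by_contra hcon
    push Not at hcon
    exact hM.1 ((eq_top_iff' M).2 hcon)
  have hgz : g ∉ center G := fun hz => hg (hZM.le hz)
  have hCM : ∀ w, w ∈ centralizer ({g} : Set G) → w ∈ M → w ∈ center G := by
    intro w hw hwM
    by_contra hwz
    have h1 := hMC w hwM hwz
    apply hg
    rw [← h1]
    exact mem_centralizer_singleton_iff.2 (mem_centralizer_singleton_iff.1 hw).symm
  -- irreducibility
  have hirr : ∀ L : Subgroup G, L.Normal → center G ≤ L → L ≤ M → L = center G ∨ L = M := by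
    intro L hL hZL hLM
    by_cases hLZ : L = center G
    · exact Or.inl hLZ
    right
    have h1 : ¬ L ≤ centralizer ({g} : Set G) := fun hle => hLZ (le_antisymm (fun x hx => hCM x (hle hx) (hLM hx)) hZL)
    have h2 : centralizer ({g} : Set G) ⊔ L = ⊤ := (h g hgz).2 _ (lt_of_le_of_ne le_sup_left (fun he => h1 (he ▸ le_sup_right)))
    refine le_antisymm hLM fun m hm => ?_
    have h3 : m ∈ centralizer ({g} : Set G) ⊔ L := h2 ▸ mem_top m
    rw [mem_sup_of_normal_right] at h3
    obtain ⟨c, hc, l, hl, rfl⟩ := h3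
    have h4 : c ∈ M := (M.mul_mem_cancel_right (hLM hl)).1 hm
    exact L.mul_mem (hZL (hCM c hc h4)) hl
  set f := QuotientGroup.mk' (center G) with hf
  have hfs : Function.Surjective f := QuotientGroup.mk'_surjective _
  have hker : ∀ x : G, f x = 1 ↔ x ∈ center G := fun x => CfsgLib.Core2.mk_eq_one_iff _ x
  set V := M.map f with hV
  haveI hVn : V.Normal := Subgroup.Normal.map ‹_› f hfs
  have hVmem : ∀ x, f x ∈ V ↔ x ∈ M := by
    intro x
    constructor
    · rintro ⟨m, hm, hmx⟩
      have h1 : f (m⁻¹ * x) = 1 := by rw [map_mul, map_inv, hmx, inv_mul_cancel]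
      have h2 := hZM.le ((hker _).1 h1)
      exact (M.mul_mem_cancel_left (M.inv_mem hm)).1 h2
    · intro hx; exact ⟨x, hx, rfl⟩
  have hVidx : V.index = r := by
    rw [hrd]
    exact CfsgLib.SZ.index_map_mk (center G) M hZM.le
  have hVb : V ≠ ⊥ := by
    intro hb
    refine hZM.not_ge fun x hx => ?_
    have : f x ∈ V := ⟨x, hx, rfl⟩
    rw [hb, mem_bot] at this
    exact (hker x).1 this
  have hVs : Group.IsSolvable V := Group.isSolvable_of_comm (by
    rintro ⟨_, a, ha, rfl⟩ ⟨_, b, hb, rfl⟩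
    apply Subtype.ext
    change f a * f b = f b * f a
    rw [← map_mul, hMab a ha b hb, map_mul])
  obtain ⟨W, hWn, hWV, hWb, -, -, p, hp, hWp⟩ := CfsgLib.SZ.exists_minimal_normal_le V hVs hVb
  have hWeq : W = V := by
    have h1 := hirr (W.comap f) (Subgroup.Normal.comap hWn f) (fun x hx => by
      rw [mem_comap, (hker x).2 hx]; exact one_mem _) (fun x hx => (hVmem x).1 (hWV hx))
    rcases h1 with h1 | h1
    · exfalso
      apply hWb
      rw [eq_bot_iff]
      intro w hw
      obtain ⟨x, rfl⟩ := hfs w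
      have : x ∈ W.comap f := hw
      rw [h1] at this
      rw [mem_bot, hker]; exact this
    · refine le_antisymm hWV ?_
      rintro _ ⟨m, hm, rfl⟩
      have : m ∈ W.comap f := h1 ▸ hm
      exact this
  subst hWeq
  haveI := Fact.mk hp
  have hVp : IsPGroup p V := fun x => ⟨1, Subtype.ext (by rw [pow_one]; exact hWp x x.2)⟩
  obtain ⟨a, ha⟩ := IsPGroup.iff_card.1 hVp
  have hcard : Nat.card (G ⧸ center G) = p ^ a * r := by rw [← ha, ← hVidx, V.card_mul_index]
  by_cases hpr : p = r
  · left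
    refine ⟨p, hp, hel p hp (IsPGroup.of_card (n := a + 1) ?_)⟩
    rw [hcard, ← hpr, pow_succ]
  right
  have hcopr : (p ^ a).Coprime r := Nat.Coprime.pow_left _ ((Nat.coprime_primes hp hr).2 hpr)
  refine ⟨?_, ?_, p, r, a, hp, hr, hpr, hcard, ?_⟩
  · intro hab
    have hab' : ∀ x y : G, x * y * x⁻¹ * y⁻¹ ∈ center G := by
      intro x y
      rw [← hker, map_mul, map_mul, map_mul, map_inv, map_inv, (hab.is_comm.comm (f x) (f y))]
      group
    obtain ⟨⟨w, hw⟩, hw1⟩ := ne_bot_iff_exists_ne_one.1 hWb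
    obtain ⟨x, hx, i, hi⟩ := exists_lift hp f hfs (y := w) (k := 1) (by rw [pow_one]; exact hWp w hw)
    have hxM : x ∈ M := (hVmem x).1 (hx ▸ hw)
    have hxz : x ∉ center G := fun hz => hw1 (Subtype.ext (hx ▸ (hker x).2 hz))
    -- an r-element of C(g)
    have hgr : ∃ k, (f g ^ (p ^ a)) ^ r ^ k = 1 := by
      refine ⟨1, ?_⟩
      rw [pow_one, ← pow_mul, ← hcard]
      exact pow_card_eq_one'
    obtain ⟨k, hk⟩ := hgr
    obtain ⟨y, hy, j, hj⟩ := exists_lift hr f hfs hk
    have hxy := comm_of_central (Nat.Coprime.pow i j ((Nat.coprime_primes hp hr).2 hpr)) hi hj (hab' x y)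
    have hyM : y ∈ M := by
      rw [← hMC x hxM hxz]
      exact mem_centralizer_singleton_iff.2 hxy.symm
    have h1 : f g ^ (p ^ a) ∈ V := hy ▸ (hVmem y).2 hyM
    have h2 : (f g ^ r) ∈ V := by
      rw [← hVidx]
      exact V.pow_index_mem (f g)
    have h3 : f g ∈ V := by
      have h4 : (f g) = (f g ^ (p ^ a)) ^ ((p ^ a).gcdA r) * (f g ^ r) ^ ((p ^ a).gcdB r) := by
        rw [← zpow_natCast, ← zpow_natCast, ← zpow_mul, ← zpow_mul, ← zpow_add, ← Nat.gcd_eq_gcd_ab, hcopr.gcd_eq_one]
        simp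
      rw [h4]
      exact V.mul_mem (V.zpow_mem h1 _) (V.zpow_mem h2 _)
    exact hg ((hVmem g).1 h3)
  · intro H hH
    refine ⟨⟨?_⟩⟩
    by_cases hHM : H ≤ V
    · rintro ⟨x, hx⟩ ⟨y, hy⟩
      obtain ⟨x, rfl⟩ := hfs x
      obtain ⟨y, rfl⟩ := hfs y
      apply Subtype.ext
      change f x * f y = f y * f x
      rw [← map_mul, hMab x ((hVmem x).1 (hHM hx)) y ((hVmem y).1 (hHM hy)), map_mul]
    · set H' := H.comap f with hH'
      have h1 : ¬ H' ≤ M := by
        intro hle
        apply hHM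
        intro x hx
        obtain ⟨x, rfl⟩ := hfs x
        exact (hVmem x).2 (hle hx)
      have h2 : M ⊔ H' = ⊤ := hM.2 _ (lt_of_le_of_ne le_sup_left (fun he => h1 (he ▸ le_sup_right)))
      have hZH : center G ≤ H' := fun x hx => by rw [hH', mem_comap, (hker x).2 hx]; exact one_mem _
      have hLn : (M ⊓ H').Normal := by
        rw [← normalizer_eq_top_iff, eq_top_iff, ← h2]
        refine sup_le (fun m hm => mem_normalizer_fintype fun n hn => ?_) (fun m hm => mem_normalizer_fintype fun n hn => ?_)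
        · rw [hMab m hm n hn.1, mul_inv_cancel_right]; exact hn
        · exact ⟨hMn.conj_mem n hn.1 m, H'.mul_mem (H'.mul_mem hm hn.2) (H'.inv_mem hm)⟩
      rcases hirr _ hLn (le_inf hZM.le hZH) inf_le_left with h3 | h3
      · rintro ⟨x, hx⟩ ⟨y, hy⟩
        obtain ⟨x, rfl⟩ := hfs x
        obtain ⟨y, rfl⟩ := hfs y
        apply Subtype.ext
        change f x * f y = f y * f x
        have h4 : x * y * x⁻¹ * y⁻¹ ∈ M ⊓ H' := ⟨hcomm x y, H'.mul_mem (H'.mul_mem (H'.mul_mem hx hy) (H'.inv_mem hx)) (H'.inv_mem hy)⟩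
        rw [h3, ← hker, map_mul, map_mul, map_mul, map_inv, map_inv, mul_inv_eq_one, mul_inv_eq_iff_eq_mul] at h4
        exact h4
      · exfalso
        have h4 : M ≤ H' := h3 ▸ inf_le_right
        rw [sup_eq_right.2 h4] at h2
        apply hH
        rw [eq_top_iff' ]
        intro x
        obtain ⟨x, rfl⟩ := hfs x
        have : x ∈ H' := h2 ▸ mem_top x
        exact this
  · intro P hP
    have h1 : P ≤ V := by
      intro x hx
      have h2 : x ^ p ^ a = 1 := by
        have h3 : (⟨x, hx⟩ : P) ^ Nat.card P = 1 := pow_card_eq_one'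
        rw [hP] at h3
        exact congrArg Subtype.val h3
      have h3 : x ^ r ∈ V := by rw [← hVidx]; exact V.pow_index_mem x
      have h4 : x = (x ^ (p ^ a)) ^ ((p ^ a).gcdA r) * (x ^ r) ^ ((p ^ a).gcdB r) := by
        rw [← zpow_natCast, ← zpow_natCast, ← zpow_mul, ← zpow_mul, ← zpow_add, ← Nat.gcd_eq_gcd_ab, hcopr.gcd_eq_one]
        simp
      rw [h4, h2, one_zpow, one_mul]
      exact V.zpow_mem h3 _
    rw [eq_of_le_of_card_ge h1 (by rw [hP, ha])]
    exact hWn


/-- Let G be a non-abelian finite group in which the centralizer of every non-central element is a maximal subgroup. Then G/Z(G) is either an elementary abelian p-group for some prime p, or a minimal non-abelian group (non-abelian with all proper subgroups abelian) of order p^a · q for distinct primes p, q with a normal Sylow p-subgroup. -/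
theorem result {G : Type*} [Group G] [Finite G] (hna : ¬ IsMulCommutative G)
    (h : ∀ x : G, x ∉ Subgroup.center G → IsCoatom (Subgroup.centralizer ({x} : Set G))) :
    (∃ p : ℕ, p.Prime ∧ Cfsg.IsElementaryAbelian p (⊤ : Subgroup (G ⧸ Subgroup.center G))) ∨
    (¬ IsMulCommutative (G ⧸ Subgroup.center G) ∧ (∀ H : Subgroup (G ⧸ Subgroup.center G), H ≠ ⊤ → IsMulCommutative ↥H) ∧
      ∃ p q a : ℕ, p.Prime ∧ q.Prime ∧ p ≠ q ∧ Nat.card (G ⧸ Subgroup.center G) = p ^ a * q ∧
        ∀ P : Subgroup (G ⧸ Subgroup.center G), Nat.card ↥P = p ^ a → P.Normal) := by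
  classical
  set f := QuotientGroup.mk' (Subgroup.center G) with hf
  have hfs : Function.Surjective f := QuotientGroup.mk'_surjective _
  have hker : ∀ x : G, f x = 1 ↔ x ∈ Subgroup.center G := fun x => CfsgLib.Core2.mk_eq_one_iff _ x
  have hZC : ∀ x : G, Subgroup.center G ≤ Subgroup.centralizer ({x} : Set G) := fun x => Subgroup.center_le_centralizer _
  have hcoQ : ∀ x : G, x ∉ Subgroup.center G → IsCoatom ((Subgroup.centralizer ({x} : Set G)).map f) := fun x hx =>
    CfsgLib.H3Desk.coatom_map f hfs (h x hx) (by rw [QuotientGroup.ker_mk']; exact hZC x)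
  have hmem : ∀ (L : Subgroup G), Subgroup.center G ≤ L → ∀ x, f x ∈ L.map f → x ∈ L := by
    rintro L hL x ⟨m, hm, hmx⟩
    have h1 : f (m⁻¹ * x) = 1 := by rw [map_mul, map_inv, hmx, inv_mul_cancel]
    exact (L.mul_mem_cancel_left (L.inv_mem hm)).1 (hL ((hker _).1 h1))
  have hel : ∀ p, p.Prime → IsPGroup p (G ⧸ Subgroup.center G) →
      Cfsg.IsElementaryAbelian p (⊤ : Subgroup (G ⧸ Subgroup.center G)) := by
    intro p hp hpg
    haveI := Fact.mk hp
    have h1 : ∀ x : G, x ∉ Subgroup.center G → ∀ g : G, g ^ p ∈ Subgroup.centralizer ({x} : Set G) ∧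
        ∀ k : G, g * k * g⁻¹ * k⁻¹ ∈ Subgroup.centralizer ({x} : Set G) := by
      intro x hx g
      have h2 := CfsgLib.Frattini.pow_mem_coatom_of_isPGroup hpg (hcoQ x hx)
      have h3 := CfsgLib.Frattini.coatom_of_nilpotent hpg.isNilpotent (hcoQ x hx)
      haveI := h3.1
      refine ⟨hmem _ (hZC x) _ ?_, fun k => hmem _ (hZC x) _ ?_⟩
      · rw [map_pow]; exact (h2 (f g)).2
      · rw [map_mul, map_mul, map_mul, map_inv, map_inv]
        exact (coatom_normal_prime (hcoQ x hx)).2 _ _
    have h4 : ∀ c : G, (∀ x : G, x ∉ Subgroup.center G → c ∈ Subgroup.centralizer ({x} : Set G)) → c ∈ Subgroup.center G := by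
      intro c hc
      rw [Subgroup.mem_center_iff]
      intro x
      by_cases hx : x ∈ Subgroup.center G
      · exact (Subgroup.mem_center_iff.1 hx c).symm
      · exact (Subgroup.mem_centralizer_singleton_iff.1 (hc x hx)).symm
    refine ⟨⟨⟨?_⟩⟩, ?_⟩
    · rintro ⟨x, -⟩ ⟨y, -⟩
      obtain ⟨x, rfl⟩ := hfs x
      obtain ⟨y, rfl⟩ := hfs y
      apply Subtype.ext
      change f x * f y = f y * f x
      have h5 := h4 (x * y * x⁻¹ * y⁻¹) (fun z hz => (h1 z hz x).2 y)
      rw [← hker, map_mul, map_mul, map_mul, map_inv, map_inv, mul_inv_eq_one, mul_inv_eq_iff_eq_mul] at h5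
      exact h5
    · rintro x -
      obtain ⟨x, rfl⟩ := hfs x
      rw [← map_pow, hker]
      exact h4 _ (fun z hz => (h1 z hz x).1)
  have hGs : Group.IsSolvable G := Cfsg.Agent.S4262.result h
  have hQs : Group.IsSolvable (G ⧸ Subgroup.center G) := Group.isSolvable_of_surjective hfs
  have hQnt : (⊤ : Subgroup (G ⧸ Subgroup.center G)) ≠ ⊥ := by
    intro hb
    apply hna
    refine ⟨⟨fun x y => ?_⟩⟩
    have h1 : f x ∈ (⊤ : Subgroup (G ⧸ Subgroup.center G)) := Subgroup.mem_top _
    rw [hb, Subgroup.mem_bot, hker] at h1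
    exact (Subgroup.mem_center_iff.1 h1 y).symm
  obtain ⟨V, hVn, -, hVb, hVmin, hVc, p, hp, hVp⟩ := CfsgLib.SZ.exists_minimal_normal_le (⊤ : Subgroup (G ⧸ Subgroup.center G))
    (by infer_instance) hQnt
  haveI := Fact.mk hp
  by_cases hab : ∃ x : G, x ∉ Subgroup.center G ∧ ∀ a ∈ Subgroup.centralizer ({x} : Set G), ∀ b ∈ Subgroup.centralizer ({x} : Set G), a * b = b * a
  · obtain ⟨x, hx, hx2⟩ := hab
    set M := Subgroup.centralizer ({x} : Set G) with hM
    have hMC : ∀ w ∈ M, w ∉ Subgroup.center G → Subgroup.centralizer ({w} : Set G) = M := by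
      intro w hw hwz
      symm
      apply ((h x hx).le_iff_eq (h w hwz).1).1 _ |>.symm
      intro m hm
      exact Subgroup.mem_centralizer_singleton_iff.2 (hx2 m hm w hw)
    have hxM : x ∈ M := Subgroup.mem_centralizer_singleton_iff.2 rfl
    have hZM : Subgroup.center G < M := lt_of_le_of_ne (hZC x) (fun he => hx (he ▸ hxM))
    by_cases hMn : M.Normal
    · exact final h (h x hx) hZM hMC hel
    have hNM : ∀ g : G, ∀ w, w ∈ M → w ∉ Subgroup.center G → g * w * g⁻¹ ∈ M → g ∈ M := by
      intro g w hw hwz hgw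
      have hgwz : g * w * g⁻¹ ∉ Subgroup.center G := by
        intro hz
        apply hwz
        have h1 := (Subgroup.center G).normal_of_characteristic.conj_mem _ hz g⁻¹
        have h2 : g⁻¹ * (g * w * g⁻¹) * g⁻¹⁻¹ = w := by group
        rwa [h2] at h1
      have h1 : g ∈ Subgroup.normalizer (M : Set G) := by
        refine Subgroup.mem_normalizer_fintype fun m hm => ?_
        rw [SetLike.mem_coe, ← hMC _ hgw hgwz]
        apply Subgroup.mem_centralizer_singleton_iff.2
        have h2 : m * w = w * m := hx2 m hm w hw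
        calc g * m * g⁻¹ * (g * w * g⁻¹) = g * (m * w) * g⁻¹ := by group
          _ = g * (w * m) * g⁻¹ := by rw [h2]
          _ = g * w * g⁻¹ * (g * m * g⁻¹) := by group
      have h2 : Subgroup.normalizer (M : Set G) = M := by
        rcases (Subgroup.le_normalizer (H := M)).eq_or_lt with h3 | h3
        · exact h3.symm
        · exact absurd (Subgroup.normalizer_eq_top_iff.1 ((h x hx).2 _ h3)) hMn
      rwa [h2] at h1
    obtain ⟨g₀, hg₀⟩ : ∃ g, g ∉ M := by
      by_contra hcon
      push Not at hcon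
      exact (h x hx).1 ((Subgroup.eq_top_iff' M).2 hcon)
    set K := V.comap f with hK
    haveI hKn : K.Normal := Subgroup.Normal.comap hVn f
    have hZK : Subgroup.center G ≤ K := fun z hz => by rw [hK, Subgroup.mem_comap, (hker z).2 hz]; exact one_mem _
    have hKZ : Subgroup.center G < K := by
      refine lt_of_le_of_ne hZK fun he => hVb ?_
      rw [eq_bot_iff]
      intro v hv
      obtain ⟨v, rfl⟩ := hfs v
      have : v ∈ K := hv
      rw [← he] at this
      rw [Subgroup.mem_bot, hker]; exact this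
    have hKmin : ∀ L : Subgroup G, L.Normal → Subgroup.center G ≤ L → L ≤ K → L = Subgroup.center G ∨ L = K := by
      intro L hL hZL hLK
      rcases hVmin (L.map f) (Subgroup.Normal.map hL f hfs) (by rw [Subgroup.map_le_iff_le_comap]; exact hLK) with h1 | h1
      · left
        refine le_antisymm (fun l hl => ?_) hZL
        have : f l ∈ L.map f := ⟨l, hl, rfl⟩
        rw [h1, Subgroup.mem_bot, hker] at this
        exact this
      · right
        refine le_antisymm hLK (fun k hk => hmem L hZL k ?_)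
        rw [h1]; exact hk
    have hKcomm : ∀ a ∈ K, ∀ b ∈ K, a * b * a⁻¹ * b⁻¹ ∈ Subgroup.center G := by
      intro a ha b hb
      rw [← hker, map_mul, map_mul, map_mul, map_inv, map_inv, mul_inv_eq_one, mul_inv_eq_iff_eq_mul]
      exact congrArg Subtype.val (hVc.is_comm.comm ⟨f a, ha⟩ ⟨f b, hb⟩)
    have hnormK : ∀ L : Subgroup G, Subgroup.center G ≤ L → ∀ k ∈ K, k ∈ Subgroup.normalizer ((L ⊓ K : Subgroup G) : Set G) := by
      intro L hL k hk
      refine Subgroup.mem_normalizer_fintype fun n hn => ?_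
      have h1 := hKcomm k hk n hn.2
      have h2 : k * n * k⁻¹ = k * n * k⁻¹ * n⁻¹ * n := by group
      rw [h2]
      exact (L ⊓ K).mul_mem ⟨hL h1, hZK h1⟩ hn
    have hnormM : ∀ L : Subgroup G, ∀ k ∈ L, k ∈ Subgroup.normalizer ((L ⊓ K : Subgroup G) : Set G) := by
      intro L k hk
      refine Subgroup.mem_normalizer_fintype fun n hn => ?_
      exact ⟨L.mul_mem (L.mul_mem hk hn.1) (L.inv_mem hk), hKn.conj_mem n hn.2 k⟩
    have hMK : M ⊓ K = Subgroup.center G := by
      by_contra hne
      have hlt : Subgroup.center G < M ⊓ K := lt_of_le_of_ne (le_inf hZM.le hZK) (Ne.symm hne)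
      obtain ⟨w, hw, hwz⟩ := Set.exists_of_ssubset hlt
      have hn : (M ⊓ K).Normal := by
        by_cases hKM : K ≤ M
        · rwa [inf_eq_right.2 hKM]
        · have h1 : M ⊔ K = ⊤ := (h x hx).2 _ (lt_of_le_of_ne le_sup_left (fun he => hKM (le_sup_right.trans he.ge)))
          rw [← Subgroup.normalizer_eq_top_iff, eq_top_iff, ← h1]
          exact sup_le (hnormM M) (hnormK M hZM.le)
      exact hg₀ (hNM g₀ w hw.1 hwz (hn.conj_mem w hw g₀).1)
    have hsup : M ⊔ K = ⊤ := by
      refine (h x hx).2 _ (lt_of_le_of_ne le_sup_left (fun he => ?_))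
      have h1 : K ≤ M := le_sup_right.trans he.ge
      rw [inf_eq_right.2 h1] at hMK
      exact hKZ.ne hMK.symm
    have hKC : ∀ g ∈ K, g ∉ Subgroup.center G → Subgroup.centralizer ({g} : Set G) = K := by
      intro g hg hgz
      set C := Subgroup.centralizer ({g} : Set G) with hC
      by_cases hKC' : K ≤ C
      · refine le_antisymm (fun c hc => ?_) hKC'
        have h1 : c ∈ M ⊔ K := hsup ▸ Subgroup.mem_top c
        rw [Subgroup.mem_sup_of_normal_right] at h1
        obtain ⟨m, hm, k, hk, rfl⟩ := h1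
        have h2 : m ∈ C := (C.mul_mem_cancel_right (hKC' hk)).1 hc
        have h3 : m ∈ Subgroup.center G := by
          by_contra hmz
          apply hgz
          rw [← hMK]
          refine ⟨?_, hg⟩
          rw [← hMC m hm hmz]
          exact Subgroup.mem_centralizer_singleton_iff.2 (Subgroup.mem_centralizer_singleton_iff.1 h2).symm
        exact K.mul_mem (hZK h3) hk
      · exfalso
        have h1 : C ⊔ K = ⊤ := (h g hgz).2 _ (lt_of_le_of_ne le_sup_left (fun he => hKC' (le_sup_right.trans he.ge)))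
        have hn : (C ⊓ K).Normal := by
          rw [← Subgroup.normalizer_eq_top_iff, eq_top_iff, ← h1]
          exact sup_le (hnormM C) (hnormK C (hZC g))
        rcases hKmin _ hn (le_inf (hZC g) hZK) inf_le_right with h2 | h2
        · apply hgz
          rw [← h2]
          exact ⟨Subgroup.mem_centralizer_singleton_iff.2 rfl, hg⟩
        · exact hKC' (h2 ▸ inf_le_left)
    have hKco : IsCoatom K := by
      obtain ⟨g, hgK, hgz⟩ := Set.exists_of_ssubset hKZ
      rw [← hKC g hgK hgz]
      exact h g hgz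
    exact final h hKco hKZ hKC hel
  · push Not at hab
    by_cases hpg : ∃ s, s.Prime ∧ IsPGroup s (G ⧸ Subgroup.center G)
    · obtain ⟨s, hs, hsg⟩ := hpg
      exact Or.inl ⟨s, hs, hel s hs hsg⟩
    exfalso
    push Not at hpg
    have hA := fun {x y : G} {r s : ℕ} => Cfsg.Agent.S4262.claimA h hab (x := x) (y := y) (r := r) (s := s)
    have hb : ∀ (p : ℕ) [Fact p.Prime] (S : Sylow p (G ⧸ Subgroup.center G)), (S : Subgroup (G ⧸ Subgroup.center G)) ≠ ⊥ →
        IsCoatom (S : Subgroup (G ⧸ Subgroup.center G)) ∧ ¬ IsCyclic (S : Subgroup (G ⧸ Subgroup.center G)) := by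
      intro p hp S hS
      obtain ⟨⟨s, hsS⟩, hs0⟩ := Subgroup.ne_bot_iff_exists_ne_one.1 hS
      have hs1 : s ≠ 1 := fun e => hs0 (Subtype.ext e)
      obtain ⟨k, hk⟩ := S.2 ⟨s, hsS⟩
      obtain ⟨x, hxs, i, hi⟩ := CfsgLib.H3CMax.exists_lift hp.out _ hfs (y := s) (k := k) (by simpa [Subtype.ext_iff] using hk)
      have hxc : x ∉ Subgroup.center G := by
        intro hc
        exact hs1 (hxs ▸ (CfsgLib.Core2.mk_eq_one_iff _ _).2 hc)
      have hM := hcoQ x hxc
      have hMp := Cfsg.Agent.S4262.claimB hA hxc hp.out ⟨i, hi⟩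
      obtain ⟨T, hT⟩ := hMp.exists_le_sylow
      have hTM : (Subgroup.centralizer ({x} : Set G)).map (QuotientGroup.mk' (Subgroup.center G)) = T := by
        rcases hT.eq_or_lt with h1 | h1
        · exact h1
        · exfalso
          have h2 := hM.2 _ h1
          refine hpg p hp.out ?_
          have h3 := T.2
          rw [h2] at h3
          exact h3.of_equiv Subgroup.topEquiv
      obtain ⟨g, rfl⟩ := MulAction.exists_smul_eq (G ⧸ Subgroup.center G) T S
      have e1 : ((g • T : Sylow p (G ⧸ Subgroup.center G)) : Subgroup (G ⧸ Subgroup.center G)) = MulAut.conj g • (T : Subgroup (G ⧸ Subgroup.center G)) := rfl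
      constructor
      · rw [e1, ← hTM, ← CfsgLib.SZ.map_conj_eq]
        refine CfsgLib.H3Desk.coatom_map _ (MulAut.conj g).surjective hM ?_
        intro y hy
        have h5 : (MulAut.conj g) y = 1 := hy
        rw [MulEquiv.map_eq_one_iff] at h5
        rw [h5]; exact one_mem _
      · intro hcyc
        obtain ⟨a, ha, b, hb, hne⟩ := hab x hxc
        rw [e1] at hcyc
        have e2 := Subgroup.equivSMul (MulAut.conj g) (T : Subgroup (G ⧸ Subgroup.center G))
        haveI : IsCyclic (T : Subgroup (G ⧸ Subgroup.center G)) := isCyclic_of_surjective e2.symm e2.symm.surjective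
        rw [← hTM] at this
        apply hne
        have h6 := commutative_of_cyclic_center_quotient
          ((QuotientGroup.mk' (Subgroup.center G)).subgroupMap (Subgroup.centralizer ({x} : Set G))) (fun y hy => by
            have h7 : (QuotientGroup.mk' (Subgroup.center G)) (y : G) = 1 := congrArg Subtype.val hy
            have h8 := (CfsgLib.Core2.mk_eq_one_iff _ _).1 h7
            rw [Subgroup.mem_center_iff]
            intro z
            exact Subtype.ext (Subgroup.mem_center_iff.1 h8 z)) ⟨a, ha⟩ ⟨b, hb⟩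
        exact congrArg Subtype.val h6
    have hVpg : IsPGroup p V := fun x => ⟨1, Subtype.ext (by rw [pow_one]; exact hVp x x.2)⟩
    obtain ⟨S₀, hS₀⟩ := hVpg.exists_le_sylow
    have hS₀b : (S₀ : Subgroup (G ⧸ Subgroup.center G)) ≠ ⊥ := fun he => hVb (le_bot_iff.1 (he ▸ hS₀))
    have hS₀c := (hb p S₀ hS₀b).1
    obtain ⟨s, hs, hsp, hsQ⟩ : ∃ s, s.Prime ∧ s ≠ p ∧ s ∣ Nat.card (G ⧸ Subgroup.center G) := by
      by_contra hcon
      push Not at hcon
      refine hpg p hp (IsPGroup.of_card (Nat.eq_prime_pow_of_unique_prime_dvd Nat.card_pos.ne' fun {q} hq hqd => ?_))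
      by_contra hne
      exact hcon q hq hne hqd
    haveI := Fact.mk hs
    obtain ⟨T⟩ : Nonempty (Sylow s (G ⧸ Subgroup.center G)) := inferInstance
    have hTb : (T : Subgroup (G ⧸ Subgroup.center G)) ≠ ⊥ := T.ne_bot_of_dvd_card hsQ
    obtain ⟨hTc, hTcyc⟩ := hb s T hTb
    have hdis : ∀ x, x ∈ (S₀ : Subgroup (G ⧸ Subgroup.center G)) → x ∈ (T : Subgroup (G ⧸ Subgroup.center G)) → x = 1 := by
      intro x h1 h2
      have h3 := IsPGroup.disjoint_of_ne p s hsp.symm (S₀ : Subgroup (G ⧸ Subgroup.center G)) T S₀.2 T.2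
      have : x ∈ (S₀ : Subgroup (G ⧸ Subgroup.center G)) ⊓ T := ⟨h1, h2⟩
      rwa [h3.eq_bot, Subgroup.mem_bot] at this
    have hVT : V ⊔ (T : Subgroup (G ⧸ Subgroup.center G)) = ⊤ := by
      rw [sup_comm]
      refine hTc.2 _ (lt_of_le_of_ne le_sup_left (fun he => hVb ?_))
      rw [eq_bot_iff]
      intro v hv
      have : v ∈ (T : Subgroup (G ⧸ Subgroup.center G)) := he ▸ le_sup_right (a := (T : Subgroup (G ⧸ Subgroup.center G))) hv
      rw [Subgroup.mem_bot]
      exact hdis v (hS₀ hv) this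
    have hVS : V = S₀ := by
      refine le_antisymm hS₀ fun x hx => ?_
      have h1 : x ∈ V ⊔ (T : Subgroup (G ⧸ Subgroup.center G)) := hVT ▸ Subgroup.mem_top x
      rw [Subgroup.mem_sup_of_normal_left] at h1
      obtain ⟨v, hv, t, ht, rfl⟩ := h1
      have h2 : t ∈ (S₀ : Subgroup (G ⧸ Subgroup.center G)) := (Subgroup.mul_mem_cancel_left _ (hS₀ hv)).1 hx
      rw [hdis t h2 ht, mul_one]
      exact hv
    rw [← hVS] at hS₀c
    have hpr := (coatom_normal_prime hS₀c).1
    have hTcard : Nat.card (T : Subgroup (G ⧸ Subgroup.center G)) = V.index := by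
      have h1 : V.IsComplement' (T : Subgroup (G ⧸ Subgroup.center G)) := by
        refine Subgroup.isComplement'_of_disjoint_and_mul_eq_univ ?_ ?_
        · rw [disjoint_iff, eq_bot_iff]
          rintro x ⟨h1, h2⟩
          exact hdis x (hS₀ h1) h2
        · rw [← Subgroup.normal_mul, hVT]
          rfl
      have h2 := h1.card_mul_card
      have h3 := V.card_mul_index
      rw [← h3] at h2
      exact Nat.eq_of_mul_eq_mul_left Nat.card_pos h2
    apply hTcyc
    haveI := Fact.mk hpr
    exact isCyclic_of_prime_card hTcard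

end Cfsg.Agent.S3904
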