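import Cfsg.Statements.S3983
import Mathlib
import Cfsg.Agent.S3858

set_option autoImplicit false
open scoped Pointwise
open Cfsg

open scoped Pointwise
namespace Cfsg.Agent.S3983

open CfsgLib.Core Subgroup in
theorem exists_ge {G : Type*} [Group G] [Finite G] {p : ℕ} [Fact p.Prime] (P : Sylow p G) (K : Subgroup G) (hK : IsPGroup p K) :
    ∃ g : G, K ≤ (g • P : Sylow p G) := by
  obtain ⟨R, hR⟩ := hK.exists_le_sylow
  obtain ⟨g, hg⟩ := MulAction.exists_smul_eq G P R
  exact ⟨g, hg ▸ hR⟩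


/-- Let P be a Sylow p-subgroup of the finite group G that meets each conjugate g P g⁻¹ with g outside N_G(P) trivially, and let U be a subgroup of G of order divisible by p. Then a Sylow p-subgroup Q of U has the same property inside U: Q meets each conjugate u Q u⁻¹ with u ∈ U outside N_U(Q) trivially. -/
theorem result {G : Type*} [Group G] [Finite G] (p : ℕ) [Fact p.Prime] (P : Sylow p G) (hTI : ∀ g : G, g ∉ Subgroup.normalizer ((P : Subgroup G) : Set G) → (P : Subgroup G) ⊓ (MulAut.conj g • (P : Subgroup G)) = ⊥) (U : Subgroup G) (hU : p ∣ Nat.card ↥U) (Q : Sylow p ↥U) : ∀ u : ↥U, u ∉ Subgroup.normalizer ((Q : Subgroup ↥U) : Set ↥U) → (Q : Subgroup ↥U) ⊓ (MulAut.conj u • (Q : Subgroup ↥U)) = ⊥ := by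
  open CfsgLib.Core Subgroup in
  have hTI' : ∀ R S : Sylow p G, (R : Subgroup G) ⊓ (S : Subgroup G) ≠ ⊥ → R = S := by
    intro R S hRS
    obtain ⟨a, rfl⟩ := MulAction.exists_smul_eq G P R
    obtain ⟨b, rfl⟩ := MulAction.exists_smul_eq G P S
    by_contra hne
    have h1 : a⁻¹ * b ∉ Subgroup.normalizer ((P : Subgroup G) : Set G) := by
      intro h
      apply hne
      have h2 : (a⁻¹ * b) • P = P := Sylow.smul_eq_iff_mem_normalizer.2 h
      rw [mul_smul, inv_smul_eq_iff] at h2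
      exact h2.symm
    have h2 := hTI _ h1
    apply hRS
    rw [eq_bot_iff]
    intro x hx
    obtain ⟨hx1, hx2⟩ := mem_inf.1 hx
    have h3 : a⁻¹ * x * a ∈ (P : Subgroup G) ⊓ (MulAut.conj (a⁻¹ * b) • (P : Subgroup G)) := by
      obtain ⟨u, hu, hux⟩ := hx1
      obtain ⟨v, hv, hvx⟩ := hx2
      have hux' : a * u * a⁻¹ = x := hux
      have hvx' : b * v * b⁻¹ = x := hvx
      refine mem_inf.2 ⟨?_, ⟨v, hv, ?_⟩⟩
      · rw [← hux']
        have : a⁻¹ * (a * u * a⁻¹) * a = u := by group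
        rw [this]; exact hu
      · change (a⁻¹ * b) * v * (a⁻¹ * b)⁻¹ = a⁻¹ * x * a
        rw [← hvx']; group
    rw [h2, mem_bot] at h3
    rw [mem_bot]
    have : x = a * (a⁻¹ * x * a) * a⁻¹ := by group
    rw [this, h3]; group
  intro u hu
  by_contra hne
  apply hu
  obtain ⟨R, hR⟩ := (Q.isPGroup'.map U.subtype).exists_le_sylow
  have h1 : (u : G) • R = R := by
    apply hTI'
    intro hbot
    apply hne
    rw [eq_bot_iff]
    intro x hx
    obtain ⟨hx1, hx2⟩ := mem_inf.1 hx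
    have h2 : (x : G) ∈ (((u : G) • R : Sylow p G) : Subgroup G) ⊓ (R : Subgroup G) := by
      refine mem_inf.2 ⟨?_, hR ⟨x, hx1, rfl⟩⟩
      obtain ⟨y, hy, hyx⟩ := hx2
      refine ⟨y, hR ⟨y, hy, rfl⟩, ?_⟩
      exact congrArg Subtype.val hyx
    rw [hbot, mem_bot] at h2
    rw [mem_bot]
    exact Subtype.ext h2
  -- Q is the trace of R
  have h3 : (Q : Subgroup U) = (R : Subgroup G).subgroupOf U := by
    symm
    apply Q.is_maximal'
    · exact R.isPGroup'.comap_subtype
    · intro x hx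
      exact hR ⟨x, hx, rfl⟩
  rw [← map_conj_eq_iff]
  ext x
  rw [h3]
  constructor
  · rintro ⟨y, hy, rfl⟩
    change (u : G) * y * (u : G)⁻¹ ∈ (R : Subgroup G)
    rw [← h1]
    exact ⟨y, hy, rfl⟩
  · intro hx
    have hx' : (x : G) ∈ (R : Subgroup G) := hx
    rw [← h1] at hx'
    obtain ⟨y, hy, hyx⟩ := hx'
    have hyx' : (u : G) * y * (u : G)⁻¹ = x := hyx
    have hyU : y ∈ U := by
      have : y = (u : G)⁻¹ * x * u := by rw [← hyx']; group
      rw [this]
      exact U.mul_mem (U.mul_mem (U.inv_mem u.2) x.2) u.2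
    exact ⟨⟨y, hyU⟩, hy, Subtype.ext hyx'⟩

end Cfsg.Agent.S3983
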