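import Cfsg.Statements.S4027
import Mathlib
import Cfsg.Agent.S3861

set_option autoImplicit false
open Cfsg

namespace Cfsg.Agent.S4027

/-- Let G be a finite group in which every element x of odd order satisfies N_G(⟨x⟩) = C_G(x). Then the Sylow 2-subgroups of G are normal. -/
theorem result {G : Type*} [Group G] [Finite G]
    (hirr : ∀ x : G, (∀ r : ℕ, r.Prime → r ∣ orderOf x → r ≠ 2) →
      Subgroup.normalizer ((Subgroup.zpowers x : Subgroup G) : Set G) ≤ Subgroup.centralizer {x}) (P : Sylow 2 G) :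
    (P : Subgroup G).Normal := by
  rw [← Cfsg.Agent.S3861.result P]
  intro x hx1 hodd hconj
  obtain ⟨c, hc⟩ := isConj_iff.1 hconj
  have h1 : c ∈ Subgroup.normalizer ((Subgroup.zpowers x : Subgroup G) : Set G) := by
    apply Subgroup.mem_normalizer_fintype
    rintro _ ⟨k, rfl⟩
    show c * x ^ k * c⁻¹ ∈ Subgroup.zpowers x
    rw [← conj_zpow, hc]
    exact Subgroup.zpow_mem _ (Subgroup.inv_mem _ (Subgroup.mem_zpowers x)) k
  have h2 := hirr x (fun r hr hrx h2 => by
    subst h2
    exact (Nat.not_even_iff_odd.2 hodd) (even_iff_two_dvd.2 hrx)) h1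
  rw [Subgroup.mem_centralizer_singleton_iff] at h2
  have h3 : x = x⁻¹ := by rw [← hc, h2, mul_inv_cancel_right]
  have h4 : x ^ 2 = 1 := by rw [pow_two]; nth_rewrite 1 [h3]; rw [inv_mul_cancel]
  apply hx1
  rw [← orderOf_eq_one_iff]
  exact Nat.eq_one_of_dvd_coprimes (Nat.coprime_two_left.2 hodd) (orderOf_dvd_of_pow_eq_one h4) dvd_rfl

end Cfsg.Agent.S4027
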