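import Cfsg.Statements.S4049
import Mathlib
import Cfsg.Agent.S3861

set_option autoImplicit false
open Cfsg

namespace Cfsg.Agent.S4049

/-- Let G be a finite group such that N_G(H)/C_G(H) has odd order for every nontrivial subgroup H of odd order. Then the Sylow 2-subgroups of G are normal. -/
theorem result {G : Type*} [Group G] [Finite G]
    (hhom : ∀ H : Subgroup G, H ≠ ⊥ → ¬ 2 ∣ Nat.card ↥H →
        ¬ 2 ∣ (Subgroup.centralizer (H : Set G)).relIndex (Subgroup.normalizer (H : Set G))) (P : Sylow 2 G) :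
    (P : Subgroup G).Normal := by
  rw [← Cfsg.Agent.S3861.result P]
  intro x hx1 hodd hconj
  obtain ⟨c, hc⟩ := isConj_iff.1 hconj
  set H := Subgroup.zpowers x with hH
  have hN : c ∈ Subgroup.normalizer (H : Set G) := by
    apply Subgroup.mem_normalizer_fintype
    rintro _ ⟨k, rfl⟩
    show c * x ^ k * c⁻¹ ∈ H
    rw [← conj_zpow, hc]
    exact Subgroup.zpow_mem _ (Subgroup.inv_mem _ (Subgroup.mem_zpowers x)) k
  have h2 := hhom H (fun h => hx1 (Subgroup.zpowers_eq_bot.1 h)) (by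
    rw [hH, Nat.card_zpowers]
    exact fun h => (Nat.not_even_iff_odd.2 hodd) (even_iff_two_dvd.2 h))
  apply h2
  by_contra hnd
  set K := (Subgroup.centralizer (H : Set G)).subgroupOf (Subgroup.normalizer (H : Set G)) with hK
  have hx : x ∈ H := Subgroup.mem_zpowers x
  have hKn : K.Normal := by
    rw [hK]; infer_instance
  have hodd' : Odd K.index := Nat.not_even_iff_odd.1 (fun h => hnd (even_iff_two_dvd.1 h))
  have hmem0 : ∀ g : G, g ∈ Subgroup.centralizer (H : Set G) ↔ g * x = x * g := by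
    intro g
    rw [hH, Subgroup.zpowers_eq_closure, Subgroup.centralizer_closure, Subgroup.mem_centralizer_singleton_iff]
  have hmem : ∀ g : Subgroup.normalizer (H : Set G), g ∈ K ↔ (g : G) * x = x * g := by
    intro g
    rw [hK, Subgroup.mem_subgroupOf]
    exact hmem0 g
  set c' : Subgroup.normalizer (H : Set G) := ⟨c, hN⟩
  have h3 : c' ^ 2 ∈ K := by
    rw [hmem]
    show c ^ 2 * x = x * c ^ 2
    have e1 : c ^ 2 * x * (c ^ 2)⁻¹ = c * (c * x * c⁻¹) * c⁻¹ := by rw [pow_two]; group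
    have e2 : c * x⁻¹ * c⁻¹ = (c * x * c⁻¹)⁻¹ := by group
    rw [← mul_inv_eq_iff_eq_mul, e1, hc, e2, hc, inv_inv]
  have h4 : c' ^ K.index ∈ K := Subgroup.pow_index_mem K c'
  have h5 : c' ∈ K := by
    obtain ⟨k, hk⟩ := hodd'
    rw [hk, pow_succ, pow_mul] at h4
    exact (Subgroup.mul_mem_cancel_left K (Subgroup.pow_mem K h3 k)).1 h4
  rw [hmem] at h5
  have h5 : c * x = x * c := h5
  have h6 : x = x⁻¹ := by rw [← hc, h5, mul_inv_cancel_right]
  have h7 : x ^ 2 = 1 := by rw [pow_two]; nth_rewrite 1 [h6]; rw [inv_mul_cancel]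
  apply hx1
  rw [← orderOf_eq_one_iff]
  exact Nat.eq_one_of_dvd_coprimes (Nat.coprime_two_left.2 hodd) (orderOf_dvd_of_pow_eq_one h7) dvd_rfl

end Cfsg.Agent.S4049
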