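import Cfsg.Statements.S4113
import Mathlib

set_option autoImplicit false
open Cfsg

namespace Cfsg.Agent.S4113

open Subgroup

theorem mem_mul {G : Type*} [Group G] {H M : Subgroup G} [M.Normal] {g : G} (hg : g ∈ H ⊔ M) : ∃ m ∈ M, ∃ h ∈ H, g = m * h := by
  rw [sup_comm, ← SetLike.mem_coe, normal_mul] at hg
  obtain ⟨m, hm, h, hh, e⟩ := hg
  exact ⟨m, hm, h, hh, e.symm⟩


/-- Let G be a finite group, M ≤ N non-trivial proper normal subgroups, and H a subgroup with HM = G and H ∩ M = 1. Then every element of G outside N acts fixed-point-freely on M (C_G(x) ≤ N for every x ∈ M, x ≠ 1) if and only if H ∩ gHg⁻¹ ≤ H ∩ N for every g outside H, with H proper and non-trivial and H ∩ N proper in H. -/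
theorem result {G : Type*} [Group G] [Finite G] (N M : Subgroup G) [N.Normal] [M.Normal] (hMN : M ≤ N) (hM1 : M ≠ ⊥) (hN2 : N ≠ ⊤)
    (H : Subgroup G) (hHM : H ⊔ M = ⊤) (hHM' : H ⊓ M = ⊥) :
    (∀ x ∈ M, x ≠ 1 → Subgroup.centralizer ({x} : Set G) ≤ N) ↔
      (H ≠ ⊥ ∧ H ≠ ⊤ ∧ H ⊓ N < H ∧ ∀ g : G, g ∉ H → H ⊓ H.map (MulAut.conj g).toMonoidHom ≤ N) := by
  have hNn : N.Normal := inferInstance
  have hMn : M.Normal := inferInstance
  constructor
  · intro h
    have hHb : H ≠ ⊥ := by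
      rintro rfl
      rw [bot_sup_eq] at hHM
      rw [hHM, top_le_iff] at hMN
      exact hN2 hMN
    have hHt : H ≠ ⊤ := by
      rintro rfl
      rw [top_inf_eq] at hHM'
      exact hM1 hHM'
    refine ⟨hHb, hHt, ?_, ?_⟩
    · refine lt_of_le_of_ne inf_le_left ?_
      intro h2
      have h3 : H ≤ N := inf_eq_left.1 h2
      have : H ⊔ M ≤ N := sup_le h3 hMN
      rw [hHM, top_le_iff] at this
      exact hN2 this
    · intro g hg x hx
      obtain ⟨hx1, y, hy, hyx⟩ := mem_inf.1 hx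
      have hyx' : g * y * g⁻¹ = x := hyx
      have hgm : g ∈ H ⊔ M := by rw [hHM]; trivial
      obtain ⟨m, hm, h', hh', rfl⟩ := mem_mul hgm
      have hm' : m ∈ M := hm
      have hh : h' ∈ H := hh'
      -- x = m (h' y h'⁻¹) m⁻¹
      set z := h' * y * h'⁻¹ with hz
      have hzH : z ∈ H := H.mul_mem (H.mul_mem hh hy) (H.inv_mem hh)
      have hxz : m * z * m⁻¹ = x := by rw [hz, ← hyx']; simp only [mul_inv_rev]; group
      have h1 : z⁻¹ * x ∈ H ⊓ M := by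
        refine mem_inf.2 ⟨H.mul_mem (H.inv_mem hzH) hx1, ?_⟩
        rw [← hxz]
        have e : z⁻¹ * (m * z * m⁻¹) = (z⁻¹ * m * (z⁻¹)⁻¹) * m⁻¹ := by group
        rw [e]
        exact M.mul_mem (hMn.conj_mem m hm' z⁻¹) (M.inv_mem hm')
      rw [hHM', mem_bot, inv_mul_eq_one] at h1
      have hm1 : m ≠ 1 := by
        rintro rfl
        exact hg (by rw [one_mul]; exact hh)
      refine h m hm' hm1 ?_
      rw [mem_centralizer_singleton_iff]
      rw [h1] at hxz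
      rw [mul_inv_eq_iff_eq_mul] at hxz
      exact hxz.symm
  · rintro ⟨hHb, hHt, hHN, hg⟩ x hxM hx1 c hc
    rw [mem_centralizer_singleton_iff] at hc
    have hcm : c ∈ H ⊔ M := by rw [hHM]; trivial
    obtain ⟨m, hm, h', hh', rfl⟩ := mem_mul hcm
    have hm' : m ∈ M := hm
    have hh : h' ∈ H := hh'
    by_contra hcN
    have hhN : h' ∉ N := fun h => hcN (N.mul_mem (hMN hm') h)
    have hMH : ∀ n ∈ M, n ≠ 1 → n ∉ H := by
      intro n hn hn1 hnH
      have : n ∈ H ⊓ M := mem_inf.2 ⟨hnH, hn⟩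
      rw [hHM', mem_bot] at this
      exact hn1 this
    have key : ∀ n ∈ M, n * h' * n⁻¹ ∈ H → n * h' * n⁻¹ = h' → n = 1 := by
      intro n hn _ h2
      by_contra hn1
      apply hhN
      refine hg n (hMH n hn hn1) (mem_inf.2 ⟨hh, ⟨h', hh, ?_⟩⟩)
      exact h2
    -- the map M → M
    let φ : M → M := fun n => ⟨(n : G)⁻¹ * h' * n * h'⁻¹, by
      have e : (n : G)⁻¹ * h' * n * h'⁻¹ = (n : G)⁻¹ * (h' * n * h'⁻¹) := by group
      rw [e]; exact M.mul_mem (M.inv_mem n.2) (hMn.conj_mem n n.2 h')⟩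
    have hφ : Function.Injective φ := by
      intro n₁ n₂ h12
      have h2 : (n₁ : G)⁻¹ * h' * n₁ * h'⁻¹ = (n₂ : G)⁻¹ * h' * n₂ * h'⁻¹ := congrArg Subtype.val h12
      have h3 : (n₁ : G)⁻¹ * h' * n₁ = (n₂ : G)⁻¹ * h' * n₂ := mul_right_cancel h2
      have h4 : ((n₂ : G) * (n₁ : G)⁻¹) * h' * ((n₂ : G) * (n₁ : G)⁻¹)⁻¹ = h' := by
        calc ((n₂ : G) * (n₁ : G)⁻¹) * h' * ((n₂ : G) * (n₁ : G)⁻¹)⁻¹ = n₂ * ((n₁ : G)⁻¹ * h' * n₁) * (n₂ : G)⁻¹ := by group
          _ = n₂ * ((n₂ : G)⁻¹ * h' * n₂) * (n₂ : G)⁻¹ := by rw [h3]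
          _ = h' := by group
      have h5 := key _ (M.mul_mem n₂.2 (M.inv_mem n₁.2)) (by rw [h4]; exact hh) h4
      exact Subtype.ext (mul_inv_eq_one.1 h5).symm
    obtain ⟨n, hn⟩ := (Finite.injective_iff_surjective.1 hφ) ⟨m, hm'⟩
    have hn' : (n : G)⁻¹ * h' * n * h'⁻¹ = m := congrArg Subtype.val hn
    have hc2 : m * h' = (n : G)⁻¹ * h' * n := by rw [← hn']; group
    rw [hc2] at hc
    set x' := (n : G) * x * (n : G)⁻¹ with hx'
    have hx'M : x' ∈ M := hMn.conj_mem x hxM n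
    have hx'1 : x' ≠ 1 := by
      intro h0
      apply hx1
      rw [hx', mul_inv_eq_one] at h0
      exact mul_left_cancel (h0.trans (mul_one _).symm)
    have hcomm : x' * h' * x'⁻¹ = h' := by
      rw [mul_inv_eq_iff_eq_mul, hx']
      have h6 := congrArg (fun z => (n : G) * z * (n : G)⁻¹) hc
      have e1 : (n : G) * ((n : G)⁻¹ * h' * n * x) * (n : G)⁻¹ = h' * (n * x * (n : G)⁻¹) := by group
      have e2 : (n : G) * (x * ((n : G)⁻¹ * h' * n)) * (n : G)⁻¹ = (n * x * (n : G)⁻¹) * h' := by group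
      simp only [e1, e2] at h6
      exact h6.symm
    exact hx'1 (key x' hx'M (by rw [hcomm]; exact hh) hcomm)

end Cfsg.Agent.S4113
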