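import Cfsg.Statements.S4347
import Mathlib
import Cfsg.Agent.Lib.H7Basic

set_option autoImplicit false
open Cfsg

open scoped Pointwise
namespace Cfsg.Agent.S4347

/-- Let G be a finite group and p a prime. Say a Sylow p-subgroup Q is redundant when every element of p-power order lies in some Sylow p-subgroup other than Q. Then G has no redundant Sylow p-subgroup if and only if some element of p-power order lies in exactly one Sylow p-subgroup. -/
theorem result {G : Type*} [Group G] [Finite G]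
    (p : ℕ) [Fact p.Prime] :
    (¬ ∃ Q : Sylow p G, ∀ x : G, (∃ k : ℕ, orderOf x = p ^ k) → ∃ P : Sylow p G, P ≠ Q ∧ x ∈ P) ↔
      ∃ x : G, (∃ k : ℕ, orderOf x = p ^ k) ∧ ∃! P : Sylow p G, x ∈ P := by
  open Subgroup CfsgLib.H7Basic in
  constructor
  · intro h
    obtain ⟨Q⟩ : Nonempty (Sylow p G) := inferInstance
    push Not at h
    obtain ⟨x, hx, hxQ⟩ := h Q
    refine ⟨x, hx, ?_⟩
    obtain ⟨k, hk⟩ := hx
    have hz : IsPGroup p (zpowers x) := IsPGroup.of_card (n := k) (by rw [Nat.card_zpowers, hk])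
    obtain ⟨R, hR⟩ := hz.exists_le_sylow
    have hRQ : R = Q := by
      by_contra hne
      exact hxQ R hne (hR (mem_zpowers x))
    refine ⟨Q, hRQ ▸ hR (mem_zpowers x), ?_⟩
    intro P hP
    by_contra hne
    exact hxQ P hne hP
  · rintro ⟨x, ⟨k, hk⟩, P, hP, huniq⟩ ⟨Q, hQ⟩
    obtain ⟨g, hg⟩ := MulAction.exists_smul_eq G P Q
    have ho : orderOf (g * x * g⁻¹) = orderOf x := by
      have := orderOf_injective (MulAut.conj g).toMonoidHom (MulAut.conj g).injective x
      simpa [MulAut.conj_apply] using this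
    obtain ⟨R, hR, hRx⟩ := hQ (g * x * g⁻¹) ⟨k, by rw [ho, hk]⟩
    apply hR
    have h1 : x ∈ (g⁻¹ • R : Sylow p G) := by
      refine ⟨g * x * g⁻¹, hRx, ?_⟩
      change g⁻¹ * (g * x * g⁻¹) * g⁻¹⁻¹ = x
      group
    have h2 : g⁻¹ • R = P := huniq _ h1
    rw [← hg, ← h2, smul_inv_smul]

end Cfsg.Agent.S4347
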