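import Cfsg.Statements.S4348
import Mathlib
import Cfsg.Agent.Lib.Core2
import Cfsg.Agent.Lib.Core

set_option autoImplicit false
open Cfsg

namespace Cfsg.Agent.S4348

/-- Let G be a finite group, p a prime and P a Sylow p-subgroup of G, and let O_p(G) be the largest normal p-subgroup of G. If P/O_p(G) is cyclic, then some element of p-power order of G lies in exactly one Sylow p-subgroup. -/
theorem result {G : Type*} [Group G] [Finite G]
    (p : ℕ) [Fact p.Prime] (P : Sylow p G)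
    [hn : ((Cfsg.pCore p G).subgroupOf (P : Subgroup G)).Normal]
    (hc : IsCyclic ((P : Subgroup G) ⧸ (Cfsg.pCore p G).subgroupOf (P : Subgroup G))) :
    ∃ x : G, (∃ k : ℕ, orderOf x = p ^ k) ∧ ∃! Q : Sylow p G, x ∈ Q := by
  open Subgroup CfsgLib.Core2 CfsgLib.Core in
  obtain ⟨y, hy⟩ := hc.exists_zpow_surjective
  obtain ⟨x, rfl⟩ := QuotientGroup.mk'_surjective _ y
  obtain ⟨k, hk⟩ := IsPGroup.iff_orderOf.1 P.isPGroup' x
  refine ⟨x, ⟨k, by rw [Subgroup.orderOf_coe]; exact hk⟩, P, x.2, ?_⟩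
  intro Q hQ
  symm
  have hPQ : (P : Subgroup G) ≤ Q := by
    intro z hz
    obtain ⟨i, hi⟩ := hy (QuotientGroup.mk' _ (⟨z, hz⟩ : (P : Subgroup G)))
    have h1 : QuotientGroup.mk' ((Cfsg.pCore p G).subgroupOf (P : Subgroup G)) ((x ^ i)⁻¹ * ⟨z, hz⟩) = 1 := by
      rw [map_mul, map_inv, ← hi, map_zpow]
      simp
    rw [mk_eq_one_iff, mem_subgroupOf] at h1
    have h2 : ((x : G) ^ i)⁻¹ * z ∈ (Q : Subgroup G) := by
      apply pCore_le_sylow Q
      simpa using h1
    have h3 : z = (x : G) ^ i * (((x : G) ^ i)⁻¹ * z) := by group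
    rw [h3]
    exact mul_mem (zpow_mem hQ i) h2
  exact Sylow.ext (P.is_maximal' Q.isPGroup' hPQ).symm

end Cfsg.Agent.S4348
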