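import Cfsg.Statements.S4376
import Mathlib
import Cfsg.Agent.Lib.H3OT
import Cfsg.Agent.Lib.H3OT2
import Cfsg.Agent.Lib.H3OT3
import Cfsg.Agent.Lib.H3OTa
import Cfsg.Agent.Lib.H3OTb
import Cfsg.Agent.Lib.H3OTc
import Cfsg.Agent.Lib.H3OTd
import Cfsg.Agent.Lib.H3OTe
import Cfsg.Agent.Lib.H3OTf

set_option autoImplicit false
open Cfsg

set_option linter.style.haveILetI false
namespace Cfsg.Agent.S4376

open CfsgLib.OT

abbrev GG := (SD A98 × SD A98) × (SD AGL × SD AGL × SD AGL) × (SD AD3 × SD AD3 × SD AD3) × (SD AQ3 × SD AQ3 × SD AQ3) ×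
  (SD A168 × SD A168 × SD A168) × C7

abbrev HH := (L3 × L3 × L3) × (SD A21 × SD A21 × SD A21 × SD A21) × (SD AQ × SD AQ × SD AQ) × (SD AD × SD AD × SD AD) ×
  (SD A294 × SD A294) × (Fin 9 → C2) × (Fin 3 → C3)

theorem exp_prod {X Y : Type} [Group X] [Group Y] (h1 : ∀ x : X, x ^ 84 = 1) (h2 : ∀ y : Y, y ^ 84 = 1) : ∀ z : X × Y, z ^ 84 = 1 :=
  fun z => Prod.ext (h1 z.1) (h2 z.2)

theorem exp_pi {X : Type} [Group X] (k : ℕ) (h1 : ∀ x : X, x ^ 84 = 1) : ∀ z : Fin k → X, z ^ 84 = 1 :=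
  fun z => funext fun i => h1 (z i)

theorem expG : ∀ x : GG, x ^ 84 = 1 :=
  exp_prod (exp_prod eA98 eA98) (exp_prod (exp_prod eAGL (exp_prod eAGL eAGL)) (exp_prod (exp_prod eAD3 (exp_prod eAD3 eAD3))
    (exp_prod (exp_prod eAQ3 (exp_prod eAQ3 eAQ3)) (exp_prod (exp_prod eA168 (exp_prod eA168 eA168)) eC7))))

theorem expH : ∀ x : HH, x ^ 84 = 1 :=
  exp_prod (exp_prod eL3 (exp_prod eL3 eL3)) (exp_prod (exp_prod eA21 (exp_prod eA21 (exp_prod eA21 eA21)))
    (exp_prod (exp_prod eAQ (exp_prod eAQ eAQ)) (exp_prod (exp_prod eAD (exp_prod eAD eAD))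
    (exp_prod (exp_prod eA294 eA294) (exp_prod (exp_pi 9 eC2) (exp_pi 3 eC3))))))

theorem FG (n : ℕ) : F GG n = F (SD A98) n ^ 2 * (F (SD AGL) n ^ 3 * (F (SD AD3) n ^ 3 * (F (SD AQ3) n ^ 3 * (F (SD A168) n ^ 3 * F C7 n)))) := by
  simp only [GG, F_prod]
  ring

theorem FH (n : ℕ) : F HH n = F L3 n ^ 3 * (F (SD A21) n ^ 4 * (F (SD AQ) n ^ 3 * (F (SD AD) n ^ 3 * (F (SD A294) n ^ 2 *
    (F C2 n ^ 9 * F C3 n ^ 3))))) := by
  simp only [HH, F_prod, F_pi]
  ring

theorem key (d : ℕ) (hd : d ∣ 84) : F GG d = F HH d := by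
  have h1 : d ∈ Nat.divisors 84 := Nat.mem_divisors.2 ⟨hd, by norm_num⟩
  have h2 : Nat.divisors 84 = {1, 2, 3, 4, 6, 7, 12, 14, 21, 28, 42, 84} := by decide +kernel
  rw [h2] at h1
  simp only [Finset.mem_insert, Finset.mem_singleton] at h1
  rw [FG, FH]
  rcases h1 with rfl | rfl | rfl | rfl | rfl | rfl | rfl | rfl | rfl | rfl | rfl | rfl
  · rw [cA98_1, cAGL_1, cAD3_1, cAQ3_1, cA168_1, cC7_1, cL3_1, cA21_1, cAQ_1, cAD_1, cA294_1, cC2_1, cC3_1]; norm_num
  · rw [cA98_2, cAGL_2, cAD3_2, cAQ3_2, cA168_2, cC7_2, cL3_2, cA21_2, cAQ_2, cAD_2, cA294_2, cC2_2, cC3_2]; norm_num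
  · rw [cA98_3, cAGL_3, cAD3_3, cAQ3_3, cA168_3, cC7_3, cL3_3, cA21_3, cAQ_3, cAD_3, cA294_3, cC2_3, cC3_3]; norm_num
  · rw [cA98_4, cAGL_4, cAD3_4, cAQ3_4, cA168_4, cC7_4, cL3_4, cA21_4, cAQ_4, cAD_4, cA294_4, cC2_4, cC3_4]; norm_num
  · rw [cA98_6, cAGL_6, cAD3_6, cAQ3_6, cA168_6, cC7_6, cL3_6, cA21_6, cAQ_6, cAD_6, cA294_6, cC2_6, cC3_6]; norm_num
  · rw [cA98_7, cAGL_7, cAD3_7, cAQ3_7, cA168_7, cC7_7, cL3_7, cA21_7, cAQ_7, cAD_7, cA294_7, cC2_7, cC3_7]; norm_num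
  · rw [cA98_12, cAGL_12, cAD3_12, cAQ3_12, cA168_12, cC7_12, cL3_12, cA21_12, cAQ_12, cAD_12, cA294_12, cC2_12, cC3_12]; norm_num
  · rw [cA98_14, cAGL_14, cAD3_14, cAQ3_14, cA168_14, cC7_14, cL3_14, cA21_14, cAQ_14, cAD_14, cA294_14, cC2_14, cC3_14]; norm_num
  · rw [cA98_21, cAGL_21, cAD3_21, cAQ3_21, cA168_21, cC7_21, cL3_21, cA21_21, cAQ_21, cAD_21, cA294_21, cC2_21, cC3_21]; norm_num
  · rw [cA98_28, cAGL_28, cAD3_28, cAQ3_28, cA168_28, cC7_28, cL3_28, cA21_28, cAQ_28, cAD_28, cA294_28, cC2_28, cC3_28]; norm_num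
  · rw [cA98_42, cAGL_42, cAD3_42, cAQ3_42, cA168_42, cC7_42, cL3_42, cA21_42, cAQ_42, cAD_42, cA294_42, cC2_42, cC3_42]; norm_num
  · rw [cA98_84, cAGL_84, cAD3_84, cAQ3_84, cA168_84, cC7_84, cL3_84, cA21_84, cAQ_84, cAD_84, cA294_84, cC2_84, cC3_84]; norm_num

theorem keyn (n : ℕ) (_ : 0 < n) : F GG n = F HH n := by
  rw [F_gcd expG, F_gcd expH]
  exact key _ (Nat.gcd_dvd_right _ _)

theorem pa_solv : Group.IsSolvable Pa := by
  haveI : Fact (Nat.Prime 2) := ⟨Nat.prime_two⟩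
  haveI : Group.IsNilpotent Pa := IsPGroup.isNilpotent (p := 2) (IsPGroup.of_card (n := 4) (by rw [Nat.card_eq_fintype_card]; decide +kernel))
  infer_instance

theorem da_solv : Group.IsSolvable Da := by
  haveI : Fact (Nat.Prime 2) := ⟨Nat.prime_two⟩
  haveI : Group.IsNilpotent Da := IsPGroup.isNilpotent (p := 2) (IsPGroup.of_card (n := 3) (by rw [Nat.card_eq_fintype_card]; decide +kernel))
  infer_instance

instance fSD {V T : Type} [AddCommGroup V] [Group T] [Finite V] [Finite T] (A : Act V T) : Finite (SD A) :=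
  Finite.of_equiv (V × T) (SD.eqv A).symm

theorem finG : Finite GG := by
  haveI : Finite C7 := inferInstanceAs (Finite (ZMod 7))
  haveI : Finite C3 := inferInstanceAs (Finite (ZMod 3))
  haveI : Finite C2 := inferInstanceAs (Finite (ZMod 2))
  haveI : Finite (SD A98) := fSD _
  haveI : Finite (SD AGL) := fSD _
  haveI : Finite (SD AD3) := fSD _
  haveI : Finite (SD AQ3) := fSD _
  haveI : Finite (SD A168) := fSD _
  unfold GG
  infer_instance

theorem finH : Finite HH := by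
  haveI : Finite C7 := inferInstanceAs (Finite (ZMod 7))
  haveI : Finite C6 := inferInstanceAs (Finite (ZMod 6))
  haveI : Finite C3 := inferInstanceAs (Finite (ZMod 3))
  haveI : Finite C2 := inferInstanceAs (Finite (ZMod 2))
  haveI : Finite L3 := inferInstance
  haveI : Finite (SD A21) := fSD _
  haveI : Finite (SD AQ) := fSD _
  haveI : Finite (SD AD) := fSD _
  haveI : Finite (SD A294) := fSD _
  unfold HH
  infer_instance

theorem solvG : Group.IsSolvable GG := by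
  haveI := pa_solv
  haveI := da_solv
  haveI : Group.IsSolvable (SD A98) := SD.isSolvable A98
  haveI : Group.IsSolvable (SD A21) := SD.isSolvable A21
  haveI : Group.IsSolvable (SD AGL) := SD.isSolvable AGL
  haveI : Group.IsSolvable (SD AD3) := SD.isSolvable AD3
  haveI : Group.IsSolvable (SD AQ3) := SD.isSolvable AQ3
  haveI : Group.IsSolvable (SD A168) := SD.isSolvable A168
  infer_instance

theorem nsolvH : ¬ Group.IsSolvable HH := by
  intro h
  apply L3_not_solvable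
  let f : HH →* L3 := { toFun := fun x => x.1.1, map_one' := rfl, map_mul' := fun _ _ => rfl }
  have hf : Function.Surjective f := fun x => ⟨((x, 1), 1), rfl⟩
  exact Group.isSolvable_of_surjective hf


/-- There are finite groups G and H having the same number of elements of each order (the same order type) with G solvable and H not solvable. -/
theorem result :
    ∃ (G : Type) (_ : Group G) (_ : Finite G) (H : Type) (_ : Group H) (_ : Finite H),
      Group.IsSolvable G ∧ ¬ Group.IsSolvable H ∧ ∀ n : ℕ, Nat.card {g : G // orderOf g = n} = Nat.card {h : H // orderOf h = n} := by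
  haveI := finG
  haveI := finH
  exact ⟨GG, inferInstance, inferInstance, HH, inferInstance, inferInstance, solvG, nsolvH, order_eq keyn⟩

end Cfsg.Agent.S4376
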