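import Cfsg.Statements.S5166
import Cfsg.Agent.Lib.GolaySyl
import Cfsg.Agent.Lib.GolayDod
import Cfsg.Agent.Lib.FusionFromPerm

set_option autoImplicit false
open Cfsg

open scoped Pointwise
set_option linter.style.haveILetI false
namespace Cfsg.Agent.S5166

section
open Cfsg CfsgLib.Golay
open scoped Pointwise
def memB (P : ℕ) : Bool := and (Nat.beq (img P 0) 0) (Nat.beq (act P 0x5335f) 0x5335f)
theorem sqD : Spor.squareDodecad = toFS 0x5335f := by
  rw [Spor.squareDodecad, support₂_qrWord]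
  rfl
theorem mem_iff {P : ℕ} {g : Equiv.Perm GolayPt} (hg : g ∈ M24) (hP : Packs P g) : g ∈ Spor.M11 ↔ memB P = true := by
  have h0 : (some 0 : GolayPt) = pt 0 := by decide
  have e : g ∈ Spor.M11 ↔ g ∈ M24 ∧ g • Spor.squareDodecad = Spor.squareDodecad ∧ g (some 0) = some 0 := by
    constructor
    · rintro ⟨⟨a, b⟩, c⟩; exact ⟨a, b, c⟩
    · rintro ⟨a, b, c⟩; exact ⟨⟨a, b⟩, c⟩
  rw [e, sqD, smul_toFS_iff hP (by norm_num) (by norm_num), memB, Bool.and_eq_true, Nat.beq_eq, Nat.beq_eq, h0]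
  constructor
  · rintro ⟨-, h1, h2⟩
    refine ⟨?_, h1⟩
    have h3 := hP (pt 0)
    rw [h2, idx_pt (by norm_num)] at h3
    exact h3.symm
  · rintro ⟨h1, h2⟩
    exact ⟨hg, h2, hP.apply (by norm_num) h1⟩
def pc : List (ℕ × List ℕ × List (List ℕ) × List ℕ) := [(0xb5eb3a2170795a38a8d23a5c261020, [], [], [0xb5eb3a2170795a38a8d23a5c261020]), (0xb5eab8a261539a9a3d9238ca430a00, [], [[0]], [0xb5eab8a261539a9a3d9238ca430a00, 0xbdab15ca81515a69bc683b1c249200]), (0x2b8f4991617d9ac8a8c2aa6f21a200, [], [[1, 0], [1]], [0x2b8f4991617d9ac8a8c2aa6f21a200, 0x714f3a0a217dda35a924a9ac864a00, 0x2b8eb8929055da99bc62ab2c834820, 0x714f158a70559a6a3d84a8ef24a020]), (0x5c5ee2a6f0acda2b1d0654a8c20c20, [2], [[1], [0], [2]], [0x5c5ee2a6f0acda2b1d0654a8c20c20, 0x8ade571ad0ad1a4b9e495226313020, 0xa4d4e2b2c1ac5a2b9e437a16921a00, 0x9d14570ee1aada4b1d0c7ca2612600, 0x8adf6b98a13cda8754495128c90e00, 0x5c5f7b25c13d1b22d48650a6343200, 0x9d157b0cb03c5b27544c7916941820, 0xa4d56bb1d03ada82d48378a2692420])]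
def Z : ℕ := 0xb5eb3a2170795a38a8d23a5c261020
def sc : List (ℕ × ℕ × List ℕ) := [(0xb5eab8a261539a9a3d9238ca430a00, 0xb5cea78e8d2c4895d50674a7060440, [0]), (0x2b8f4991617d9ac8a8c2aa6f21a200, 0x8ad45ba6cca55a874e46790e114060, [1]), (0x5c5ee2a6f0acda2b1d0654a8c20c20, 0xa4d57b21707b82c8d492388a9199a0, [2, 1, 0])]
def nb : List (ℕ × List (List ℕ)) := [(1, [[]]), (2, [[]]), (4, [[2], []]), (13, [[]])]
theorem pcOk : pcB [] [idP] pc = true := by decide +kernel
theorem scOk : scB memB [Z] sc = true := by decide +kernel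
theorem scG_eq : scG [Z] sc = pcG [] pc := by decide +kernel
theorem cenOk : cenB (pcL [idP] pc) (pcG [] pc) Z = true := by decide +kernel
theorem normOk : normB (pcL [idP] pc) 0x5335f [0] nb = true := by decide +kernel
theorem memOk : ((pcG [] pc).all fun P => and (good P) (memB P)) = true := by decide +kernel
theorem lenOk : pc.length = 4 := by decide +kernel

theorem cardG : Nat.card Spor.M11 = 7920 := by
  have e : Spor.M11 = PSd Spor.squareDodecad [pt 0] := by
    have h0 : (some 0 : GolayPt) = pt 0 := by decide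
    ext g
    rw [mem_PSd]
    constructor
    · rintro ⟨⟨a, b⟩, c⟩
      refine ⟨a, b, fun p hp => ?_⟩
      rw [List.mem_singleton] at hp
      rw [hp, ← h0]; exact c
    · rintro ⟨a, b, c⟩
      exact ⟨⟨a, b⟩, by show g (some 0) = some 0; rw [h0]; exact c _ (List.mem_singleton_self _)⟩
  rw [e]
  apply card_PSd_one Cfsg.Agent.S5522.sqD
  rw [sqD, mem_toFS]; decide
theorem PSd_five {l : List GolayPt} (hl : l.Nodup) (hD : ∀ p ∈ l, p ∈ Spor.squareDodecad) (h5 : l.length = 5) :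
    PSd Spor.squareDodecad l = ⊥ := by
  have hcard := card_PSd Cfsg.Agent.S5522.sqD hl hD h5.le
  rw [h5] at hcard
  have h : Nat.descFactorial 12 5 = 95040 := by norm_num [Nat.descFactorial]
  rw [h] at hcard
  exact Subgroup.card_eq_one.mp (by omega)
theorem pcS : PC (pcG [] pc) (pcL [idP] pc) 4 := by
  have h := pc_spec pc [] [idP] 0 PC.nil pcOk
  rw [lenOk] at h
  exact h
def S0 : Subgroup (Equiv.Perm GolayPt) := cl (pcG [] pc)
theorem S0_le : S0 ≤ Spor.M11 := by
  rw [S0, cl, Subgroup.closure_le]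
  rintro x ⟨P, hP, hx⟩
  have h := List.all_eq_true.mp memOk P hP
  rw [Bool.and_eq_true] at h
  obtain ⟨y, hy, hyP⟩ := exists_of_good h.1
  rw [hx.eq hyP]
  exact (mem_iff hy hyP).mpr h.2
theorem fac {a n m : ℕ} (h : a = 2 ^ n * m) (hm : ¬ 2 ∣ m) : a.factorization 2 = n := by
  have h0 : m ≠ 0 := by rintro rfl; simp at hm
  rw [h, Nat.factorization_mul (by positivity) h0, Finsupp.add_apply, Nat.Prime.factorization_pow Nat.prime_two,
    Finsupp.single_eq_same, Nat.factorization_eq_zero_of_not_dvd hm, add_zero]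
theorem norm0 : ∀ g ∈ Spor.M11, (∀ x, x ∈ S0 ↔ g * x * g⁻¹ ∈ S0) → g ∈ S0 := by
  intro g hg hgn
  have hinv : ∀ k ∈ Spor.M11, ∀ q, (0x5335f : ℕ).testBit (idx (k q)) = (0x5335f : ℕ).testBit (idx q) := by
    intro k hk q
    have hkD : k • Spor.squareDodecad = Spor.squareDodecad := hk.1.2
    rw [Bool.eq_iff_iff, ← mem_toFS, ← mem_toFS, ← sqD]
    conv_lhs => rw [← hkD]
    exact mem_smul_iff
  have h0 : (some 0 : GolayPt) = pt 0 := by decide
  have hfix0 : ∀ k ∈ Spor.M11, k (pt 0) = pt 0 := by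
    intro k hk; rw [← h0]; exact hk.2
  obtain ⟨s, hs, h1, h2⟩ := norm_spec (S0 := S0) pcS.enum pcS.all (INV := 0x5335f) (fun s hs q => hinv s (S0_le hs) q) nb [0]
    (by simp) normOk g hgn (by intro i hi; rw [List.mem_singleton] at hi; rw [hi]; exact hfix0 g hg) (hinv g hg)
  have hsg : s * g ∈ Spor.M11 := mul_mem (S0_le hs) hg
  have hbot := PSd_five (l := [pt 0, pt 1, pt 2, pt 4, pt 13]) (by decide)
    (by intro p hp; rw [sqD, mem_toFS]; simp only [List.mem_cons, List.not_mem_nil, or_false] at hp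
        rcases hp with rfl | rfl | rfl | rfl | rfl <;> decide) rfl
  have hmem : s * g ∈ PSd Spor.squareDodecad [pt 0, pt 1, pt 2, pt 4, pt 13] := by
    rw [mem_PSd]
    refine ⟨hsg.1.1, hsg.1.2, ?_⟩
    intro p hp
    simp only [List.mem_cons, List.not_mem_nil, or_false] at hp
    rcases hp with rfl | rfl | rfl | rfl | rfl
    · exact h1 0 (List.mem_singleton_self _)
    · exact h2 (nb.getD 0 (0, [])) (by decide)
    · exact h2 (nb.getD 1 (0, [])) (by decide)
    · exact h2 (nb.getD 2 (0, [])) (by decide)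
    · exact h2 (nb.getD 3 (0, [])) (by decide)
  rw [hbot, Subgroup.mem_bot] at hmem
  have e : g = s⁻¹ := by rw [eq_comm, inv_eq_iff_mul_eq_one]; exact hmem
  rw [e]; exact inv_mem hs
theorem sc0 : ∀ T : Subgroup (Equiv.Perm GolayPt), T ≤ S0 → T ≠ ⊥ →
    (∀ x ∈ T, ∀ k ∈ Spor.M11, k * x * k⁻¹ ∈ S0 → k * x * k⁻¹ ∈ T) → T = S0 := by
  intro T hT hT1 hTc
  apply le_antisymm hT
  have hex := pcS.ex
  have hz : ∀ a, Packs Z a → a ∈ T := z_mem pcS cenOk hT hT1 (by
    intro x hx k hk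
    exact hTc x hx k (S0_le hk) (mul_mem (mul_mem hk (hT hx)) (inv_mem hk)))
  have h := sc_spec (G := Spor.M11) (S0 := S0) (T := T) (memB := memB) (fun P h h1 h2 h3 => (mem_iff h1 h2).mpr h3) hTc sc [Z] (by
      intro P hP
      exact hex P (by rw [← scG_eq]; exact scG_mem sc [Z] P hP)) scOk (by
      intro P hP
      rw [scG_eq] at hP
      obtain ⟨x, hx⟩ := hex P hP
      exact ⟨x, mem_cl_of hP hx, hx⟩) (by
      rw [cl, Subgroup.closure_le]
      rintro x ⟨P, hP, hx⟩
      rw [List.mem_singleton] at hP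
      subst hP
      exact hz x hx)
  rw [scG_eq] at h
  exact h
end


/-- The 2-fusion system of the Mathieu group M₁₁ (as the explicit permutation group carved out of the automorphism group of the binary Golay code) on a Sylow 2-subgroup is simple: saturated, over a nontrivial 2-group, with no normal subsystem other than the trivial one and itself. -/
theorem result (S : Sylow 2 Cfsg.Spor.M11) : (Cfsg.groupFusionSystem (S : Subgroup Cfsg.Spor.M11)).IsSimple 2 := by
  haveI : Fact (Nat.Prime 2) := ⟨Nat.prime_two⟩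
  exact CfsgLib.Fusion.simple_fusion S0_le (n := 4) (by norm_num) pcS.card
    (fac (m := 495) (by rw [cardG]; norm_num) (by norm_num)) norm0 sc0 S

end Cfsg.Agent.S5166
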