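import Cfsg.Statements.S5167
import Cfsg.Agent.Lib.GolaySyl
import Cfsg.Agent.Lib.GolayDod
import Cfsg.Agent.Lib.FusionFromPerm

set_option autoImplicit false
open Cfsg

open scoped Pointwise
set_option linter.style.haveILetI false
namespace Cfsg.Agent.S5167

section
open Cfsg CfsgLib.Golay
open scoped Pointwise
def memB (P : ℕ) : Bool := Nat.beq (act P 0x5335f) 0x5335f
theorem sqD : Spor.squareDodecad = toFS 0x5335f := by
  rw [Spor.squareDodecad, support₂_qrWord]
  rfl
theorem mem_iff {P : ℕ} {g : Equiv.Perm GolayPt} (hg : g ∈ M24) (hP : Packs P g) : g ∈ Spor.M12 ↔ memB P = true := by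
  have e : g ∈ Spor.M12 ↔ g ∈ M24 ∧ g • Spor.squareDodecad = Spor.squareDodecad := Iff.rfl
  rw [e, sqD, smul_toFS_iff hP (by norm_num) (by norm_num), memB, Nat.beq_eq]
  exact ⟨fun h => h.2, fun h => ⟨hg, h⟩⟩
def pc : List (ℕ × List ℕ × List (List ℕ) × List ℕ) := [(0xabef47196db4e018a9283c8a400983, [], [], [0xabef47196db4e018a9283c8a400983]), (0xadae774a2d7ce0c59444a194802423, [], [[0]], [0xadae774a2d7ce0c59444a194802423, 0xbbea799970b39a189444a49481a580]), (0x75a67ac9637dc018a924a18a88098d, [], [[0], [1]], [0x75a67ac9637dc018a924a18a88098d, 0x9bdc7b9a20b546c5a924a48a868830, 0x9d9d4bc9607d46189448399446a590, 0x73e74a9a23b5c0c594483c9448242d]), (0xbaea7731f08cdb2b2848a04a4024c3, [], [[2, 0], [1], [2]], [0xbaea7731f08cdb2b2848a04a4024c3, 0xac6e7986cd5ba067a848a30a41a640, 0xaaef49b1ed8ba12b152438548188c0, 0xbc6b4706d05cda6795243b14800a43, 0x74674b85e35d412b28443b0a86a4d0, 0x9add4ab2c08dc667a844384a88264d, 0x9c5c7a85e05dc72b1528a3144808cd, 0x72e67bb2c38d40679528a054468a50]),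 (0xadaea999707b9ac8d0822c8e902023, [], [[3, 2, 0], [2, 1], [2], [3]], [0xadaea999707b9ac8d0822c8e902023, 0xbbeaa74a2db4e015d082298e91a180, 0xbdaa57196d7ce0c89d0954a8219020, 0xabee59ca30b39a159d0951a8201183, 0x9d9caa9a237dc0159d022ca8969190, 0x73e6abc960b546c89d0229a898102d, 0x75a65b9a207d4615d089548e28218d, 0x9bdc5ac963b5c0c8d089518e26a030, 0xaaeea706d08cdb279c892b2821a0c0, 0xbc6aa9b1ed5ba06b1c892868202243, 0xbaea5986cd8ba127d102530e9010c3, 0xac6e5731f05cda6b5102504e919240, 0x9c5cabb2c35d4127d109284e2810cd, 0x72e6aa85e08dc66b51092b0e269250, 0x74665ab2c05dc7279c82506896a0d0, 0x9adc5b85e38d406b1c82532898224d]), (0x5ce27b0ea173d8db9509a014291206, [], [[0], [4, 2], [4, 1], [4, 3], [4]], [0x5ce27b0ea173d8db9509a014291206, 0x8b967782ec9d830a9509a0d42311b2, 0x5ba34b02e19bd90aa88238ca9921a6, 0x8cd7478eac7582dba882380a932212, 0x8d574b426cbbc20714893b54292066, 0x5de347b5c1ad983994893c14232012, 0x8dd67b35ccabc239a902a40a991006, 0x5d6277c261bd98072902a34a931072,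 0xb39f4582a69c64db950238d4961201, 0x7ced488ef272cd0a950238149091ac, 0xb4de758ee674650aa889a00a2621a1, 0x7bac7882b29accdba889a0ca20a20c, 0xb5de78b666aae4071482a41490a06c, 0x7d6c75c1d2bc4c399482a354962001, 0xb55f48c1c6bae439a9093b4a20900c, 0x7ded45b672ac4c0729093c0a261061, 0x8cd65b02e173d8da9c4450e8832612, 0x5ba2578eac9d830b9c4450288925a6, 0x8b96ab0ea19bd90bd128280e4309b2, 0x5ce2a782ec7582dad12828ce490a06, 0x5d625b35ccbbc209d048540e432472, 0x8dd657c261ad98375048534e492406, 0x5de2ab426cabc2371d242b68830812, 0x8d56a7b5c1bd98099d242c28890866, 0x7bac558ee69c64dad124500e808a0c, 0xb4de5882b272cd0bd12450ce8609a1, 0x7ceca582a674650b9c4828e840a5ac, 0xb39ea88ef29accda9c482828462601, 0x7dec58c1c6aae4099d285368460861, 0xb55e55b672bc4c371d28542840880c, 0x7d6ca8b666bae43750442c0e862401, 0xb5dea5c1d2ac4c09d0442b4e80a46c])]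
def Z : ℕ := 0xabef47196db4e018a9283c8a400983
def sc : List (ℕ × ℕ × List ℕ) := [(0xadae774a2d7ce0c59444a194802423, 0xb96b6a0e6251d2473e4c8816668510, [0]), (0x75a67ac9637dc018a924a18a88098d, 0x74ef658688ac4833aa462b1e900a0d, [1]), (0xbaea7731f08cdb2b2848a04a4024c3, 0x5baca780e69c422a560428ee89352c, [2]), (0xadaea999707b9ac8d0822c8e902023, 0x3a8afa8e26a5e425b82c982cd24109, [3]), (0x5ce27b0ea173d8db9509a014291206, 0x2d8f1506647d130754725b2e6101a8, [2, 1, 0])]
def nb : List (ℕ × List (List ℕ)) := [(0, [[]]), (1, [[], [0]]), (3, [[0]]), (6, [[1]]), (12, [[1]])]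
theorem pcOk : pcB [] [idP] pc = true := by decide +kernel
theorem scOk : scB memB [Z] sc = true := by decide +kernel
theorem scG_eq : scG [Z] sc = pcG [] pc := by decide +kernel
theorem cenOk : cenB (pcL [idP] pc) (pcG [] pc) Z = true := by decide +kernel
theorem normOk : normB (pcL [idP] pc) 0x5335f [] nb = true := by decide +kernel
theorem memOk : ((pcG [] pc).all fun P => and (good P) (memB P)) = true := by decide +kernel
theorem lenOk : pc.length = 6 := by decide +kernel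

theorem cardG : Nat.card Spor.M12 = 95040 := by
  have e : Spor.M12 = PSd Spor.squareDodecad [] := by
    ext g
    rw [mem_PSd]
    constructor
    · rintro ⟨a, b⟩
      exact ⟨a, b, by simp⟩
    · rintro ⟨a, b, c⟩
      exact ⟨a, b⟩
  rw [e]
  exact card_PSd_nil Cfsg.Agent.S5522.sqD
theorem PSd_five {l : List GolayPt} (hl : l.Nodup) (hD : ∀ p ∈ l, p ∈ Spor.squareDodecad) (h5 : l.length = 5) :
    PSd Spor.squareDodecad l = ⊥ := by
  have hcard := card_PSd Cfsg.Agent.S5522.sqD hl hD h5.le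
  rw [h5] at hcard
  have h : Nat.descFactorial 12 5 = 95040 := by norm_num [Nat.descFactorial]
  rw [h] at hcard
  exact Subgroup.card_eq_one.mp (by omega)
theorem pcS : PC (pcG [] pc) (pcL [idP] pc) 6 := by
  have h := pc_spec pc [] [idP] 0 PC.nil pcOk
  rw [lenOk] at h
  exact h
def S0 : Subgroup (Equiv.Perm GolayPt) := cl (pcG [] pc)
theorem S0_le : S0 ≤ Spor.M12 := by
  rw [S0, cl, Subgroup.closure_le]
  rintro x ⟨P, hP, hx⟩
  have h := List.all_eq_true.mp memOk P hP
  rw [Bool.and_eq_true] at h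
  obtain ⟨y, hy, hyP⟩ := exists_of_good h.1
  rw [hx.eq hyP]
  exact (mem_iff hy hyP).mpr h.2
theorem fac {a n m : ℕ} (h : a = 2 ^ n * m) (hm : ¬ 2 ∣ m) : a.factorization 2 = n := by
  have h0 : m ≠ 0 := by rintro rfl; simp at hm
  rw [h, Nat.factorization_mul (by positivity) h0, Finsupp.add_apply, Nat.Prime.factorization_pow Nat.prime_two,
    Finsupp.single_eq_same, Nat.factorization_eq_zero_of_not_dvd hm, add_zero]
theorem norm0 : ∀ g ∈ Spor.M12, (∀ x, x ∈ S0 ↔ g * x * g⁻¹ ∈ S0) → g ∈ S0 := by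
  intro g hg hgn
  have hinv : ∀ k ∈ Spor.M12, ∀ q, (0x5335f : ℕ).testBit (idx (k q)) = (0x5335f : ℕ).testBit (idx q) := by
    intro k hk q
    have hkD : k • Spor.squareDodecad = Spor.squareDodecad := hk.2
    rw [Bool.eq_iff_iff, ← mem_toFS, ← mem_toFS, ← sqD]
    conv_lhs => rw [← hkD]
    exact mem_smul_iff
  obtain ⟨s, hs, -, h2⟩ := norm_spec (S0 := S0) pcS.enum pcS.all (INV := 0x5335f) (fun s hs q => hinv s (S0_le hs) q) nb []
    (by simp) normOk g hgn (by simp) (hinv g hg)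
  have hsg : s * g ∈ Spor.M12 := mul_mem (S0_le hs) hg
  have hbot := PSd_five (l := [pt 0, pt 1, pt 3, pt 6, pt 12]) (by decide)
    (by intro p hp; rw [sqD, mem_toFS]; simp only [List.mem_cons, List.not_mem_nil, or_false] at hp
        rcases hp with rfl | rfl | rfl | rfl | rfl <;> decide) rfl
  have hmem : s * g ∈ PSd Spor.squareDodecad [pt 0, pt 1, pt 3, pt 6, pt 12] := by
    rw [mem_PSd]
    refine ⟨hsg.1, hsg.2, ?_⟩
    intro p hp
    simp only [List.mem_cons, List.not_mem_nil, or_false] at hp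
    rcases hp with rfl | rfl | rfl | rfl | rfl
    · exact h2 (nb.getD 0 (0, [])) (by decide)
    · exact h2 (nb.getD 1 (0, [])) (by decide)
    · exact h2 (nb.getD 2 (0, [])) (by decide)
    · exact h2 (nb.getD 3 (0, [])) (by decide)
    · exact h2 (nb.getD 4 (0, [])) (by decide)
  rw [hbot, Subgroup.mem_bot] at hmem
  have e : g = s⁻¹ := by rw [eq_comm, inv_eq_iff_mul_eq_one]; exact hmem
  rw [e]; exact inv_mem hs
theorem sc0 : ∀ T : Subgroup (Equiv.Perm GolayPt), T ≤ S0 → T ≠ ⊥ →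
    (∀ x ∈ T, ∀ k ∈ Spor.M12, k * x * k⁻¹ ∈ S0 → k * x * k⁻¹ ∈ T) → T = S0 := by
  intro T hT hT1 hTc
  apply le_antisymm hT
  have hex := pcS.ex
  have hz : ∀ a, Packs Z a → a ∈ T := z_mem pcS cenOk hT hT1 (by
    intro x hx k hk
    exact hTc x hx k (S0_le hk) (mul_mem (mul_mem hk (hT hx)) (inv_mem hk)))
  have h := sc_spec (G := Spor.M12) (S0 := S0) (T := T) (memB := memB) (fun P h h1 h2 h3 => (mem_iff h1 h2).mpr h3) hTc sc [Z] (by
      intro P hP
      exact hex P (by rw [← scG_eq]; exact scG_mem sc [Z] P hP)) scOk (by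
      intro P hP
      rw [scG_eq] at hP
      obtain ⟨x, hx⟩ := hex P hP
      exact ⟨x, mem_cl_of hP hx, hx⟩) (by
      rw [cl, Subgroup.closure_le]
      rintro x ⟨P, hP, hx⟩
      rw [List.mem_singleton] at hP
      subst hP
      exact hz x hx)
  rw [scG_eq] at h
  exact h
end


/-- The 2-fusion system of the Mathieu group M₁₂ (as the explicit permutation group carved out of the automorphism group of the binary Golay code) on a Sylow 2-subgroup is simple: saturated, over a nontrivial 2-group, with no normal subsystem other than the trivial one and itself. -/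
theorem result (S : Sylow 2 Cfsg.Spor.M12) : (Cfsg.groupFusionSystem (S : Subgroup Cfsg.Spor.M12)).IsSimple 2 := by
  haveI : Fact (Nat.Prime 2) := ⟨Nat.prime_two⟩
  exact CfsgLib.Fusion.simple_fusion S0_le (n := 6) (by norm_num) pcS.card
    (fac (m := 1485) (by rw [cardG]; norm_num) (by norm_num)) norm0 sc0 S

end Cfsg.Agent.S5167
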