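import Cfsg.Statements.S5169
import Cfsg.Agent.Lib.GolaySyl
import Cfsg.Agent.Lib.GolayM
import Cfsg.Agent.Lib.FusionFromPerm

set_option autoImplicit false
open Cfsg

set_option linter.style.haveILetI false
namespace Cfsg.Agent.S5169

section
open Cfsg CfsgLib.Golay
open scoped Pointwise
def memB (P : ℕ) : Bool := Nat.beq (img P 23) 23
theorem mem_iff {P : ℕ} {g : Equiv.Perm GolayPt} (hg : g ∈ M24) (hP : Packs P g) : g ∈ Spor.M23 ↔ memB P = true := by
  have h0 : (none : GolayPt) = pt 23 := by decide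
  have e : g ∈ Spor.M23 ↔ g ∈ M24 ∧ g none = none := Iff.rfl
  rw [e, memB, Nat.beq_eq, h0]
  constructor
  · rintro ⟨-, h2⟩
    have h3 := hP (pt 23)
    rw [h2, idx_pt (by norm_num)] at h3
    exact h3.symm
  · intro h1
    exact ⟨hg, hP.apply (by norm_num) h1⟩
def pc : List (ℕ × List ℕ × List (List ℕ) × List ℕ) := [(0xbd8ad24a3013a8c52c660a2b34bce0, [], [], [0xbd8ad24a3013a8c52c660a2b34bce0]), (0xbc8a715a112382c5a926a22af1cda0, [], [[0]], [0xbc8a715a112382c5a926a22af1cda0, 0xbcaa17da119b8ec52c68698a249280]), (0xbd8c77ca309b82c1a545a5502591a0, [], [[0], [1]], [0xbd8c77ca309b82c1a545a5502591a0, 0xbd90114a30238ec48d75694cf54e80, 0xbc91425a11139ac1a555394d35bc20, 0xbc8cd9da117ba8c48d650d504508e0]), (0xbd8832ca304392c385af58a75a1940, [], [[0], [1, 0], [2]], [0xbd8832ca304392c385af58a75a1940, 0xbda69aca303386c09e8253c856a160, 0xbc9e3ada113392ca34245cc453a140, 0xbc8492da114386c6d0f3511f509960, 0xbd84b44a302b94ca3433191e63d520, 0xbd9ea34a30ab96c6d0e44cc4809460,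 0xbca6b35a11ab94c385a21bc88a1520, 0xbc88a45a112b96c09e8f48a666d460]), (0xbd9a51ca305baac78887406899a8c0, [], [[0], [1], [3, 2, 1], [3]], [0xbd9a51ca305baac78887406899a8c0, 0xbda954ca30538ac13e6131da322d00, 0xbc8351da115b8ac24df4334e912900, 0xbc8e54da1153aac9904d450237acc0, 0xbd8285ca301b8cc990542b4ea7a6a0, 0xbd8e654a304b90c24dedad02b10ca0, 0xbc9a65da111b90c13e67a868a224a0, 0xbca8855a114b8cc7888129dab98ea0, 0xbd933a4a303b88c41aab7a86d28440, 0xbd8646ca300ba6c320aa12d34a9de0, 0xbc9223da11a39ec320ab22861ab660, 0xbc86f0da116b84c41aaa9ad272d080, 0xbd94f3ca30a384c2d4c39a56143480, 0xbd9620ca306b9eca950920d4735260, 0xbc944a5a113ba6ca95031256d305e0, 0xbc9736da110b88c2d4c978d5441c40]), (0xbc6a7242d21382c48d68a18b353da0, [], [[2, 0], [4, 1], [2], [3], [4]], [0xbc6a7242d21382c48d68a18b353da0, 0xbc4a19c2d27b8ec1a5466a2a458a80, 0xbc0b47c6569b9ac48d663a2a251020, 0xbc2ad1465623a8c1a548098af5cce0, 0xbc4d4142d2239ac52c653d50f4cc20, 0xbc50d7c2d29ba8c5a935094c2190e0,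 0xbc1079c6567b82c52c75a14c4489a0, 0xbc0c124656138ec5a9256d5131be80, 0xbc48bac2d23394c6d0ef18a650a120, 0xbc66a2c2d24396ca34224bc9539860, 0xbc1eb2c6564394c09e841cc5569920, 0xbc04aac6563396c385b3491e5a2060, 0xbc443342d2ab92c09e93591e869540, 0xbc5e9442d22b86c385a454c46a5560, 0xbc263446562b92c6d0e25bc860d540, 0xbc08934656ab86ca342f50a6839560, 0xbc5a84c2d2538cc24de72868312ea0, 0xbc6861c2d25b90c99041a9da97a8a0, 0xbc0264c6565390c78894ab4e39aca0, 0xbc0e81c6565b8cc13e6d2d02922aa0, 0xbc425542d24baac13e74434eb20cc0, 0xbc4f55c2d21b8ac7888d3502a9a500, 0xbc1b5546564b8ac990473068b78d00, 0xbc2855c6561baac24de141daa124c0, 0xbc52f6c2d20b84ca950b9a87431c80, 0xbc462a42d23b9ec2d4ca22d2d40660, 0xbc1240c6566ba6c2d4cb12867451e0, 0xbc0733c656a388ca950a7ad2133440, 0xbc5530c2d26b88c320a37a567ad040, 0xbc5643c2d2a3a6c41aa910d412b5e0, 0xbc1426c6560b9ec41aa32257429e60, 0xbc16fa46563b84c320a998d4da8480]), (0xbc5f444ad0ab1ae5a87309046494e0, [], [[5, 0], [5, 3,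 2, 1], [5, 2], [5, 3], [5, 4, 3, 0], [5]], [0xbc5f444ad0ab1ae5a87309046494e0, 0xbc44d34ad02b28e52d243cde81d420, 0xbc08735a512b02e5a8626be684d680, 0xbc26145a51ab0ee52d2fa0886195a0, 0xbc6672cad03302e1a56f6889552280, 0xbc481acad0430ee48d42a3e65599a0, 0xbc054ada51431ae1a5640cde5518e0, 0xbc1ed2da513328e48d53390555a020, 0xbc5037cad02312e38685554c26cd60, 0xbc4c914ad09b06e09db55950fa1140, 0xbc0c325a517b12ea34f55151308960, 0xbc1099da511306e6d0255d4c43bd40, 0xbc4ab9cad01314ea34e849aa40bc60, 0xbc6aa24ad07b16e6d0261a0b338920, 0xbc2ab15a519b14e386864a0af69060, 0xbc0aa7da512316e09da819aa2a4d20, 0xbc5653cad06b2ae78a633254125100, 0xbc5550cad0a30ae13c8940d679b4c0, 0xbc175a5a510b0ae24c434254d79cc0, 0xbc1456da513b2ae991e930d7410500, 0xbc468a4ad00b0ce991ebaa92d11ca0, 0xbc5266cad03b10e24c4a2ac74786a0, 0xbc0663da516b10e13c8b2a9219d2a0, 0xbc1280da51a30ce78a6aaac67234a0, 0xbc4f35cad04b08e418b41342aa8de0, 0xbc42454ad01b26e322ad7d0eb2a440, 0xbc2825da514b1ee322a7985aa28c80,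 0xbc1af55a511b04e418a121e8baa660, 0xbc68f1cad05304e2d507205a932e60, 0xbc5a24cad05b1eea94c199e8342880, 0xbc0e41da515326ea94d47b42942c40, 0xbc0334da515b08e2d50d150e3329e0, 0xbd84744232ab02e48d446cde659680, 0xbd9e1342322b0ee1a573a1048555a0, 0xbca74346162b1ae48d4f088885d4e0, 0xbc88d44616ab28e1a5623be6651420, 0xbd8942c232331ae52d220be751a0e0, 0xbda6dac2324328e5a86f3888549820, 0xbc9e7ac6164302e52d336904519a80, 0xbc8412c616330ee5a864a4df54a1a0, 0xbd8cb7c2322314e6d035495023cc60, 0xbd90a142329b16ea34e51d4cf09120, 0xbc90b246167b14e09da54d4d3a0860, 0xbc8ca9c6161316e38695195046bd20, 0xbdaa39c2321312e09da6520a4a3d60, 0xbd8a9242327b06e3868859ab368940, 0xbc8a3146169b12e6d02851aaf39160, 0xbcaa97c6162306ea34e65a0a20cd40, 0xbd9483c2326b0ce24c49a8d617d0a0, 0xbd9660c232a310e991e32a547136a0, 0xbc946a46160b10e78a6928d6d21ea0, 0xbc9686c6163b0ce13c83aa554984a0, 0xbd925a42320b2ae13c8a32c6d99d00, 0xbd8756c2323b0ae78a6b42934204c0, 0xbc9353c6166b0ae991ea42c61150c0,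 0xbc8650c616a32ae24c4b329277b500, 0xbd82f5c2324b04ea94cd250ea40e60, 0xbd8e2542321b1ee2d5149b42b32480, 0xbc9a45c6164b26e2d50179e8a30c40, 0xbca93546161b08ea94c7105ab425e0, 0xbd9b31c2325308e322a111e892ade0, 0xbda844c2325b26e418a7785a3aa840, 0xbc8221c616531ee418ad9d0e9aac80, 0xbc8ef4c6165b04e322b4234232aa60])]
def Z : ℕ := 0xbd8ad24a3013a8c52c660a2b34bce0
def sc : List (ℕ × ℕ × List ℕ) := [(0xbc8a715a112382c5a926a22af1cda0, 0xbb2966a5cb32a4323e35994e182040, [0]), (0xbd8c77ca309b82c1a545a5502591a0, 0xbb9e3241963c97141541336624d2a0, [1]), (0xbd8832ca304392c385af58a75a1940, 0xbd9545ca2eab07043db311427490c0, [2]), (0xbd9a51ca305baac78887406899a8c0, 0xbc8885c6cc0c0ee98db41152fa9940, [3]), (0xbc6a7242d21382c48d68a18b353da0, 0xbb2846d5c51a266b45e992ce112a00, [4]), (0xbc5f444ad0ab1ae5a87309046494e0, 0xbad2f635548cab02190129c6e9d840, [5])]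
def nb : List (ℕ × List (List ℕ)) := [(0, [[]]), (12, [[]]), (14, [[]]), (16, [[]]), (18, [[16]]), (1, [[]])]
theorem pcOk : pcB [] [idP] pc = true := by decide +kernel
theorem scOk : scB memB [Z] sc = true := by decide +kernel
theorem scG_eq : scG [Z] sc = pcG [] pc := by decide +kernel
theorem cenOk : cenB (pcL [idP] pc) (pcG [] pc) Z = true := by decide +kernel
theorem normOk : normB (pcL [idP] pc) 0 [23] nb = true := by decide +kernel
theorem memOk : ((pcG [] pc).all fun P => and (good P) (memB P)) = true := by decide +kernel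
theorem lenOk : pc.length = 7 := by decide +kernel

theorem cardG : Nat.card Spor.M23 = 10200960 := by
  have e : Spor.M23 = PS [pt 23] := by
    have h0 : (none : GolayPt) = pt 23 := by decide
    ext g
    rw [mem_PS]
    constructor
    · rintro ⟨a, c⟩
      refine ⟨a, fun p hp => ?_⟩
      rw [List.mem_singleton] at hp
      rw [hp, ← h0]; exact c
    · rintro ⟨a, c⟩
      exact ⟨a, by show g none = none; rw [h0]; exact c _ (List.mem_singleton_self _)⟩
  rw [e]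
  exact card_PS_one _

theorem pcS : PC (pcG [] pc) (pcL [idP] pc) 7 := by
  have h := pc_spec pc [] [idP] 0 PC.nil pcOk
  rw [lenOk] at h
  exact h
def S0 : Subgroup (Equiv.Perm GolayPt) := cl (pcG [] pc)
theorem S0_le : S0 ≤ Spor.M23 := by
  rw [S0, cl, Subgroup.closure_le]
  rintro x ⟨P, hP, hx⟩
  have h := List.all_eq_true.mp memOk P hP
  rw [Bool.and_eq_true] at h
  obtain ⟨y, hy, hyP⟩ := exists_of_good h.1
  rw [hx.eq hyP]
  exact (mem_iff hy hyP).mpr h.2
theorem fac {a n m : ℕ} (h : a = 2 ^ n * m) (hm : ¬ 2 ∣ m) : a.factorization 2 = n := by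
  have h0 : m ≠ 0 := by rintro rfl; simp at hm
  rw [h, Nat.factorization_mul (by positivity) h0, Finsupp.add_apply, Nat.Prime.factorization_pow Nat.prime_two,
    Finsupp.single_eq_same, Nat.factorization_eq_zero_of_not_dvd hm, add_zero]
theorem norm0 : ∀ g ∈ Spor.M23, (∀ x, x ∈ S0 ↔ g * x * g⁻¹ ∈ S0) → g ∈ S0 := by
  intro g hg hgn
  have h0 : (none : GolayPt) = pt 23 := by decide
  have hfix0 : ∀ k ∈ Spor.M23, k (pt 23) = pt 23 := by
    intro k hk; rw [← h0]; exact hk.2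
  obtain ⟨s, hs, h1, h2⟩ := norm_spec (S0 := S0) pcS.enum pcS.all (INV := 0) (fun s hs q => by simp) nb [23]
    (by simp) normOk g hgn (by intro i hi; rw [List.mem_singleton] at hi; rw [hi]; exact hfix0 g hg) (fun q => by simp)
  have hsg : s * g ∈ Spor.M23 := mul_mem (S0_le hs) hg
  have ho : toFS 0xc75001 ∈ octads := by
    rw [mem_octads_iff, mask_toFS (by norm_num)]; decide +kernel
  have hbot := PS_frame (x0 := pt 23) (x1 := pt 0) (x2 := pt 12) (x3 := pt 14) (x4 := pt 16) (x5 := pt 18) (x6 := pt 1) ho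
    (by rw [mem_toFS]; decide +kernel) (by rw [mem_toFS]; decide +kernel) (by rw [mem_toFS]; decide +kernel)
    (by rw [mem_toFS]; decide +kernel) (by rw [mem_toFS]; decide +kernel) (by rw [mem_toFS]; decide +kernel) (by decide)
    (by rw [mem_toFS]; decide +kernel)
  have hmem : s * g ∈ PS [pt 1, pt 18, pt 16, pt 14, pt 12, pt 0, pt 23] := by
    rw [mem_PS]
    refine ⟨hsg.1, ?_⟩
    intro p hp
    simp only [List.mem_cons, List.not_mem_nil, or_false] at hp
    rcases hp with rfl | rfl | rfl | rfl | rfl | rfl | rfl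
    · exact h2 (nb.getD 5 (0, [])) (by decide)
    · exact h2 (nb.getD 4 (0, [])) (by decide)
    · exact h2 (nb.getD 3 (0, [])) (by decide)
    · exact h2 (nb.getD 2 (0, [])) (by decide)
    · exact h2 (nb.getD 1 (0, [])) (by decide)
    · exact h2 (nb.getD 0 (0, [])) (by decide)
    · exact h1 23 (List.mem_singleton_self _)
  rw [hbot, Subgroup.mem_bot] at hmem
  have e : g = s⁻¹ := by rw [eq_comm, inv_eq_iff_mul_eq_one]; exact hmem
  rw [e]; exact inv_mem hs
theorem sc0 : ∀ T : Subgroup (Equiv.Perm GolayPt), T ≤ S0 → T ≠ ⊥ →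
    (∀ x ∈ T, ∀ k ∈ Spor.M23, k * x * k⁻¹ ∈ S0 → k * x * k⁻¹ ∈ T) → T = S0 := by
  intro T hT hT1 hTc
  apply le_antisymm hT
  have hex := pcS.ex
  have hz : ∀ a, Packs Z a → a ∈ T := z_mem pcS cenOk hT hT1 (by
    intro x hx k hk
    exact hTc x hx k (S0_le hk) (mul_mem (mul_mem hk (hT hx)) (inv_mem hk)))
  have h := sc_spec (G := Spor.M23) (S0 := S0) (T := T) (memB := memB) (fun P h h1 h2 h3 => (mem_iff h1 h2).mpr h3) hTc sc [Z] (by
      intro P hP
      exact hex P (by rw [← scG_eq]; exact scG_mem sc [Z] P hP)) scOk (by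
      intro P hP
      rw [scG_eq] at hP
      obtain ⟨x, hx⟩ := hex P hP
      exact ⟨x, mem_cl_of hP hx, hx⟩) (by
      rw [cl, Subgroup.closure_le]
      rintro x ⟨P, hP, hx⟩
      rw [List.mem_singleton] at hP
      subst hP
      exact hz x hx)
  rw [scG_eq] at h
  exact h
end


/-- The 2-fusion system of the Mathieu group M₂₃ (as the explicit permutation group carved out of the automorphism group of the binary Golay code) on a Sylow 2-subgroup is simple: saturated, over a nontrivial 2-group, with no normal subsystem other than the trivial one and itself. -/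
theorem result (S : Sylow 2 Cfsg.Spor.M23) : (Cfsg.groupFusionSystem (S : Subgroup Cfsg.Spor.M23)).IsSimple 2 := by
  haveI : Fact (Nat.Prime 2) := ⟨Nat.prime_two⟩
  exact CfsgLib.Fusion.simple_fusion S0_le (n := 7) (by norm_num) pcS.card
    (fac (m := 79695) (by rw [cardG]; norm_num) (by norm_num)) norm0 sc0 S

end Cfsg.Agent.S5169
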