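import Cfsg.Statements.S5193
import Cfsg.Agent.Lib.FusionNil7
-- import your own Cfsg.Agent.* helpers here

set_option autoImplicit false
open Cfsg

namespace Cfsg.Agent.S5193

/-- Glauberman's Theorem for fusion systems. Let F be a saturated fusion system over a finite p-group S, let J(S) be the subgroup generated by the abelian subgroups of S of largest order, and let N be the normalizer fusion system of J(S) in F (a fusion system over N_S(J(S)) = S). Then every p-th power of an element of Z(S) that lies in the centre of N lies in the centre of F; and if p is odd, or if the symmetric group of degree 4 is not involved in any model of the normalizer system of a fully normalized F-centric subgroup (F is S₄-free), then the centre of N equals the centre of F. -/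
theorem result {Ω : Type*} [Group Ω] {S : Subgroup Ω} [Finite S] (p : ℕ) [Fact p.Prime] (hS : IsPGroup p S) (F : Cfsg.FusionSystem S) (hF : F.IsSaturated p) (N : Cfsg.FusionSystem (Cfsg.FusionSystem.normalizerIn S (Cfsg.thompsonSubgroupAOf S))) (hN : F.IsNormalizerSystem (Cfsg.thompsonSubgroupAOf S) N) : Subgroup.closure ((fun z : Ω => z ^ p) '' ((S ⊓ Subgroup.centralizer (S : Set Ω) : Subgroup Ω) : Set Ω)) ⊓ N.center ≤ F.center ∧ (p ≠ 2 ∨ F.IsSectionFree p (Equiv.Perm (Fin 4)) → N.center = F.center) := by
  open Cfsg.FusionSystem CfsgLib.Fusion CfsgLib.SylowIn in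
  have hJS : Cfsg.thompsonSubgroupAOf S ≤ S := wS_le CfsgLib.JA.WJ S
  have hNJ : normalizerIn S (Cfsg.thompsonSubgroupAOf S) = S :=
    normalizerIn_wS (WT2 (p := p) true) hS F
  have hNf : Finite (normalizerIn S (Cfsg.thompsonSubgroupAOf S)) := finite_of_le inf_le_left
  have hN' := CfsgLib.Fusion.eq_normSys (CfsgLib.Fusion.wS_le CfsgLib.JA.WJ S) hN
  subst hN'
  have hZ := isCentral_center (normSys F (Cfsg.thompsonSubgroupAOf S) hJS)
  have hZS : (normSys F (Cfsg.thompsonSubgroupAOf S) hJS).center ≤ S := hZ.1.trans inf_le_left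
  have hZc : ∀ z ∈ (normSys F (Cfsg.thompsonSubgroupAOf S) hJS).center, ∀ s ∈ S, z * s = s * z := by
    intro z hz s hs
    exact center_comm hZ hz (by rw [hNJ]; exact hs)
  constructor
  · rintro x ⟨hx, hxN⟩
    have h1 : ∃ z ∈ S, (∀ s ∈ S, z * s = s * z) ∧ z ^ p = x := by
      clear hxN
      refine Subgroup.closure_induction (p := fun x _ => ∃ z ∈ S, (∀ s ∈ S, z * s = s * z) ∧ z ^ p = x)
        ?_ ?_ ?_ ?_ hx
      · rintro _ ⟨z, hz, rfl⟩
        exact ⟨z, hz.1, fun s hs => (Subgroup.mem_centralizer_iff.1 hz.2 s hs).symm, rfl⟩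
      · exact ⟨1, S.one_mem, fun s _ => by simp, one_pow _⟩
      · rintro _ _ _ _ ⟨a, ha, hac, rfl⟩ ⟨b, hb, hbc, rfl⟩
        refine ⟨a * b, S.mul_mem ha hb, fun s hs => ?_, ?_⟩
        · rw [mul_assoc, hbc s hs, ← mul_assoc, hac s hs, mul_assoc]
        · exact (show Commute a b from hac b hb).mul_pow p
      · rintro _ _ ⟨a, ha, hac, rfl⟩
        refine ⟨a⁻¹, Subgroup.inv_mem S ha, fun s hs => ?_, inv_pow a p⟩
        exact ((show Commute a s from hac s hs).inv_left).eq
    obtain ⟨z, hz, hzc, rfl⟩ := h1
    exact pow_center_J hS F hF p (Or.inl rfl) hz hzc hxN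
  · intro hp
    apply le_antisymm _ (center_le_center_normSys _)
    intro z hz
    have := pow_center_J hS F hF 1 (Or.inr hp) (hZS hz) (hZc z hz) (by rw [pow_one]; exact hz)
    rwa [pow_one] at this

end Cfsg.Agent.S5193
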