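import Cfsg.Statements.S5220
import Cfsg.Agent.Lib.FusionGen3
-- import your own Cfsg.Agent.* helpers here

set_option autoImplicit false
open Cfsg

namespace Cfsg.Agent.S5220

/-- Let F be a saturated fusion system over a nontrivial finite p-group S, let J(S) be the subgroup generated by the abelian subgroups of S of largest order, and let V be the subgroup generated by the p-th powers of the elements of Z(S). Then F is generated by the centralizer fusion system of V and the normalizer fusion system of J(S): every fusion system over S containing the maps of both contains every map of F. -/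
theorem result {Ω : Type*} [Group Ω] {S : Subgroup Ω} [Finite S] (p : ℕ) [Fact p.Prime] (hS : IsPGroup p S) (F : Cfsg.FusionSystem S) (hF : F.IsSaturated p) (hS1 : S ≠ ⊥) (C : Cfsg.FusionSystem (Cfsg.FusionSystem.centralizerIn S (Cfsg.powerClosure p 1 (S ⊓ Subgroup.centralizer (S : Set Ω))))) (hC : F.IsCentralizerSystem (Cfsg.powerClosure p 1 (S ⊓ Subgroup.centralizer (S : Set Ω))) C) (N : Cfsg.FusionSystem (Cfsg.FusionSystem.normalizerIn S (Cfsg.thompsonSubgroupAOf S))) (hN : F.IsNormalizerSystem (Cfsg.thompsonSubgroupAOf S) N) (E : Cfsg.FusionSystem S) (hCE : C.IsSubsystemOf E) (hNE : N.IsSubsystemOf E) : F.IsSubsystemOf E := by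
  open Cfsg.FusionSystem CfsgLib.Fusion CfsgLib.SylowIn in
  have hJS : Cfsg.thompsonSubgroupAOf S ≤ S := wS_le CfsgLib.JA.WJ S
  have hNJ : normalizerIn S (Cfsg.thompsonSubgroupAOf S) = S :=
    normalizerIn_wS (WT2 (p := p) true) hS F
  have hVZ : Cfsg.powerClosure p 1 (S ⊓ Subgroup.centralizer (S : Set Ω)) ≤ S ⊓ Subgroup.centralizer (S : Set Ω) := by
    unfold Cfsg.powerClosure
    rw [Subgroup.closure_le]
    rintro _ ⟨z, hz, rfl⟩
    exact Subgroup.pow_mem _ hz _
  have hVS := hVZ.trans inf_le_left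
  have hCS : centralizerIn S (Cfsg.powerClosure p 1 (S ⊓ Subgroup.centralizer (S : Set Ω))) = S := by
    apply le_antisymm inf_le_left
    intro x hx
    exact mem_centralizerIn.2 ⟨hx, fun y hy => (Subgroup.mem_centralizer_iff.1 (hVZ hy).2 x hx)⟩
  have hN' := eq_normSys hJS hN
  have hC' := eq_centSys hVS hC
  subst hN' hC'
  rw [isSubsystem_iff] at hCE hNE ⊢
  have key : F ≤ infSys F E le_rfl := by
    refine gen_top (p := p) _ S hS F hF _ infSys_le rfl ?_ ?_
    · intro P f hf h
      refine FMap_infSys.2 ⟨hf, hCE P f ?_⟩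
      have hfix : ∀ y ∈ Cfsg.powerClosure p 1 (S ⊓ Subgroup.centralizer (S : Set Ω)), y ∈ P ∧ f y = y := by
        intro y hy
        refine Subgroup.closure_induction (p := fun y _ => y ∈ P ∧ f y = y) ?_ ?_ ?_ ?_ hy
        · rintro _ ⟨z, hz, rfl⟩
          rw [pow_one]
          exact h z hz.1 fun s hs => (Subgroup.mem_centralizer_iff.1 hz.2 s hs).symm
        · exact ⟨P.one_mem, hf.map_one⟩
        · rintro a b _ _ ⟨ha, ha'⟩ ⟨hb, hb'⟩
          exact ⟨P.mul_mem ha hb, by rw [hf.map_mul ha hb, ha', hb']⟩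
        · rintro a _ ⟨ha, ha'⟩
          exact ⟨Subgroup.inv_mem P ha, by rw [hf.map_inv ha, ha']⟩
      rw [FMap_centSys, hCS]
      refine ⟨hf, hf.le, fun x hx => hf.mapsTo hx, f, ?_, fun _ _ => rfl, fun x hx => (hfix x hx).2⟩
      rw [sup_eq_left.2 fun x hx => (hfix x hx).1]
      exact hf
    · intro P f hf h1 h2
      refine FMap_infSys.2 ⟨hf, hNE P f ?_⟩
      refine FMap_normSys_of_le hf h1 ?_ h2
      rw [hNJ]; exact hf.le
  intro P f hf
  exact (FMap_infSys.1 (le_iff_FMap.1 key P f hf)).2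

end Cfsg.Agent.S5220
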