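import Cfsg.Statements.S5295
import Cfsg.Agent.Lib.FusionTrace
-- import your own Cfsg.Agent.* helpers here

set_option autoImplicit false
universe u
open Cfsg

namespace Cfsg.Agent.S5295

/-- Let F be a saturated fusion system over a finite p-group S with p odd. Then the centre Z(F) of F is a direct factor of Z(S): there is a subgroup K of Z(S) with Z(F) ∩ K = 1 and Z(F)K = Z(S). (At the prime 2 this can fail.) -/
theorem result {Ω : Type u} [Group Ω] {S : Subgroup Ω} [Finite S] (p : ℕ) [Fact p.Prime] (hp : p ≠ 2) (hS : IsPGroup p S)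
    (F : Cfsg.FusionSystem S) (hF : F.IsSaturated p) :
    ∃ K : Subgroup Ω, K ≤ (S ⊓ Subgroup.centralizer (S : Set Ω)) ∧ F.center ⊓ K = ⊥ ∧ F.center ⊔ K = (S ⊓ Subgroup.centralizer (S : Set Ω)) := by
  open Cfsg.FusionSystem CfsgLib.Fusion CfsgLib.SylowIn in
  have hJS : Cfsg.thompsonSubgroupAOf S ≤ S := wS_le CfsgLib.JA.WJ S
  have hNJ : normalizerIn S (Cfsg.thompsonSubgroupAOf S) = S :=
    normalizerIn_wS (WT2 (p := p) true) hS F
  have hNf : Finite (normalizerIn S (Cfsg.thompsonSubgroupAOf S)) := finite_of_le inf_le_left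
  have hZ := isCentral_center (normSys F (Cfsg.thompsonSubgroupAOf S) hJS)
  have hZS : (normSys F (Cfsg.thompsonSubgroupAOf S) hJS).center ≤ S := hZ.1.trans inf_le_left
  have hZc : ∀ z ∈ (normSys F (Cfsg.thompsonSubgroupAOf S) hJS).center, ∀ s ∈ S, z * s = s * z := by
    intro z hz s hs
    exact center_comm hZ hz (by rw [hNJ]; exact hs)
  have hcen : (normSys F (Cfsg.thompsonSubgroupAOf S) hJS).center = F.center := by
    apply le_antisymm _ (center_le_center_normSys _)
    intro z hz
    have := pow_center_J hS F hF 1 (Or.inr (Or.inl hp)) (hZS hz) (hZc z hz) (by rw [pow_one]; exact hz)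
    rwa [pow_one] at this
  have hfn : F.IsFullyNormalized (Cfsg.thompsonSubgroupAOf S) := by
    refine ⟨hJS, fun R hR => ?_⟩
    rw [hNJ]
    exact card_le_of_le inf_le_left
  have hsat := normSys_saturated hS hF hfn
  have hfac := center_factor (hS.to_le (by rw [hNJ])) _ hsat (isNormal_normSys hJS) ?_
  · rw [hcen, hNJ] at hfac
    exact hfac
  · rw [hNJ]
    rintro z ⟨hz, hzc⟩
    refine ⟨⟨z, hz⟩, ?_, rfl⟩
    apply center_le_J
    rw [Subgroup.mem_center_iff]
    intro g
    exact Subtype.ext (Subgroup.mem_centralizer_iff.1 hzc g g.2)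

end Cfsg.Agent.S5295
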