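import Cfsg.Statements.S5299
import Cfsg.Agent.Lib.FusionLocal3
-- import your own Cfsg.Agent.* helpers here

set_option autoImplicit false
universe u
open Cfsg

namespace Cfsg.Agent.S5299

/-- Let F be a saturated fusion system over a finite p-group S, H a finite group and Q a p-subgroup of H. If Q is not involved in S (no section of S is isomorphic to Q), then F is H-free: H is involved in no model of the normalizer system of a fully normalized centric subgroup. -/
theorem result {Ω : Type u} [Group Ω] {S : Subgroup Ω} [Finite S] (p : ℕ) [Fact p.Prime] (hS : IsPGroup p S)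
    (F : Cfsg.FusionSystem S) (hF : F.IsSaturated p) (H : Type*) [Group H] [Finite H] (Q : Subgroup H) (hQ : IsPGroup p Q)
    (hfree : ¬ Cfsg.Involves (↥Q) (↥S)) : F.IsSectionFree p H := by
  open CfsgLib.Fusion CfsgLib in
  rw [sectionFree_iff]
  intro R hR hRc L _ ι hL hinv
  have hfin := hL.1
  have hNf : Finite (Cfsg.FusionSystem.normalizerIn S R) := finite_of_le inf_le_left
  have h1 := QModel.core (show IsPGroup p (Cfsg.FusionSystem.normalizerIn S R) from hS.to_le inf_le_left) hL
  have h2 : Involves Q L := Involves.trans (Involves.of_subgroup (Involves.refl Q)) hinv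
  have h3 := Involves.sylow hQ h2 (T := ι.range)
    (isPGroup_range (show IsPGroup p (Cfsg.FusionSystem.normalizerIn S R) from hS.to_le inf_le_left) ι) h1.idx
  have h4 : Involves Q (Cfsg.FusionSystem.normalizerIn S R) :=
    Involves.of_surjective h3 ι.rangeRestrict ι.rangeRestrict_surjective
  exact hfree (Involves.of_injective h4 (Subgroup.inclusion inf_le_left)
    (Subgroup.inclusion_injective _))

end Cfsg.Agent.S5299
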