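import Cfsg.Statements.S5323
import Cfsg.Agent.Lib.GolaySyl
import Cfsg.Agent.Lib.GolayM
import Cfsg.Agent.Lib.FusionFData
import Cfsg.Agent.Lib.Leech29

set_option autoImplicit false
open Cfsg

open scoped Pointwise
set_option linter.style.haveILetI false
namespace Cfsg.Agent.S5323

section
open Cfsg CfsgLib.Golay
open scoped Pointwise
def memB (P : ℕ) : Bool := and (Nat.beq (img P 0) 0) (Nat.beq (img P 1) 1)
theorem mem_iff {P : ℕ} {g : Equiv.Perm GolayPt} (hg : g ∈ M24) (hP : Packs P g) : g ∈ PS [pt 0, pt 1] ↔ memB P = true := by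
  rw [mem_PS, memB, Bool.and_eq_true, Nat.beq_eq, Nat.beq_eq]
  constructor
  · rintro ⟨-, h⟩
    have h4 := hP (pt 0)
    rw [h (pt 0) (by simp), idx_pt (by norm_num)] at h4
    have h5 := hP (pt 1)
    rw [h (pt 1) (by simp), idx_pt (by norm_num)] at h5
    exact ⟨h4.symm, h5.symm⟩
  · rintro ⟨h1, h2⟩
    refine ⟨hg, fun p hp => ?_⟩
    simp only [List.mem_cons, List.not_mem_nil, or_false] at hp
    rcases hp with rfl | rfl
    · exact hP.apply (by norm_num) h1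
    · exact hP.apply (by norm_num) h2
def pc : List (ℕ × List ℕ × List (List ℕ) × List ℕ) := [(0x71a4d7d4a89de8c4a9703da2418820, [], [], [0x71a4d7d4a89de8c4a9703da2418820]), (0x6c22e496b65d2ec7aa663a24418820, [], [[0]], [0x6c22e496b65d2ec7aa663a24418820, 0xa20b75c6464b5cc9a9f63c2a418820]), (0x7d6c971a11bcd6c6aa853c90418820, [], [[0], [1]], [0x7d6c971a11bcd6c6aa853c90418820, 0x9c8cbbd90573d2ca29b13d60418820, 0x5c613a22d56a5ecba9d2394c418820, 0x4950f6c0d2a2e6c72af53c6c418820]), (0x835662a5f78a2ccaaa4e3d26418820, [], [[0], [1], [2]], [0x835662a5f78a2ccaaa4e3d26418820, 0x451368ae6e2c0cc92ab73b5e418820, 0xb5de894d6da9a0c8a8b43b92418820, 0x33a70abd349590c2aa2d3dd6418820, 0x8adb2452ef816acb28d33a5c418820, 0x2a695835d34464c32acf3aee418820, 0xabee5339abb4a2c829093ce8418820, 0x94dd1b5e89354ac42a0b3bda418820]), (0xbae957b6289ba44b1cd0524ac18820, [], [[3, 0], [3, 1], [3, 2, 1, 0], [3]], [0xbae957b6289ba44b1cd0524ac18820,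 0x725b29d0b07dea431ec852e2c18820, 0x6bdd15dea64d0a481d1654e4c18820, 0xa4ee54ba565b62441e0653eac18820, 0x7b536bae0574cc4a9e515510c18820, 0x9d16672511bbec491ea55360c18820, 0x5de706bed2a250489cb5538cc18820, 0x4b9e8a4cd56ae0429e3255ecc18820, 0x854cb8d9ee2a12469e9754a6c18820, 0x44ac929a778c164a1dae555ec18820, 0xb450fac17491a64b9dcd5152c18820, 0x316139212dad9e471ef45456c18820, 0x8da4d856f34168459d2f519cc18820, 0x29ab4449cf845a449d7355aec18820, 0xac0b7b45a9349c479e6b5228c18820, 0x9222e3168bb56e499de9541ac18820]), (0xb99b28523343aaa4b16f258a718820, [], [[0], [4, 2], [4, 1], [3, 2, 1], [4]], [0xb99b28523343aaa4b16f258a718820, 0x75a95434af85e4a5b13321a2718820, 0x6a2e5b3aa93522a9b1eb2424718820, 0xa41d135e4bb34aa7b269222a718820, 0x7c9668a60e2cecaa31b72550718820, 0x9d5362ad178bcca6b28e24a0718820, 0x595e8aced49260a732ed244c718820, 0x4c67093ccdaad0abb1d4216c718820, 0x852c9b99e57216a932b12366718820, 0x434cb75a71bc12aab245251e718820,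 0xb3a136a172a19ea2b23525d2718820, 0x35d0fa41356da6a8b0b22396718820, 0x8a6b47cae8995aa332d022dc718820, 0x2ae4d9d5d07c68ab30c8226e718820, 0xace2e595a64caea4321623e8718820, 0x93cb74c6965d5ca8310624da718820, 0xba64d4562f83a87312d362caa18820, 0x72eb4848b345da7b10cf6262a18820, 0x6ccb7346abb51c74120963e4a18820, 0xa3e2eb1649336e78110b64eaa18820, 0x7d0cb2da178cd27912ae6350a18820, 0x9b6c98990e2bd67a92576520a18820, 0x5b90f942cdaa6672923465cca18820, 0x4de13aa0d492de7890ad63aca18820, 0x8493672df1ba0c7a11a56566a18820, 0x45566ba665742c769291649ea18820, 0xb1670a3d7569907712f26452a18820, 0x345e86cd32a5a07b91d56156a18820, 0x89a959b6f07964749168659ca18820, 0x2d9b27d1c89c6a75913061aea18820, 0xaa1d14ddb65c8a7991e66428a18820, 0x942e55ba864d62779276621aa18820]), (0x959c59dda87d6274a97061a8410c20, [], [[5, 3, 2, 1], [3, 2, 0], [4, 3], [5, 4, 2], [5, 4], [5]], [0x959c59dda87d6274a97061a8410c20, 0xa9af17ba909c8a75a928659a410c20, 0x2c2924b6e65c6a79a9f6621c410c20,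 0x8a1b55d1d6496477aa66642e410c20, 0x3566873d65bda07a29b16492410c20, 0xb49f0bcd31719076aa856556410c20, 0x44526a2df26c2c772af56166410c20, 0x815766a675a20c7ba9d2645e410c20, 0x4b5132c2ce8ade792ab7650c410c20, 0x5d20f8a0d72a667aaa4e636c410c20, 0x9dcc995a14abd672aa2d6390410c20, 0x7bacba990d94d278a8b465e0410c20, 0xa2cae446b3836e732acf6264410c20, 0x6a6378164f451c7b28d362ea410c20, 0x73e5435629b5da742a0b64ca410c20, 0xbceadb48ab33a878290963e2410c20, 0x6adc57de509d22a31ec8226ac10c20, 0xa26f19baa87b4aab1cd022e4c10c20, 0xbbe925b4b64baaa41e0624e2c10c20, 0x74db54d2265de4a81d1623cac10c20, 0x5b668bbcd17260a91ea5252cc10c20, 0x4d1f074ec5bad0aa9e51234cc10c20, 0x7dd266ad15a4eca29e3223a0c10c20, 0x9b976a26126bcca89cb525d0c10c20, 0xb55138c137299eaa1dae2496c10c20, 0x34a0f2a16e8da6a69e972552c10c20, 0x844c9ada6d9216a71ef4215ec10c20, 0x416cb919f4ac12ab9dcd2466c10c20, 0xad8ae8468f44aea49d73219ac10c20, 0x91a37415b3855ca59d2f25a8c10c20, 0x8c254b55cb315aa99de9222ec10c20,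 0x2a2ad34ae9b468a79e6b241cc10c20, 0xa19c585eaf436245b13355a4710c20, 0x6daf143a53850a44b16f51aa710c20, 0x72292b362b35ea47b269540a710c20, 0xbc1b5350a9b3a449b1eb5222710c20, 0x4ca688bed72ae046b28e554c710c20, 0x5d5f02ccce8a504a31b754ac710c20, 0x99526aae0d93ec4bb1d45450710c20, 0x7c57692514accc4732ed5160710c20, 0x35113bc171759e4ab2455352710c20, 0xb360f72125b9a64932b15516710c20, 0x438c96d9f5a41648b0b255e6710c20, 0x85ecba1a726a1242b235539e710c20, 0x924ae7c5b09d6e4b30c852e8710c20, 0xaae37996887c9c4332d0525a710c20, 0x2ce545d6f64c5a48310653dc710c20, 0x8bead4c9c6596844321654ee710c20, 0xaa5c545e9384a2cb10cf3adaa10c20, 0x92ef1839af454ac312d33a68a10c20, 0x8ce92335c9b16ac8110b3beea10c20, 0x2bdb5b52eb3464c412093cdca10c20, 0xb52682bd2e89a0ca92573b56a10c20, 0x335f08cd772d90c912ae3d12a10c20, 0x8392692e74aa2cc890ad3ddea10c20, 0x45d76aa5ed940cc292343ba6a10c20, 0x5c913740c5ba5ec692913d6ca10c20, 0x4d60fba2d172e6ca11a53c8ca10c20, 0x794c9a59126cd6cb91d53c60a10c20,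 0x9c6cb69a15a3d2c712f23950a10c20, 0x698ae9c6487d2ec591303daaa10c20, 0xa5a37796b09b5cc4916839a4a10c20, 0xba2544d4a65b9ac792763c22a10c20, 0x742ad5ca364de8c991e63a0aa10c20])]
def Z : ℕ := 0x71a4d7d4a89de8c4a9703da2418820
def sc : List (ℕ × ℕ × List ℕ) := [(0x6c22e496b65d2ec7aa663a24418820, 0x2da6fba6ae6c963408d4542243b020, [0]), (0x7d6c971a11bcd6c6aa853c90418820, 0x445375d2ce695e790cd3242ac12820, [1]), (0x835662a5f78a2ccaaa4e3d26418820, 0x44e8b499ed93aa780af61962453020, [2]), (0xbae957b6289ba44b1cd0524ac18820, 0x91a885d66ab360560c87725e2bc420, [3]), (0xb99b28523343aaa4b16f258a718820, 0xab24b252d03b52578d13ba8c28b820, [4]), (0x959c59dda87d6274a97061a8410c20, 0x29ef5849a9451cf1d84b9b22622820, [5])]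
def nb : List (ℕ × List (List ℕ)) := [(2, [[]]), (3, [[]]), (4, [[]]), (10, [[4]]), (5, [[]])]
theorem pcOk : pcB [] [idP] pc = true := by decide +kernel
theorem scOk : scB memB [Z] sc = true := by decide +kernel
theorem scG_eq : scG [Z] sc = pcG [] pc := by decide +kernel
theorem cenOk : cenB (pcL [idP] pc) (pcG [] pc) Z = true := by decide +kernel
theorem normOk : normB (pcL [idP] pc) 0 [0, 1] nb = true := by decide +kernel
theorem memOk : ((pcG [] pc).all fun P => and (good P) (memB P)) = true := by decide +kernel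
theorem lenOk : pc.length = 7 := by decide +kernel

theorem cardG : Nat.card (PS [pt 0, pt 1]) = 443520 := by
  exact card_PS_two (by decide : pt 0 ≠ pt 1)

theorem pcS : PC (pcG [] pc) (pcL [idP] pc) 7 := by
  have h := pc_spec pc [] [idP] 0 PC.nil pcOk
  rw [lenOk] at h
  exact h
def S0 : Subgroup (Equiv.Perm GolayPt) := cl (pcG [] pc)
theorem S0_le : S0 ≤ (PS [pt 0, pt 1]) := by
  rw [S0, cl, Subgroup.closure_le]
  rintro x ⟨P, hP, hx⟩
  have h := List.all_eq_true.mp memOk P hP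
  rw [Bool.and_eq_true] at h
  obtain ⟨y, hy, hyP⟩ := exists_of_good h.1
  rw [hx.eq hyP]
  exact (mem_iff hy hyP).mpr h.2
theorem fac {a n m : ℕ} (h : a = 2 ^ n * m) (hm : ¬ 2 ∣ m) : a.factorization 2 = n := by
  have h0 : m ≠ 0 := by rintro rfl; simp at hm
  rw [h, Nat.factorization_mul (by positivity) h0, Finsupp.add_apply, Nat.Prime.factorization_pow Nat.prime_two,
    Finsupp.single_eq_same, Nat.factorization_eq_zero_of_not_dvd hm, add_zero]
theorem norm0 : ∀ g ∈ (PS [pt 0, pt 1]), (∀ x, x ∈ S0 ↔ g * x * g⁻¹ ∈ S0) → g ∈ S0 := by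
  intro g hg hgn
  obtain ⟨s, hs, h1, h2⟩ := norm_spec (S0 := S0) pcS.enum pcS.all (INV := 0) (fun s hs q => by simp) nb [0, 1]
    (by simp) normOk g hgn (by
      intro i hi
      simp only [List.mem_cons, List.not_mem_nil, or_false] at hi
      rcases hi with rfl | rfl
      · exact hg.2 _ (by simp)
      · exact hg.2 _ (by simp)) (fun q => by simp)
  have hsg : s * g ∈ PS [pt 0, pt 1] := mul_mem (S0_le hs) hg
  have hbot := PS_frame (x0 := pt 0) (x1 := pt 1) (x2 := pt 2) (x3 := pt 3) (x4 := pt 4) (x5 := pt 10) (x6 := pt 5) O0_mem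
    (by rw [mem_O0]; decide) (by rw [mem_O0]; decide) (by rw [mem_O0]; decide)
    (by rw [mem_O0]; decide) (by rw [mem_O0]; decide) (by rw [mem_O0]; decide) (by decide)
    (by rw [mem_O0]; decide)
  have hmem : s * g ∈ PS [pt 5, pt 10, pt 4, pt 3, pt 2, pt 1, pt 0] := by
    rw [mem_PS]
    refine ⟨hsg.1, ?_⟩
    intro p hp
    simp only [List.mem_cons, List.not_mem_nil, or_false] at hp
    rcases hp with rfl | rfl | rfl | rfl | rfl | rfl | rfl
    · exact h2 (nb.getD 4 (0, [])) (by decide)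
    · exact h2 (nb.getD 3 (0, [])) (by decide)
    · exact h2 (nb.getD 2 (0, [])) (by decide)
    · exact h2 (nb.getD 1 (0, [])) (by decide)
    · exact h2 (nb.getD 0 (0, [])) (by decide)
    · exact h1 1 (by simp)
    · exact h1 0 (by simp)
  rw [hbot, Subgroup.mem_bot] at hmem
  have e : g = s⁻¹ := by rw [eq_comm, inv_eq_iff_mul_eq_one]; exact hmem
  rw [e]; exact inv_mem hs
theorem sc0 : ∀ T : Subgroup (Equiv.Perm GolayPt), T ≤ S0 → T ≠ ⊥ →
    (∀ x ∈ T, ∀ k ∈ (PS [pt 0, pt 1]), k * x * k⁻¹ ∈ S0 → k * x * k⁻¹ ∈ T) → T = S0 := by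
  intro T hT hT1 hTc
  apply le_antisymm hT
  have hex := pcS.ex
  have hz : ∀ a, Packs Z a → a ∈ T := z_mem pcS cenOk hT hT1 (by
    intro x hx k hk
    exact hTc x hx k (S0_le hk) (mul_mem (mul_mem hk (hT hx)) (inv_mem hk)))
  have h := sc_spec (G := (PS [pt 0, pt 1])) (S0 := S0) (T := T) (memB := memB) (fun P h h1 h2 h3 => (mem_iff h1 h2).mpr h3) hTc sc [Z] (by
      intro P hP
      exact hex P (by rw [← scG_eq]; exact scG_mem sc [Z] P hP)) scOk (by
      intro P hP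
      rw [scG_eq] at hP
      obtain ⟨x, hx⟩ := hex P hP
      exact ⟨x, mem_cl_of hP hx, hx⟩) (by
      rw [cl, Subgroup.closure_le]
      rintro x ⟨P, hP, hx⟩
      rw [List.mem_singleton] at hP
      subst hP
      exact hz x hx)
  rw [scG_eq] at h
  exact h
theorem fd : CfsgLib.Fusion.FData 2 (S0.subgroupOf (PS [pt 0, pt 1])) 7 :=
  CfsgLib.Fusion.FData.of_sub S0_le (by norm_num) pcS.card (fac (m := 3465) (by rw [cardG]; norm_num) (by norm_num)) norm0 sc0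

def cls (i : GolayPt) : Fin 5 :=
  if i = pt 0 then 0 else if i = pt 1 then 1 else if i = pt 2 ∨ i = pt 3 then 2 else
    if i = pt 4 ∨ i = pt 7 ∨ i = pt 10 ∨ i = pt 12 then 3 else 4
theorem sum_cls (v : Fin 5 → ℤ) (φ : ℤ → ℤ) : ∑ i : GolayPt, φ (v (cls i)) = φ (v 0) + φ (v 1) + 2 * φ (v 2) + 4 * φ (v 3) + 16 * φ (v 4) := by
  have h1 : ∑ i : GolayPt, φ (v (cls i)) = ∑ k : Fin 5, (Finset.univ.filter fun i => cls i = k).card • φ (v k) := by
    rw [← Finset.sum_fiberwise_of_maps_to (s := (Finset.univ : Finset GolayPt)) (t := (Finset.univ : Finset (Fin 5))) (g := cls) (fun i _ => Finset.mem_univ _)]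
    apply Finset.sum_congr rfl
    intro k _
    rw [← Finset.sum_const]
    apply Finset.sum_congr rfl
    intro i hi
    rw [(Finset.mem_filter.mp hi).2]
  have c0 : (Finset.univ.filter fun i : GolayPt => cls i = 0).card = 1 := by decide +kernel
  have c1 : (Finset.univ.filter fun i : GolayPt => cls i = 1).card = 1 := by decide +kernel
  have c2 : (Finset.univ.filter fun i : GolayPt => cls i = 2).card = 2 := by decide +kernel
  have c3 : (Finset.univ.filter fun i : GolayPt => cls i = 3).card = 4 := by decide +kernel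
  have c4 : (Finset.univ.filter fun i : GolayPt => cls i = 4).card = 16 := by decide +kernel
  rw [h1, Fin.sum_univ_five, c0, c1, c2, c3, c4]
  simp
def rep : Fin 5 → ℕ := ![0, 1, 2, 4, 5]
theorem orb_tab : ∀ i : GolayPt, (orbM (pcL [idP] pc) [] (rep (cls i))).testBit (idx i) = true := by
  have key : (ixs.all fun i => (orbM (pcL [idP] pc) [] (rep (cls (pt i)))).testBit i) = true := by decide +kernel
  intro i
  have h := List.all_eq_true.mp key (idx i) (mem_ixs.mpr (idx_lt i))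
  rwa [pt_idx] at h
theorem rep_lt : ∀ k, rep k < 24 := by decide
theorem const_of_fix {f : GolayPt → ℤ} (h : ∀ s ∈ S0, ∀ i, f (s i) = f i) (i : GolayPt) : f i = f (pt (rep (cls i))) := by
  have h1 := orb_tab i
  rw [mem_orb (S0 := S0) pcS.enum pcS.all (by simp) (rep_lt _)] at h1
  obtain ⟨x, hx, -, h2⟩ := h1
  have h3 := idx_injective h2
  calc f i = f (x (pt (rep (cls i)))) := by rw [h3]
    _ = _ := h x hx _
theorem solve {f0 f1 a b c : ℤ} (e1 : f0 + f1 = 8) (e2 : 2 * a + 4 * b + 16 * c = 4 * f0 - 32)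
    (e3 : f0 ^ 2 + f1 ^ 2 + 2 * a ^ 2 + 4 * b ^ 2 + 16 * c ^ 2 = 64) (p1 : a % 2 = f0 % 2) (p2 : b % 2 = f0 % 2) (p3 : c % 2 = f0 % 2) :
    f0 = 8 ∧ f1 = 0 ∧ a = 0 ∧ b = 0 ∧ c = 0 := by
  obtain ⟨t, rfl⟩ : ∃ t, f0 = t + 8 := ⟨f0 - 8, by ring⟩
  obtain rfl : f1 = -t := by linarith
  have h2 : a + 2 * b + 8 * c = 2 * t := by linarith
  have h3 : t ^ 2 + 8 * t + a ^ 2 + 2 * b ^ 2 + 8 * c ^ 2 = 0 := by nlinarith
  have h4 : (t + 4) ^ 2 + a ^ 2 + 2 * b ^ 2 + 8 * c ^ 2 = 16 := by linarith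
  have q1 := sq_nonneg (t + 4)
  have q2 := sq_nonneg a
  have q3 := sq_nonneg b
  have q4 := sq_nonneg c
  have hc : c ^ 2 ≤ 2 := by linarith
  have hb : b ^ 2 ≤ 8 := by linarith
  have ht : (t + 4) ^ 2 ≤ 16 := by linarith
  have hc1 : c ≤ 1 := by nlinarith
  have hc2 : -1 ≤ c := by nlinarith
  have hb1 : b ≤ 2 := by nlinarith
  have hb2 : -2 ≤ b := by nlinarith
  have ht1 : t ≤ 0 := by nlinarith
  have ht2 : -8 ≤ t := by nlinarith
  clear q1 q2 q3 q4 hc hb ht h4 e1 e2 e3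
  obtain rfl : a = 2 * t - 2 * b - 8 * c := by linarith
  clear h2
  interval_cases c <;> interval_cases b <;> interval_cases t <;> simp_all
theorem fix_e8 {g : Co0} (hgu : g • CfsgLib.Leech.u3 = CfsgLib.Leech.u3) (hgw : g • CfsgLib.Leech.uA = CfsgLib.Leech.uA)
    (hg : ∀ v : leechLattice, (∀ s : PS [pt 0, pt 1], (s : Equiv.Perm GolayPt) ∈ S0 → CfsgLib.Leech.mo (CfsgLib.Leech.psi _ s) • v = v) →
      ∀ s : PS [pt 0, pt 1], (s : Equiv.Perm GolayPt) ∈ S0 → CfsgLib.Leech.mo (CfsgLib.Leech.psi _ s) • (g • v) = g • v) :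
    ∃ τ : PS [pt 0, pt 1], g = CfsgLib.Leech.mo (CfsgLib.Leech.psi _ τ) := by
  have h1 := hg (CfsgLib.Leech.e8 (pt 0)) (by
    intro s hs
    rw [CfsgLib.Leech.mo_e8]
    exact congrArg CfsgLib.Leech.e8 (s.2.2 _ (by simp)))
  have hfix : ∀ s ∈ S0, ∀ i, ((g • CfsgLib.Leech.e8 (pt 0) : leechLattice) : GolayPt → ℤ) (s i) = ((g • CfsgLib.Leech.e8 (pt 0) : leechLattice) : GolayPt → ℤ) i := by
    intro s hs i
    have h2 := congrFun (congrArg Subtype.val (h1 ⟨s, S0_le hs⟩ hs)) (s i)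
    rw [CfsgLib.Leech.mo_apply] at h2
    rw [← h2]
    exact congrArg _ (s.symm_apply_apply i)
  have d1 := CfsgLib.Leech.co_dot g (CfsgLib.Leech.e8 (pt 0)) CfsgLib.Leech.u3
  have d2 := CfsgLib.Leech.co_dot g (CfsgLib.Leech.e8 (pt 0)) CfsgLib.Leech.uA
  rw [hgu, CfsgLib.Leech.dot_symm _ (CfsgLib.Leech.u3 : GolayPt → ℤ), CfsgLib.Leech.dot_symm _ (CfsgLib.Leech.u3 : GolayPt → ℤ), CfsgLib.Leech.dot_e8, CfsgLib.Leech.u3_val, CfsgLib.Leech.uo_same] at d1
  rw [hgw, CfsgLib.Leech.dot_symm ((CfsgLib.Leech.e8 (pt 0) : leechLattice) : GolayPt → ℤ), CfsgLib.Leech.dot_e8, CfsgLib.Leech.uA_val, CfsgLib.Leech.dot_u44, CfsgLib.Leech.u44_left CfsgLib.Leech.pt01] at d2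
  have d3 := CfsgLib.Leech.co_norm g (CfsgLib.Leech.e8 (pt 0))
  rw [CfsgLib.Leech.norm_e8] at d3
  have hL := (g • CfsgLib.Leech.e8 (pt 0) : leechLattice).2
  set f := ((g • CfsgLib.Leech.e8 (pt 0) : leechLattice) : GolayPt → ℤ) with hf
  have hcst := const_of_fix hfix
  set v : Fin 5 → ℤ := fun k => f (pt (rep k)) with hv
  have hfv : ∀ i, f i = v (cls i) := hcst
  have s1 : ∑ i, f i = v 0 + v 1 + 2 * v 2 + 4 * v 3 + 16 * v 4 := by
    rw [Finset.sum_congr rfl (fun i _ => hfv i)]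
    exact sum_cls v id
  have s2 : sqNorm f = v 0 ^ 2 + v 1 ^ 2 + 2 * v 2 ^ 2 + 4 * v 3 ^ 2 + 16 * v 4 ^ 2 := by
    unfold sqNorm
    rw [Finset.sum_congr rfl (fun i _ => by rw [hfv i])]
    exact sum_cls v (fun x => x ^ 2)
  have s3 : dotInt (CfsgLib.Leech.uo (pt 0) (-3)) f = (∑ i, f i) - 4 * f (pt 0) := by
    unfold dotInt
    rw [← Finset.add_sum_erase Finset.univ _ (Finset.mem_univ (pt 0)), ← Finset.add_sum_erase Finset.univ f (Finset.mem_univ (pt 0)), CfsgLib.Leech.uo_same]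
    have : ∑ i ∈ Finset.univ.erase (pt 0), CfsgLib.Leech.uo (pt 0) (-3) i * f i = ∑ i ∈ Finset.univ.erase (pt 0), f i :=
      Finset.sum_congr rfl (fun i hi => by rw [CfsgLib.Leech.uo_ne _ (Finset.ne_of_mem_erase hi), one_mul])
    rw [this]; ring
  have v0 : v 0 = f (pt 0) := rfl
  have v1 : v 1 = f (pt 1) := rfl
  rw [s3, s1, ← v0] at d1
  rw [← v0, ← v1] at d2
  rw [s2] at d3
  have hpar : ∀ i, f i % 2 = f (pt 0) % 2 := by
    obtain ⟨C, hC | hC⟩ := CfsgLib.Leech.mem_leech.mp hL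
    · intro i
      have h3 := hC.2.1 i
      have h4 := hC.2.1 (pt 0)
      split_ifs at h3 h4 <;> omega
    · intro i
      have h3 := hC.2.1 i
      have h4 := hC.2.1 (pt 0)
      split_ifs at h3 h4 <;> omega
  obtain ⟨r0, r1, r2, r3, r4⟩ := solve (f0 := v 0) (f1 := v 1) (a := v 2) (b := v 3) (c := v 4) (by omega) (by omega) d3
    (hpar _) (hpar _) (hpar _)
  obtain ⟨τ, hτ, rfl⟩ := CfsgLib.Leech.fix_form (CfsgLib.Leech.e8_of_supp (fun i hi => by
    show f i = 0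
    rw [hfv i]
    have hi0 : cls i ≠ 0 := by
      revert hi; revert i; decide +kernel
    have key : ∀ k : Fin 5, k ≠ 0 → v k = 0 := by
      intro k hk
      fin_cases k
      · exact absurd rfl hk
      · exact r1
      · exact r2
      · exact r3
      · exact r4
    exact key _ hi0) r0) CfsgLib.Leech.u3_val hgu
  exact ⟨⟨τ, CfsgLib.Leech.mem_PS_two hτ (CfsgLib.Leech.fix_one hτ (by norm_num) CfsgLib.Leech.uA_val hgw)⟩, rfl⟩
theorem fdM : ∃ T : Subgroup ↥(MulAction.stabilizer Co0 CfsgLib.Leech.u3 ⊓ MulAction.stabilizer Co0 CfsgLib.Leech.uA),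
    CfsgLib.Fusion.FData 2 T 7 := by
  have hc : Nat.card ↥(MulAction.stabilizer Co0 CfsgLib.Leech.u3 ⊓ MulAction.stabilizer Co0 CfsgLib.Leech.uA) = 898128000 :=
    CfsgLib.Leech.card_mcl CfsgLib.Leech.norm_u3 CfsgLib.Leech.norm_uA (by
      rw [CfsgLib.Leech.uA_val, CfsgLib.Leech.u3_val, CfsgLib.Leech.dot_u44, CfsgLib.Leech.uo_same, CfsgLib.Leech.uo_ne (-3) CfsgLib.Leech.pt01.symm]; norm_num)
  have hM : ∀ τ : PS [pt 0, pt 1], CfsgLib.Leech.mo (CfsgLib.Leech.psi _ τ) ∈ MulAction.stabilizer Co0 CfsgLib.Leech.u3 ⊓ MulAction.stabilizer Co0 CfsgLib.Leech.uA :=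
    fun τ => ⟨MulAction.mem_stabilizer_iff.mpr (CfsgLib.Leech.mo_uo (τ.2.2 _ (by simp)) CfsgLib.Leech.u3_val),
      MulAction.mem_stabilizer_iff.mpr (CfsgLib.Leech.mo_u44 (τ.2.2 _ (by simp)) (τ.2.2 _ (by simp)) CfsgLib.Leech.uA_val)⟩
  let f : PS [pt 0, pt 1] →* ↥(MulAction.stabilizer Co0 CfsgLib.Leech.u3 ⊓ MulAction.stabilizer Co0 CfsgLib.Leech.uA) :=
    (CfsgLib.Leech.mo.comp (CfsgLib.Leech.psi _)).codRestrict _ hM
  have hfi : Function.Injective f := by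
    intro a b hab
    have h4 := CfsgLib.Leech.mo_inj (congrArg Subtype.val hab)
    exact Subtype.ext (congrArg (fun x : M24 => (x : Equiv.Perm GolayPt)) h4)
  refine ⟨_, fd.up f hfi (fac (m := 7016625) (by rw [hc]; norm_num) (by norm_num)) ?_⟩
  intro g hg
  have hgu : (g : Co0) • CfsgLib.Leech.u3 = CfsgLib.Leech.u3 := MulAction.mem_stabilizer_iff.mp g.2.1
  have hgw : (g : Co0) • CfsgLib.Leech.uA = CfsgLib.Leech.uA := MulAction.mem_stabilizer_iff.mp g.2.2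
  obtain ⟨τ, hτ⟩ := fix_e8 hgu hgw (by
    intro v hv s hs
    have h1 : g * (g⁻¹ * f s * g) * g⁻¹ ∈ (S0.subgroupOf (PS [pt 0, pt 1])).map f := by
      have e : g * (g⁻¹ * f s * g) * g⁻¹ = f s := by group
      rw [e]; exact ⟨s, hs, rfl⟩
    rw [← hg] at h1
    obtain ⟨s', hs', h2⟩ := h1
    have h3 : f s * g = g * f s' := by rw [h2]; group
    have h4 : ((f s : _) : Co0) * g = g * ((f s' : _) : Co0) := congrArg Subtype.val h3
    show ((f s : _) : Co0) • ((g : Co0) • v) = (g : Co0) • v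
    rw [← mul_smul, h4, mul_smul]
    congr 1
    exact hv s' hs')
  exact ⟨τ, Subtype.ext hτ.symm⟩
end


/-- For a finite group G isomorphic to the McLaughlin group, the 2-fusion system of G on a Sylow 2-subgroup is simple: saturated, over a nontrivial 2-group, with no normal subsystem other than the trivial one and itself. -/
theorem result {G : Type*} [Group G] [Finite G] (hG : Cfsg.Spor.IsoMcL G) (S : Sylow 2 G) : (Cfsg.groupFusionSystem (S : Subgroup G)).IsSimple 2 := by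
  haveI : Fact (Nat.Prime 2) := ⟨Nat.prime_two⟩
  obtain ⟨e⟩ := hG
  obtain ⟨T, hT⟩ := fdM
  have h1 : MulAction.stabilizer Cfsg.Co0 Cfsg.Spor.leechV ⊓ MulAction.stabilizer Cfsg.Co0 Cfsg.Spor.leechU =
      MulAction.stabilizer Cfsg.Co0 Cfsg.Spor.leechU ⊓ MulAction.stabilizer Cfsg.Co0 (-(Cfsg.Spor.leechV + Cfsg.Spor.leechU)) := by
    ext g
    rw [Subgroup.mem_inf, Subgroup.mem_inf, MulAction.mem_stabilizer_iff, MulAction.mem_stabilizer_iff, MulAction.mem_stabilizer_iff,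
      CfsgLib.Leech.co_neg, CfsgLib.Leech.co_add]
    constructor
    · rintro ⟨a, b⟩; exact ⟨b, by rw [a, b]⟩
    · rintro ⟨a, b⟩
      rw [a, neg_inj, add_left_inj] at b
      exact ⟨b, a⟩
  have d0 := CfsgLib.Leech.dot_VU
  have n1 := CfsgLib.Leech.norm_leechU
  have n2 := CfsgLib.Leech.norm_leechV
  have n3 : Cfsg.sqNorm ((-(Cfsg.Spor.leechV + Cfsg.Spor.leechU) : Cfsg.leechLattice) : Cfsg.GolayPt → ℤ) = 32 := by
    show Cfsg.sqNorm (-((Cfsg.Spor.leechV : Cfsg.GolayPt → ℤ) + (Cfsg.Spor.leechU : Cfsg.GolayPt → ℤ))) = 32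
    rw [CfsgLib.Leech.sqNorm_eq_dot, CfsgLib.Leech.dot_neg_right, CfsgLib.Leech.dot_symm, CfsgLib.Leech.dot_neg_right, neg_neg,
      ← CfsgLib.Leech.sqNorm_eq_dot, CfsgLib.Leech.norm_add, n1, n2, d0]; norm_num
  have n4 : Cfsg.dotInt ((Cfsg.Spor.leechU : Cfsg.leechLattice) : Cfsg.GolayPt → ℤ) ((-(Cfsg.Spor.leechV + Cfsg.Spor.leechU) : Cfsg.leechLattice) : Cfsg.GolayPt → ℤ) = -8 := by
    show Cfsg.dotInt (Cfsg.Spor.leechU : Cfsg.GolayPt → ℤ) (-((Cfsg.Spor.leechV : Cfsg.GolayPt → ℤ) + (Cfsg.Spor.leechU : Cfsg.GolayPt → ℤ))) = -8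
    rw [CfsgLib.Leech.dot_neg_right, CfsgLib.Leech.dot_symm, CfsgLib.Leech.dot_add_left, d0, ← CfsgLib.Leech.sqNorm_eq_dot, n1]; norm_num
  obtain ⟨g, hg1, hg2⟩ := CfsgLib.Leech.trans_T2 _ _ n1 n3 n4
  obtain ⟨e2⟩ := CfsgLib.Leech.stab_conj_pair g hg1 hg2
  have e3 : G ≃* ↥(MulAction.stabilizer Cfsg.Co0 CfsgLib.Leech.u3 ⊓ MulAction.stabilizer Cfsg.Co0 CfsgLib.Leech.uA) :=
    ((e.trans CfsgLib.Leech.mclEquiv).trans (MulEquiv.subgroupCongr h1)).trans (e2.trans (MulEquiv.subgroupCongr (inf_comm _ _)))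
  exact (hT.of_equiv e3.symm).simple S

end Cfsg.Agent.S5323
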