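import Cfsg.Statements.S5599
import Cfsg.Agent.Lib.GolayM

set_option autoImplicit false
open scoped Pointwise
open Cfsg

open scoped Pointwise
namespace Cfsg.Agent.S5599

/-- In the automorphism group of the length-24 code, the two-point Mathieu group (permutations of the code's group fixing the extra point and the residue 0) has index 2 in the setwise stabiliser of that pair of points, and an element of the code's group interchanging the two points normalises the two-point group and induces on it, by conjugation, an automorphism that is not inner. -/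
theorem result (g : Equiv.Perm Cfsg.GolayPt) (hg : g ∈ Cfsg.M24) (h₁ : g none = some 0) (h₂ : g (some 0) = none) : Cfsg.Spor.M22.relIndex (Cfsg.M24 ⊓ MulAction.stabilizer (Equiv.Perm Cfsg.GolayPt) ({none, some 0} : Finset Cfsg.GolayPt)) = 2 ∧ (∀ x ∈ Cfsg.Spor.M22, g * x * g⁻¹ ∈ Cfsg.Spor.M22) ∧ ¬ ∃ h ∈ Cfsg.Spor.M22, ∀ x ∈ Cfsg.Spor.M22, g * x * g⁻¹ = h * x * h⁻¹ := by
  classical
  have hM22 : ∀ x, x ∈ Cfsg.Spor.M22 ↔ x ∈ Cfsg.M24 ∧ x none = none ∧ x (some 0) = some 0 := by
    intro x
    constructor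
    · rintro ⟨⟨a, b⟩, c⟩; exact ⟨a, b, c⟩
    · rintro ⟨a, b, c⟩; exact ⟨⟨a, b⟩, c⟩
  have hK : ∀ x : Equiv.Perm Cfsg.GolayPt, x ∈ (Cfsg.M24 ⊓ MulAction.stabilizer (Equiv.Perm Cfsg.GolayPt) ({none, some 0} : Finset Cfsg.GolayPt)) ↔
      x ∈ Cfsg.M24 ∧ ((x none = none ∧ x (some 0) = some 0) ∨ (x none = some 0 ∧ x (some 0) = none)) := by
    intro x
    show (x ∈ Cfsg.M24 ∧ x • ({none, some 0} : Finset Cfsg.GolayPt) = {none, some 0}) ↔ _
    apply and_congr_right
    intro _
    have e : x • ({none, some 0} : Finset Cfsg.GolayPt) = {x none, x (some 0)} := by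
      ext y; rw [Finset.mem_smul_finset]; simp [eq_comm]
    rw [e]
    constructor
    · intro h
      have h1 : x none ∈ ({none, some 0} : Finset Cfsg.GolayPt) := by rw [← h]; simp
      have h2 : x (some 0) ∈ ({none, some 0} : Finset Cfsg.GolayPt) := by rw [← h]; simp
      have h3 : x none ≠ x (some 0) := fun h => absurd (x.injective h) (by simp)
      simp only [Finset.mem_insert, Finset.mem_singleton] at h1 h2
      rcases h1 with h1 | h1 <;> rcases h2 with h2 | h2
      · exact absurd (h1.trans h2.symm) h3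
      · exact Or.inl ⟨h1, h2⟩
      · exact Or.inr ⟨h1, h2⟩
      · exact absurd (h1.trans h2.symm) h3
    · rintro (⟨h1, h2⟩ | ⟨h1, h2⟩)
      · rw [h1, h2]
      · rw [h1, h2, Finset.pair_comm]
  have hgi : g⁻¹ none = some 0 ∧ g⁻¹ (some 0) = none := by
    rw [Equiv.Perm.inv_eq_iff_eq, Equiv.Perm.inv_eq_iff_eq]; exact ⟨h₂.symm, h₁.symm⟩
  have hnorm : ∀ x ∈ Cfsg.Spor.M22, g * x * g⁻¹ ∈ Cfsg.Spor.M22 := by
    intro x hx
    rw [hM22] at hx ⊢
    refine ⟨mul_mem (mul_mem hg hx.1) (inv_mem hg), ?_, ?_⟩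
    · rw [Equiv.Perm.mul_apply, Equiv.Perm.mul_apply, hgi.1, hx.2.2, h₂]
    · rw [Equiv.Perm.mul_apply, Equiv.Perm.mul_apply, hgi.2, hx.2.1, h₁]
  refine ⟨?_, hnorm, ?_⟩
  · rw [Subgroup.relIndex_eq_two_iff]
    refine ⟨g, (hK g).mpr ⟨hg, Or.inr ⟨h₁, h₂⟩⟩, ?_⟩
    intro b hb
    rw [hK] at hb
    obtain ⟨hbM, hb⟩ := hb
    have hne : (none : Cfsg.GolayPt) ≠ some 0 := by simp
    rcases hb with ⟨b1, b2⟩ | ⟨b1, b2⟩
    · right
      refine ⟨(hM22 b).mpr ⟨hbM, b1, b2⟩, ?_⟩
      rw [hM22]
      rintro ⟨-, h, -⟩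
      rw [Equiv.Perm.mul_apply, h₁, b2] at h
      exact hne h.symm
    · left
      refine ⟨(hM22 _).mpr ⟨mul_mem hbM hg, ?_, ?_⟩, ?_⟩
      · rw [Equiv.Perm.mul_apply, h₁, b2]
      · rw [Equiv.Perm.mul_apply, h₂, b1]
      · rw [hM22]
        rintro ⟨-, h, -⟩
        rw [b1] at h
        exact hne h.symm
  · rintro ⟨h, hh, hall⟩
    have hh' := (hM22 h).mp hh
    set c := h⁻¹ * g with hc
    have hcM : c ∈ Cfsg.M24 := mul_mem (inv_mem hh'.1) hg
    have hhi : h⁻¹ none = none ∧ h⁻¹ (some 0) = some 0 := by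
      rw [Equiv.Perm.inv_eq_iff_eq, Equiv.Perm.inv_eq_iff_eq]; exact ⟨hh'.2.1.symm, hh'.2.2.symm⟩
    have c1 : c none = some 0 := by rw [hc, Equiv.Perm.mul_apply, h₁, hhi.2]
    have c2 : c (some 0) = none := by rw [hc, Equiv.Perm.mul_apply, h₂, hhi.1]
    have hcomm : ∀ x ∈ Cfsg.Spor.M22, c * x = x * c := by
      intro x hx
      have h3 := hall x hx
      have h4 : h⁻¹ * (g * x * g⁻¹) * h = x := by rw [h3]; group
      rw [hc]
      calc h⁻¹ * g * x = (h⁻¹ * (g * x * g⁻¹) * h) * (h⁻¹ * g) := by group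
        _ = x * (h⁻¹ * g) := by rw [h4]
    have hfix : ∀ a : Cfsg.GolayPt, a ≠ none → a ≠ some 0 → c a = a := by
      intro a ha1 ha2
      by_contra hca
      have hb1 : c a ≠ none := by rw [← c2]; exact fun h => ha2 (c.injective h)
      have hb2 : c a ≠ some 0 := by rw [← c1]; exact fun h => ha1 (c.injective h)
      obtain ⟨b', hb'⟩ : ∃ b' : Cfsg.GolayPt, b' ∉ [none, some 0, a, c a] := by
        by_contra hcon
        push Not at hcon
        have h1 : (Finset.univ : Finset Cfsg.GolayPt) ⊆ [none, some 0, a, c a].toFinset := fun z _ => List.mem_toFinset.mpr (hcon z)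
        have h2 := Finset.card_le_card h1
        have h3 := [none, some 0, a, c a].toFinset_card_le
        have h24 : (Finset.univ : Finset Cfsg.GolayPt).card = 24 := by decide
        simp only [List.length_cons, List.length_nil] at h3
        omega
      simp only [List.mem_cons, List.not_mem_nil, or_false, not_or] at hb'
      obtain ⟨x, hx, hxm⟩ := CfsgLib.Golay.trans_list (l := [none, some 0, a, c a]) (l' := [none, some 0, a, b'])
        (by simp only [List.nodup_cons, List.mem_cons, List.not_mem_nil, or_false, not_or, List.nodup_nil, and_true,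
              not_false_eq_true]
            exact ⟨⟨by simp, ha1.symm, hb1.symm⟩, ⟨ha2.symm, hb2.symm⟩, fun h => hca h.symm⟩)
        (by simp only [List.nodup_cons, List.mem_cons, List.not_mem_nil, or_false, not_or, List.nodup_nil, and_true,
              not_false_eq_true]
            exact ⟨⟨by simp, ha1.symm, fun h => hb'.1 h.symm⟩, ⟨ha2.symm, fun h => hb'.2.1 h.symm⟩, fun h => hb'.2.2.1 h.symm⟩)
        rfl (by simp)
      simp only [List.map_cons, List.map_nil, List.cons.injEq, and_true] at hxm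
      obtain ⟨x1, x2, x3, x4⟩ := hxm
      have h5 := congrArg (fun (f : Equiv.Perm Cfsg.GolayPt) => f a) (hcomm x ((hM22 x).mpr ⟨hx, x1, x2⟩))
      simp only [Equiv.Perm.mul_apply] at h5
      rw [x3, x4] at h5
      exact hb'.2.2.2 h5.symm
    have h6 := CfsgLib.Golay.eq_one_of_fix_ten hcM ({none, some 0}ᶜ) (by
      rw [Finset.card_compl]
      have : ({none, some 0} : Finset Cfsg.GolayPt).card ≤ 2 := Finset.card_le_two
      have h24 : Fintype.card Cfsg.GolayPt = 24 := by decide
      omega) (by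
      intro p hp
      simp only [Finset.mem_compl, Finset.mem_insert, Finset.mem_singleton, not_or] at hp
      exact hfix p hp.1 hp.2)
    rw [h6] at c1
    simp at c1

end Cfsg.Agent.S5599
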