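import Cfsg.Statements.S5728

set_option autoImplicit false
open Cfsg

set_option linter.style.haveILetI false
namespace Cfsg.Agent.S5728

/-- An elusive transitive action. Let p = 2^s − 1 be a prime and let F be the field with p² elements. Inside the group of affine maps x ↦ a·x + b of F (a ≠ 0), consider the subgroup of maps with both coefficients in the prime field. Then every element of prime order of the affine group is conjugate, within the affine group, to an element of that subgroup; equivalently, in the transitive action of the affine group on the cosets of that subgroup (of degree p(p + 1)) every element of prime order fixes a point. -/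
theorem result (p s : ℕ) [Fact p.Prime] (hs : p = 2 ^ s - 1)
    (g : Equiv.Perm (GaloisField p 2)) (hg : g ∈ Cfsg.affineGroup (GaloisField p 2)) (hord : (orderOf g).Prime) :
    ∃ x ∈ Cfsg.affineGroup (GaloisField p 2), ∃ a b : ZMod p, a ≠ 0 ∧
      ∀ y : GaloisField p 2, (x * g * x⁻¹) y = algebraMap (ZMod p) (GaloisField p 2) a * y + algebraMap (ZMod p) (GaloisField p 2) b := by
  classical
  have hpp : p.Prime := Fact.out
  have hp2 : p ≠ 2 := by
    intro h
    rw [h] at hs
    rcases Nat.eq_zero_or_pos s with h0 | h0
    · rw [h0] at hs; norm_num at hs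
    · have h1 : 2 ^ s = 3 := by
        have := Nat.one_le_two_pow (n := s)
        omega
      have h2 : 2 ∣ 2 ^ s := dvd_pow_self 2 h0.ne'
      rw [h1] at h2
      omega
  have hcard : Nat.card (GaloisField p 2) = p ^ 2 := GaloisField.card p 2 (by norm_num)
  haveI : Fintype (GaloisField p 2) := Fintype.ofFinite (GaloisField p 2)
  obtain ⟨a, b, hab⟩ := hg
  have hpow : ∀ (k : ℕ), ∃ b' : (GaloisField p 2), ∀ y, (g ^ k) y = (a : (GaloisField p 2)) ^ k * y + b' := by
    intro k
    induction k with
    | zero => exact ⟨0, fun y => by rw [pow_zero, pow_zero, one_mul, add_zero]; rfl⟩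
    | succ k ih =>
      obtain ⟨b', hb'⟩ := ih
      refine ⟨(a : (GaloisField p 2)) ^ k * b + b', fun y => ?_⟩
      rw [pow_succ, Equiv.Perm.mul_apply, hab, hb']
      ring
  by_cases ha : (a : (GaloisField p 2)) = 1
  · -- translation
    have hb : b ≠ 0 := by
      intro hb
      have : g = 1 := by
        ext y
        rw [hab, ha, hb, one_mul, add_zero]; rfl
      rw [this, orderOf_one] at hord
      exact Nat.not_prime_one hord
    let e : Equiv.Perm (GaloisField p 2) := Equiv.mulLeft₀ b⁻¹ (inv_ne_zero hb)
    refine ⟨e, ⟨Units.mk0 b⁻¹ (inv_ne_zero hb), 0, fun x => by rw [add_zero]; rfl⟩, 1, 1, one_ne_zero, fun y => ?_⟩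
    have he : ∀ z, e⁻¹ z = b * z := by
      intro z
      apply e.injective
      rw [← Equiv.Perm.mul_apply, mul_inv_cancel]
      change z = b⁻¹ * (b * z)
      rw [inv_mul_cancel_left₀ hb]
    rw [Equiv.Perm.mul_apply, Equiv.Perm.mul_apply, he, hab, ha, map_one, one_mul, one_mul]
    change b⁻¹ * (b * y + b) = y + 1
    field_simp
  · -- homothety
    have ha1 : (a : (GaloisField p 2)) - 1 ≠ 0 := sub_ne_zero.2 ha
    let c : (GaloisField p 2) := b / ((a : (GaloisField p 2)) - 1)
    let e : Equiv.Perm (GaloisField p 2) := Equiv.addRight c
    have hr : (a : (GaloisField p 2)) ^ (orderOf g) = 1 := by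
      obtain ⟨b', hb'⟩ := hpow (orderOf g)
      have h1 : ∀ y, y = (a : (GaloisField p 2)) ^ (orderOf g) * y + b' := by
        intro y
        rw [← hb', pow_orderOf_eq_one]; rfl
      have h0 := h1 0
      rw [mul_zero, zero_add] at h0
      have h2 := h1 1
      rw [mul_one, ← h0, add_zero] at h2
      exact h2.symm
    have hap : (a : (GaloisField p 2)) ^ (p - 1) = 1 := by
      rcases (Nat.Prime.eq_two_or_odd' hord) with h2 | hodd
      · rw [h2] at hr
        rcases (sq_eq_one_iff.1 hr) with h | h
        · exact absurd h ha
        · rw [h]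
          have : Even (p - 1) := by
            rcases hpp.eq_two_or_odd' with h | h
            · exact absurd h hp2
            · exact Nat.Odd.sub_odd h odd_one
          exact this.neg_one_pow
      · have h1 : (a : (GaloisField p 2)) ^ (p ^ 2 - 1) = 1 := by
          have := FiniteField.pow_card_sub_one_eq_one (a : (GaloisField p 2)) a.ne_zero
          rwa [← Nat.card_eq_fintype_card, hcard] at this
        have h2 : orderOf (a : (GaloisField p 2)) ∣ p ^ 2 - 1 := orderOf_dvd_of_pow_eq_one h1
        have h3 : orderOf (a : (GaloisField p 2)) ∣ orderOf g := orderOf_dvd_of_pow_eq_one hr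
        have h4 : Nat.Coprime (orderOf (a : (GaloisField p 2))) (p + 1) := by
          have h5 : p + 1 = 2 ^ s := by
            have := Nat.one_le_two_pow (n := s)
            omega
          rw [h5]
          apply Nat.Coprime.pow_right
          exact (Nat.Coprime.coprime_dvd_left h3 (Nat.coprime_two_right.2 hodd))
        have h6 : p ^ 2 - 1 = (p + 1) * (p - 1) := by
          have := Nat.sq_sub_sq p 1
          rwa [one_pow] at this
        rw [h6] at h2
        exact orderOf_dvd_iff_pow_eq_one.1 (h4.dvd_of_dvd_mul_left h2)
    have hmem : ∃ z : ZMod p, algebraMap (ZMod p) (GaloisField p 2) z = a := by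
      have h1 : (a : (GaloisField p 2)) ^ p = a := by
        obtain ⟨k, hk⟩ : ∃ k, k = p - 1 := ⟨_, rfl⟩
        have h2 : p = k + 1 := by have := hpp.pos; omega
        rw [← hk] at hap
        calc (a : GaloisField p 2) ^ p = a ^ (k + 1) := congrArg (fun j => (a : GaloisField p 2) ^ j) h2
          _ = a := by rw [pow_succ, hap, one_mul]
      have h3 : (a : (GaloisField p 2)) ∈ Set.range (algebraMap (ZMod p) (GaloisField p 2)) := by
        have h4 : (a : (GaloisField p 2)) ∈ (Finset.univ.image (algebraMap (ZMod p) (GaloisField p 2)) : Finset (GaloisField p 2)) := by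
          by_contra hno
          let P : Polynomial (GaloisField p 2) := Polynomial.X ^ p - Polynomial.X
          have hP : P ≠ 0 := FiniteField.X_pow_card_sub_X_ne_zero (GaloisField p 2) hpp.one_lt
          have hdeg : P.natDegree = p := FiniteField.X_pow_card_sub_X_natDegree_eq (GaloisField p 2) hpp.one_lt
          have hsub : insert (a : (GaloisField p 2)) (Finset.univ.image (algebraMap (ZMod p) (GaloisField p 2))) ⊆ P.roots.toFinset := by
            intro x hx
            rw [Multiset.mem_toFinset, Polynomial.mem_roots hP, Polynomial.IsRoot.def, Polynomial.eval_sub, Polynomial.eval_pow, Polynomial.eval_X, sub_eq_zero]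
            rw [Finset.mem_insert] at hx
            rcases hx with hx | hx
            · rw [hx]; exact h1
            · rw [Finset.mem_image] at hx
              obtain ⟨z, -, rfl⟩ := hx
              rw [← map_pow, ZMod.pow_card]
          have h5 := Finset.card_le_card hsub
          rw [Finset.card_insert_of_notMem hno, Finset.card_image_of_injective _ (algebraMap (ZMod p) (GaloisField p 2)).injective, Finset.card_univ, ZMod.card] at h5
          have h6 := Multiset.toFinset_card_le P.roots
          have h7 := Polynomial.card_roots' P
          omega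
        obtain ⟨z, -, hz⟩ := Finset.mem_image.1 h4
        exact ⟨z, hz⟩
      exact h3
    obtain ⟨z, hz⟩ := hmem
    have hz0 : z ≠ 0 := by
      rintro rfl
      rw [map_zero] at hz
      exact a.ne_zero hz.symm
    refine ⟨e, ⟨1, c, fun x => by rw [Units.val_one, one_mul]; rfl⟩, z, 0, hz0, fun y => ?_⟩
    have he : ∀ w, e⁻¹ w = w - c := by
      intro w
      apply e.injective
      rw [← Equiv.Perm.mul_apply, mul_inv_cancel]
      change w = w - c + c
      rw [sub_add_cancel]
    rw [Equiv.Perm.mul_apply, Equiv.Perm.mul_apply, he, hab, hz, map_zero, add_zero]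
    change (a : (GaloisField p 2)) * (y - c) + b + c = a * y
    have h8 : c * ((a : (GaloisField p 2)) - 1) = b := div_mul_cancel₀ b ha1
    rw [← h8]
    ring

end Cfsg.Agent.S5728
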